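import Mathlib

/-!
# The Tits group case of the classification of minimal simple groups and N-groups: definitions

`z` is an involution of `G`, `p` a second one; `points` are the conjugates of `z`, the pairs `(x, y)` conjugate to
`(z, p)` are the pairs of different collinear points (`Adj z p x y`), the third point of their line is `x * y`.
`U z p x` is the group generated by the lines on `x`. `FinHyp z p` is the final configuration
`|C(z)| = 2 ^ 11 * 5`, `|Q| = 2 ^ 9`, `U = C(U)` elementary abelian of order `2 ^ 5`, 5 lines on each point,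
`[U_x, U_y] ≠ 1` for collinear points.
See the blueprint `P21-Tits-helper786.md`.
-/

set_option autoImplicit false

namespace Cfsg.Agent.Classification.TitsFin

open Subgroup

variable {G : Type*} [Group G]

/-- `(x, y)` is conjugate to `(z, p)` -/
def Adj (z p x y : G) : Prop := ∃ g : G, g * z * g⁻¹ = x ∧ g * p * g⁻¹ = y

/-- the group generated by the lines on `x` -/
def U (z p x : G) : Subgroup G := closure (insert x {y | Adj z p x y})

/-- `g` fixes `x` and all the lines on `x` -/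
def InQ (z p x g : G) : Prop :=
  g * x = x * g ∧ ∀ y, Adj z p x y → g * y * g⁻¹ = y ∨ g * y * g⁻¹ = x * y

/-- The final configuration. -/
structure FinHyp (z p : G) : Prop where
  z_sq : z * z = 1
  z_ne : z ≠ 1
  p_ne : p ≠ z
  zp : z * p = p * z
  /-- `N_G(⟨z, p⟩)` induces `S₃` -/
  swap : Adj z p p z
  rot : Adj z p z (z * p)
  comm : ∀ x y, Adj z p z x → Adj z p z y → x * y = y * x
  cardU : Nat.card (U z p z) = 32
  cent : ∀ g, (∀ u ∈ U z p z, g * u = u * g) → g ∈ U z p z
  /-- five lines on a point -/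
  cardA : Nat.card {x // Adj z p z x} = 10
  cardC : Nat.card (centralizer ({z} : Set G)) = 10240
  cardQ : Nat.card {g : G // InQ z p z g} = 512
  ncomm : ∃ x y, Adj z p z x ∧ Adj z p p y ∧ x * y ≠ y * x

section adj

variable {z p x y : G}

theorem Adj.conj (h : Adj z p x y) (g : G) : Adj z p (g * x * g⁻¹) (g * y * g⁻¹) := by
  obtain ⟨k, h1, h2⟩ := h
  exact ⟨g * k, by rw [← h1]; group, by rw [← h2]; group⟩

theorem adj_conj_iff (g : G) : Adj z p (g * x * g⁻¹) (g * y * g⁻¹) ↔ Adj z p x y := by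
  refine ⟨fun h => ?_, fun h => h.conj g⟩
  have h1 := h.conj g⁻¹
  have e : ∀ w : G, g⁻¹ * (g * w * g⁻¹) * g⁻¹⁻¹ = w := fun w => by group
  rwa [e, e] at h1

theorem adj_iff_of_conj {g x' y' : G} (hx : g * x * g⁻¹ = x') (hy : g * y * g⁻¹ = y') :
    Adj z p x' y' ↔ Adj z p x y := by
  rw [← hx, ← hy, adj_conj_iff]

theorem mem_U_of_adj (h : Adj z p x y) : y ∈ U z p x := subset_closure (Or.inr h)

theorem self_mem_U : x ∈ U z p x := subset_closure (Or.inl rfl)

theorem map_U (g : G) : (U z p x).map (MulAut.conj g).toMonoidHom = U z p (g * x * g⁻¹) := by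
  unfold U
  rw [MonoidHom.map_closure]
  congr 1
  ext w
  constructor
  · rintro ⟨v, hv | hv, rfl⟩
    · subst hv
      exact Or.inl rfl
    · exact Or.inr (Adj.conj hv g)
  · rintro (rfl | hw)
    · exact ⟨x, Or.inl rfl, rfl⟩
    · refine ⟨g⁻¹ * w * g, Or.inr ?_, by
        show g * (g⁻¹ * w * g) * g⁻¹ = w
        group⟩
      have h1 : g * (g⁻¹ * w * g) * g⁻¹ = w := by group
      exact (adj_iff_of_conj (g := g) rfl h1).mp hw

theorem conj_mem_U {g u : G} : g * u * g⁻¹ ∈ U z p (g * x * g⁻¹) ↔ u ∈ U z p x := by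
  rw [← map_U]
  constructor
  · rintro ⟨v, hv, hvu⟩
    have : v = u := by
      have h1 : g * v * g⁻¹ = g * u * g⁻¹ := hvu
      simpa using h1
    rwa [← this]
  · intro h
    exact ⟨u, h, rfl⟩

theorem InQ.conj {g : G} (h : InQ z p x g) (k : G) : InQ z p (k * x * k⁻¹) (k * g * k⁻¹) := by
  refine ⟨?_, fun y hy => ?_⟩
  · have h1 := h.1
    calc k * g * k⁻¹ * (k * x * k⁻¹) = k * (g * x) * k⁻¹ := by group
      _ = k * (x * g) * k⁻¹ := by rw [h1]
      _ = k * x * k⁻¹ * (k * g * k⁻¹) := by group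
  · have h2 : Adj z p x (k⁻¹ * y * k) := by
      rw [← adj_iff_of_conj (g := k) (x' := k * x * k⁻¹) (y' := y) rfl (by group)]
      exact hy
    have e1 : k * g * k⁻¹ * y * (k * g * k⁻¹)⁻¹ = k * (g * (k⁻¹ * y * k) * g⁻¹) * k⁻¹ := by group
    rcases h.2 _ h2 with h3 | h3
    · left
      rw [e1, h3]
      group
    · right
      rw [e1, h3]
      group

theorem inQ_conj_iff {g : G} (k : G) : InQ z p (k * x * k⁻¹) (k * g * k⁻¹) ↔ InQ z p x g := by
  refine ⟨fun h => ?_, fun h => h.conj k⟩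
  have h1 := h.conj k⁻¹
  have e : ∀ w : G, k⁻¹ * (k * w * k⁻¹) * k⁻¹⁻¹ = w := fun w => by group
  rwa [e, e] at h1

end adj

/-! ### `tw` and `el` -/

/-- `x ^ a` -/
def tw (x : G) (a : ZMod 2) : G := x ^ a.val

@[simp] theorem tw_zero (x : G) : tw x 0 = 1 := pow_zero x

@[simp] theorem tw_one (x : G) : tw x 1 = x := pow_one x

theorem zmod2 (a : ZMod 2) : a = 0 ∨ a = 1 := by revert a; decide

theorem tw_add {x : G} (h : x * x = 1) (a b : ZMod 2) : tw x (a + b) = tw x a * tw x b := by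
  rcases zmod2 a with rfl | rfl <;> rcases zmod2 b with rfl | rfl
  · simp
  · simp
  · simp
  · simp [h, show (1 : ZMod 2) + 1 = 0 from rfl]

theorem tw_sq {x : G} (h : x * x = 1) (a : ZMod 2) : tw x a * tw x a = 1 := by
  rcases zmod2 a with rfl | rfl
  · simp
  · simpa using h

theorem tw_comm {x y : G} (h : x * y = y * x) (a b : ZMod 2) : tw x a * tw y b = tw y b * tw x a := by
  rcases zmod2 a with rfl | rfl <;> rcases zmod2 b with rfl | rfl <;> simp [h]

theorem tw_conj (g x : G) (a : ZMod 2) : g * tw x a * g⁻¹ = tw (g * x * g⁻¹) a := by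
  rcases zmod2 a with rfl | rfl <;> simp

theorem tw_tw (x y : G) (a b : ZMod 2) :
    tw (tw x a * y) b = tw x (a * b) * tw y b := by
  rcases zmod2 a with rfl | rfl <;> rcases zmod2 b with rfl | rfl <;> simp

/-- the element with coordinates `(a, s)` -/
def el (x : G) (y : ZMod 5 → G) (a : ZMod 2) (s : ZMod 5 → ZMod 2) : G :=
  tw x a * (tw (y 0) (s 0) * (tw (y 1) (s 1) * (tw (y 2) (s 2) * (tw (y 3) (s 3) * tw (y 4) (s 4)))))

/-- all the elements commute and are involutions (or 1) -/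
structure Elem (x : G) (y : ZMod 5 → G) : Prop where
  xx : x * x = 1
  yy : ∀ i, y i * y i = 1
  xy : ∀ i, x * y i = y i * x
  yc : ∀ i j, y i * y j = y j * y i

section el

variable {x : G} {y : ZMod 5 → G}

theorem mul4 {a r b t : G} (h : r * b = b * r) : (a * r) * (b * t) = (a * b) * (r * t) := by
  rw [mul_assoc a r, ← mul_assoc r b, h, mul_assoc, mul_assoc]

theorem Elem.el_mul (h : Elem x y) (a b : ZMod 2) (s t : ZMod 5 → ZMod 2) :
    el x y a s * el x y b t = el x y (a + b) (s + t) := by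
  have hc : ∀ i j (a b : ZMod 2), Commute (tw (y i) a) (tw (y j) b) := fun i j a b => tw_comm (h.yc i j) a b
  have hx : ∀ i (a b : ZMod 2), Commute (tw (y i) a) (tw x b) := fun i a b => (tw_comm (h.xy i) b a).symm
  unfold el
  rw [mul4 (by
    exact (((hx 0 _ _).mul_left ((hx 1 _ _).mul_left ((hx 2 _ _).mul_left ((hx 3 _ _).mul_left (hx 4 _ _))))))),
    mul4 (((hc 1 0 _ _).mul_left ((hc 2 0 _ _).mul_left ((hc 3 0 _ _).mul_left (hc 4 0 _ _))))),
    mul4 (((hc 2 1 _ _).mul_left ((hc 3 1 _ _).mul_left (hc 4 1 _ _)))),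
    mul4 ((hc 3 2 _ _).mul_left (hc 4 2 _ _)),
    mul4 (hc 4 3 _ _)]
  simp only [Pi.add_apply, tw_add h.xx, tw_add (h.yy _)]

@[simp] theorem el_zero (x : G) (y : ZMod 5 → G) : el x y 0 0 = 1 := by simp [el]

theorem Elem.el_sq (h : Elem x y) (a : ZMod 2) (s : ZMod 5 → ZMod 2) : el x y a s * el x y a s = 1 := by
  have h1 : ∀ t : ZMod 5 → ZMod 2, t + t = 0 := by decide
  have h2 : ∀ a : ZMod 2, a + a = 0 := by decide
  rw [h.el_mul, h1, h2, el_zero]

theorem Elem.el_inv (h : Elem x y) (a : ZMod 2) (s : ZMod 5 → ZMod 2) : (el x y a s)⁻¹ = el x y a s :=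
  inv_eq_of_mul_eq_one_left (h.el_sq a s)

theorem Elem.el_comm (h : Elem x y) (a b : ZMod 2) (s t : ZMod 5 → ZMod 2) :
    el x y a s * el x y b t = el x y b t * el x y a s := by
  rw [h.el_mul, h.el_mul, add_comm a, add_comm s]

theorem el_x (x : G) (y : ZMod 5 → G) : el x y 1 0 = x := by simp [el]

theorem el_tw (x : G) (y : ZMod 5 → G) (a : ZMod 2) : el x y a 0 = tw x a := by simp [el]

theorem el_single (x : G) (y : ZMod 5 → G) (i : ZMod 5) : el x y 0 (Pi.single i 1) = y i := by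
  have h : ∀ i : ZMod 5, i = 0 ∨ i = 1 ∨ i = 2 ∨ i = 3 ∨ i = 4 := by decide
  rcases h i with rfl | rfl | rfl | rfl | rfl <;>
    simp [el, show (1 : ZMod 5) ≠ 0 by decide, show (2 : ZMod 5) ≠ 0 by decide,
      show (3 : ZMod 5) ≠ 0 by decide, show (4 : ZMod 5) ≠ 0 by decide,
      show (0 : ZMod 5) ≠ 1 by decide, show (2 : ZMod 5) ≠ 1 by decide,
      show (3 : ZMod 5) ≠ 1 by decide, show (4 : ZMod 5) ≠ 1 by decide,
      show (0 : ZMod 5) ≠ 2 by decide, show (1 : ZMod 5) ≠ 2 by decide,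
      show (3 : ZMod 5) ≠ 2 by decide, show (4 : ZMod 5) ≠ 2 by decide,
      show (0 : ZMod 5) ≠ 3 by decide, show (1 : ZMod 5) ≠ 3 by decide,
      show (2 : ZMod 5) ≠ 3 by decide, show (4 : ZMod 5) ≠ 3 by decide,
      show (0 : ZMod 5) ≠ 4 by decide, show (1 : ZMod 5) ≠ 4 by decide,
      show (2 : ZMod 5) ≠ 4 by decide, show (3 : ZMod 5) ≠ 4 by decide]

end el

end Cfsg.Agent.Classification.TitsFin
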