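import Cfsg.Agent.Classification.TitsFin.LocalFour

/-!
# Local structure of the Tits configuration

All the local facts: `LocalOne` (one point, coordinates), `LocalTwo` (two collinear points), `LocalThree`
(involutions commuting with a point), `LocalFour` (the second class of involutions).
-/
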