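import Mathlib

/-!
# Octagon geometry of order `(2, 4)`: number of lines, unique short paths, apartments
-/

set_option autoImplicit false

namespace Cfsg.Agent.Classification.TitsFin.Octagon

variable {P L : Type*}

/-- `x` and `y` are different points of the line `l` -/
def Fl (I : P → L → Prop) (x : P) (l : L) (y : P) : Prop := I x l ∧ I y l ∧ x ≠ y

/-- equal or collinear -/
def Col (I : P → L → Prop) (x y : P) : Prop := ∃ l, I x l ∧ I y l

/-- Points and lines with 3 points per line, 5 lines per point, such that the ends of (non-stammering) paths of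
length 0, 2, 4, 6, 8 are distinguished by `rel`, and every line has distance at most 7 from every point. -/
structure Oct (I : P → L → Prop) (rel : P → P → ℕ) : Prop where
  three : ∀ l, Nat.card {x // I x l} = 3
  five : ∀ x, Nat.card {l // I x l} = 5
  rel0 : ∀ x, rel x x = 0
  rel1 : ∀ {x0 l1 x1}, Fl I x0 l1 x1 → rel x0 x1 = 1
  rel2 : ∀ {x0 l1 x1 l2 x2}, Fl I x0 l1 x1 → l1 ≠ l2 → Fl I x1 l2 x2 → rel x0 x2 = 2
  rel3 : ∀ {x0 l1 x1 l2 x2 l3 x3}, Fl I x0 l1 x1 → l1 ≠ l2 → Fl I x1 l2 x2 → l2 ≠ l3 → Fl I x2 l3 x3 →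
    rel x0 x3 = 3
  rel4 : ∀ {x0 l1 x1 l2 x2 l3 x3 l4 x4}, Fl I x0 l1 x1 → l1 ≠ l2 → Fl I x1 l2 x2 → l2 ≠ l3 → Fl I x2 l3 x3 →
    l3 ≠ l4 → Fl I x3 l4 x4 → rel x0 x4 = 4
  near : ∀ x m, ∃ x1 x2 x3, Col I x x1 ∧ Col I x1 x2 ∧ Col I x2 x3 ∧ I x3 m

/-- `Arr I x n w m`: there is a non-stammering path of length `2 n + 1` from the point `x` to the line `m`, with last
point `w`. -/
inductive Arr (I : P → L → Prop) (x : P) : ℕ → P → L → Prop
  | zero {m : L} (h : I x m) : Arr I x 0 x m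
  | succ {n : ℕ} {w : P} {m : L} (h : Arr I x n w m) {z : P} {m' : L} (hz : I z m) (hzw : z ≠ w)
      (hz' : I z m') (hm : m ≠ m') : Arr I x (n + 1) z m'

section basic

variable {I : P → L → Prop} {rel : P → P → ℕ} {x : P}

theorem arr_mem {n : ℕ} {w : P} {m : L} (h : Arr I x n w m) : I w m := by
  cases h with
  | zero h => exact h
  | succ h hz hzw hz' hm => exact hz'

theorem Oct.rel_next (h : Oct I rel) {n : ℕ} {w z : P} {m : L} (ha : Arr I x n w m) (hn : n ≤ 3)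
    (hz : I z m) (hzw : z ≠ w) : rel x z = n + 1 := by
  cases ha with
  | zero h1 => exact h.rel1 ⟨h1, hz, hzw.symm⟩
  | succ ha hy hyw hy' hm =>
    cases ha with
    | zero h1 => exact h.rel2 ⟨h1, hy, hyw.symm⟩ hm ⟨hy', hz, hzw.symm⟩
    | succ ha hv hvw hv' hm2 =>
      cases ha with
      | zero h1 => exact h.rel3 ⟨h1, hv, hvw.symm⟩ hm2 ⟨hv', hy, hyw.symm⟩ hm ⟨hy', hz, hzw.symm⟩
      | succ ha hu huw hu' hm3 =>
        cases ha with
        | zero h1 =>
          exact h.rel4 ⟨h1, hu, huw.symm⟩ hm3 ⟨hu', hv, hvw.symm⟩ hm2 ⟨hv', hy, hyw.symm⟩ hm ⟨hy', hz, hzw.symm⟩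
        | succ ha ht htw ht' hm4 => omega

theorem Oct.rel_arr (h : Oct I rel) {n : ℕ} {w : P} {m : L} (ha : Arr I x n w m) (hn : n ≤ 4) :
    rel x w = n := by
  cases ha with
  | zero h1 => exact h.rel0 x
  | succ ha hy hyw hy' hm => exact h.rel_next ha (by omega) hy hyw

theorem Oct.uniq (h : Oct I rel) {n n' : ℕ} {w w' : P} {m : L} (ha : Arr I x n w m)
    (ha' : Arr I x n' w' m) (hn : n ≤ 3) (hn' : n' ≤ 3) : n = n' ∧ w = w' := by
  have hw : w = w' := by
    by_contra hne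
    have h1 := h.rel_next ha hn (arr_mem ha') (Ne.symm hne)
    have h2 := h.rel_next ha' hn' (arr_mem ha) hne
    have h3 := h.rel_arr ha (by omega)
    have h4 := h.rel_arr ha' (by omega)
    omega
  subst hw
  exact ⟨(h.rel_arr ha (by omega)).symm.trans (h.rel_arr ha' (by omega)), rfl⟩

theorem Oct.uniq_line (h : Oct I rel) {n : ℕ} {w w' z : P} {m m' k : L} (ha : Arr I x n w m)
    (ha' : Arr I x n w' m') (hn : n + 1 ≤ 3) (hz : I z m) (hzw : z ≠ w) (hz' : I z m')
    (_hk : I z k) : m = m' := by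
  by_contra hne
  have h1 : Arr I x (n + 1) z m' := Arr.succ ha hz hzw hz' hne
  have h2 := h.uniq h1 ha' hn (by omega)
  omega

end basic

/-- a path of length 7 from a point to a line is unique -/
theorem Oct.unique {I : P → L → Prop} {rel : P → P → ℕ} (h : Oct I rel)
    {x l1 x1 l2 x2 l3 x3 m l1' x1' l2' x2' l3' x3'}
    (a1 : Fl I x l1 x1) (b1 : l1 ≠ l2) (a2 : Fl I x1 l2 x2) (b2 : l2 ≠ l3) (a3 : Fl I x2 l3 x3)
    (b3 : l3 ≠ m) (a4 : I x3 m)
    (a1' : Fl I x l1' x1') (b1' : l1' ≠ l2') (a2' : Fl I x1' l2' x2') (b2' : l2' ≠ l3')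
    (a3' : Fl I x2' l3' x3') (b3' : l3' ≠ m) (a4' : I x3' m) :
    l1 = l1' ∧ x1 = x1' ∧ l2 = l2' ∧ x2 = x2' ∧ l3 = l3' ∧ x3 = x3' := by
  have A0 : Arr I x 0 x l1 := Arr.zero a1.1
  have A1 : Arr I x 1 x1 l2 := Arr.succ A0 a1.2.1 a1.2.2.symm a2.1 b1
  have A2 : Arr I x 2 x2 l3 := Arr.succ A1 a2.2.1 a2.2.2.symm a3.1 b2
  have A3 : Arr I x 3 x3 m := Arr.succ A2 a3.2.1 a3.2.2.symm a4 b3
  have A0' : Arr I x 0 x l1' := Arr.zero a1'.1
  have A1' : Arr I x 1 x1' l2' := Arr.succ A0' a1'.2.1 a1'.2.2.symm a2'.1 b1'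
  have A2' : Arr I x 2 x2' l3' := Arr.succ A1' a2'.2.1 a2'.2.2.symm a3'.1 b2'
  have A3' : Arr I x 3 x3' m := Arr.succ A2' a3'.2.1 a3'.2.2.symm a4' b3'
  obtain ⟨-, e3⟩ := h.uniq A3 A3' le_rfl le_rfl
  subst e3
  have f3 := h.uniq_line A2 A2' le_rfl a3.2.1 a3.2.2.symm a3'.2.1 a4
  subst f3
  obtain ⟨-, e2⟩ := h.uniq A2 A2' (by norm_num) (by norm_num)
  subst e2
  have f2 := h.uniq_line A1 A1' (by norm_num) a2.2.1 a2.2.2.symm a2'.2.1 a3.1
  subst f2
  obtain ⟨-, e1⟩ := h.uniq A1 A1' (by norm_num) (by norm_num)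
  subst e1
  have f1 := h.uniq_line A0 A0' (by norm_num) a1.2.1 a1.2.2.symm a1'.2.1 a2.1
  subst f1
  exact ⟨rfl, rfl, rfl, rfl, rfl, rfl⟩

section reach

variable {I : P → L → Prop} {rel : P → P → ℕ} {x : P}

/-- `y` has distance at most `2 k` from `x`. -/
def Reach (I : P → L → Prop) (x : P) (k : ℕ) (y : P) : Prop :=
  y = x ∨ ∃ n < k, ∃ w m, Arr I x n w m ∧ I y m ∧ y ≠ w

theorem reach_of_arr {n : ℕ} {w : P} {m : L} (h : Arr I x n w m) : Reach I x n w := by
  cases h with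
  | zero h => exact Or.inl rfl
  | succ h hz hzw hz' hm => exact Or.inr ⟨_, Nat.lt_succ_self _, _, _, h, hz, hzw⟩

theorem Reach.mono {k k' : ℕ} (hk : k ≤ k') {y : P} (h : Reach I x k y) : Reach I x k' y := by
  rcases h with h | ⟨n, hn, w, m, h⟩
  · exact Or.inl h
  · exact Or.inr ⟨n, lt_of_lt_of_le hn hk, w, m, h⟩

theorem Reach.step {k : ℕ} {y z : P} (h : Reach I x k y) (hc : Col I y z) : Reach I x (k + 1) z := by
  obtain ⟨l', hy, hz⟩ := hc
  by_cases hzy : z = y
  · rw [hzy]; exact h.mono (Nat.le_succ k)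
  rcases h with rfl | ⟨n, hn, w, l, ha, hyl, hyw⟩
  · exact Or.inr ⟨0, Nat.succ_pos k, _, _, Arr.zero hy, hz, hzy⟩
  · by_cases hll : l = l'
    · subst hll
      by_cases hzw : z = w
      · rw [hzw]; exact (reach_of_arr ha).mono (by omega)
      · exact Or.inr ⟨n, by omega, w, l, ha, hz, hzw⟩
    · exact Or.inr ⟨n + 1, by omega, y, l', Arr.succ ha hyl hyw hy hll, hz, hzy⟩

theorem Reach.arr {k : ℕ} {y : P} (h : Reach I x k y) {m : L} (hm : I y m) :
    ∃ n ≤ k, ∃ w, Arr I x n w m := by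
  rcases h with rfl | ⟨n, hn, w, l, ha, hyl, hyw⟩
  · exact ⟨0, Nat.zero_le k, _, Arr.zero hm⟩
  · by_cases hlm : l = m
    · subst hlm; exact ⟨n, hn.le, w, ha⟩
    · exact ⟨n + 1, hn, y, Arr.succ ha hyl hyw hm hlm⟩

theorem Oct.exists_arr (h : Oct I rel) (x : P) (m : L) : ∃ n ≤ 3, ∃ w, Arr I x n w m := by
  obtain ⟨x1, x2, x3, c1, c2, c3, hm⟩ := h.near x m
  have h0 : Reach I x 0 x := Or.inl rfl
  exact (((h0.step c1).step c2).step c3).arr hm

/-- another point of a line -/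
theorem Oct.exists_point (h : Oct I rel) (l : L) (y : P) : ∃ z, I z l ∧ z ≠ y := by
  by_contra hcon
  push Not at hcon
  have h1 : Nat.card {x // I x l} ≤ 1 := by
    have : Subsingleton {x // I x l} := ⟨fun a b => Subtype.ext ((hcon a a.2).trans (hcon b b.2).symm)⟩
    exact Finite.card_le_one_iff_subsingleton.2 this
  have := h.three l
  omega

/-- another line through a point -/
theorem Oct.exists_line (h : Oct I rel) (y : P) (l : L) : ∃ m, I y m ∧ l ≠ m := by
  by_contra hcon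
  push Not at hcon
  have h1 : Nat.card {l // I y l} ≤ 1 := by
    have : Subsingleton {l // I y l} := ⟨fun a b => Subtype.ext ((hcon a a.2).symm.trans (hcon b b.2))⟩
    exact Finite.card_le_one_iff_subsingleton.2 this
  have := h.five y
  omega

end reach

/-- there is an apartment -/
theorem Oct.exists_apartment {I : P → L → Prop} {rel : P → P → ℕ} [Nonempty P] (h : Oct I rel) :
    ∃ (X : ZMod 8 → P) (l : ZMod 8 → L), ∀ i, Fl I (X i) (l i) (X (i + 1)) ∧ l i ≠ l (i + 1) := by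
  obtain ⟨x⟩ := ‹Nonempty P›
  obtain ⟨l1, hl1⟩ : ∃ l, I x l := by
    have h5 := h.five x
    have : Nonempty {l // I x l} := (Nat.card_pos_iff.1 (by omega)).1
    exact ⟨this.some.1, this.some.2⟩
  obtain ⟨x1, hx1, hx1x⟩ := h.exists_point l1 x
  obtain ⟨l2, hl2, h12⟩ := h.exists_line x1 l1
  obtain ⟨x2, hx2, hx21⟩ := h.exists_point l2 x1
  obtain ⟨l3, hl3, h23⟩ := h.exists_line x2 l2
  obtain ⟨x3, hx3, hx32⟩ := h.exists_point l3 x2
  obtain ⟨l4, hl4, h34⟩ := h.exists_line x3 l3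
  obtain ⟨x4, hx4, hx43⟩ := h.exists_point l4 x3
  obtain ⟨m, hm, h4m⟩ := h.exists_line x4 l4
  have A0 : Arr I x 0 x l1 := Arr.zero hl1
  have A1 : Arr I x 1 x1 l2 := Arr.succ A0 hx1 hx1x hl2 h12
  have A2 : Arr I x 2 x2 l3 := Arr.succ A1 hx2 hx21 hl3 h23
  have A3 : Arr I x 3 x3 l4 := Arr.succ A2 hx3 hx32 hl4 h34
  have A4 : Arr I x 4 x4 m := Arr.succ A3 hx4 hx43 hm h4m
  obtain ⟨n, hn, w, hw⟩ := h.exists_arr x m
  have r4 : rel x x4 = 4 := h.rel_arr A4 le_rfl
  have hwx : x4 ≠ w := by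
    intro he
    have := h.rel_arr hw (by omega)
    rw [← he] at this
    omega
  have hn3 : n = 3 := by
    have := h.rel_next hw hn hm hwx
    omega
  subst hn3
  cases hw with
  | succ hw hy hyw hy' hmm =>
    rename_i y2 m3
    cases hw with
    | succ hw hv hvw hv' hm2 =>
      rename_i y1 m2
      cases hw with
      | succ hw hu huw hu' hm1 =>
        rename_i y0 m1
        cases hw with
        | zero h0 =>
          -- base point `x1`
          have hne : l1 ≠ m1 := by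
            intro he
            subst he
            have B0 : Arr I x1 0 x1 l2 := Arr.zero hl2
            have B1 : Arr I x1 1 x2 l3 := Arr.succ B0 hx2 hx21 hl3 h23
            have B2 : Arr I x1 2 x3 l4 := Arr.succ B1 hx3 hx32 hl4 h34
            have B3 : Arr I x1 3 x4 m := Arr.succ B2 hx4 hx43 hm h4m
            by_cases he : y1 = x1
            · subst he
              have C0 : Arr I y1 0 y1 m2 := Arr.zero hu'
              have C1 : Arr I y1 1 y2 m3 := Arr.succ C0 hv hvw hv' hm2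
              have C2 : Arr I y1 2 w m := Arr.succ C1 hy hyw hy' hmm
              have := (h.uniq B3 C2 le_rfl (by norm_num)).1
              omega
            · have C0 : Arr I x1 0 x1 l1 := Arr.zero hx1
              have C1 : Arr I x1 1 y1 m2 := Arr.succ C0 hu he hu' hm1
              have C2 : Arr I x1 2 y2 m3 := Arr.succ C1 hv hvw hv' hm2
              have C3 : Arr I x1 3 w m := Arr.succ C2 hy hyw hy' hmm
              exact hwx (h.uniq B3 C3 le_rfl le_rfl).2
          refine ⟨(![x, x1, x2, x3, x4, w, y2, y1] : Fin 8 → P), (![l1, l2, l3, l4, m, m3, m2, m1] : Fin 8 → L),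
            fun i => ?_⟩
          have key : ∀ i : Fin 8, Fl I ((![x, x1, x2, x3, x4, w, y2, y1] : Fin 8 → P) i)
              ((![l1, l2, l3, l4, m, m3, m2, m1] : Fin 8 → L) i)
              ((![x, x1, x2, x3, x4, w, y2, y1] : Fin 8 → P) (i + 1)) ∧
              (![l1, l2, l3, l4, m, m3, m2, m1] : Fin 8 → L) i ≠
                (![l1, l2, l3, l4, m, m3, m2, m1] : Fin 8 → L) (i + 1) := by
            intro i
            fin_cases i
            · exact ⟨⟨hl1, hx1, hx1x.symm⟩, h12⟩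
            · exact ⟨⟨hl2, hx2, hx21.symm⟩, h23⟩
            · exact ⟨⟨hl3, hx3, hx32.symm⟩, h34⟩
            · exact ⟨⟨hl4, hx4, hx43.symm⟩, h4m⟩
            · exact ⟨⟨hm, hy', hwx⟩, hmm.symm⟩
            · exact ⟨⟨hy, hv', hyw⟩, hm2.symm⟩
            · exact ⟨⟨hv, hu', hvw⟩, hm1.symm⟩
            · exact ⟨⟨hu, h0, huw⟩, hne.symm⟩
          exact key i

section count

variable {I : P → L → Prop} {rel : P → P → ℕ}

/-- the lines of distance `2 n + 1` from `x` -/
abbrev A (I : P → L → Prop) (x : P) (n : ℕ) : Type _ := {m : L // ∃ w, Arr I x n w m}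

/-- the pairs (point, line) following a line of distance `2 n + 1` -/
abbrev E (I : P → L → Prop) (x : P) (n : ℕ) : Type _ := Σ a : A I x n, {z : P // I z a.1 ∧ z ≠ a.2.choose}

theorem card_ne {Q : Type*} [Finite Q] (p : Q → Prop) (w : Q) (hw : p w) :
    Nat.card {z : Q // p z ∧ z ≠ w} + 1 = Nat.card {z : Q // p z} := by
  classical
  have := Fintype.ofFinite Q
  rw [Nat.card_eq_fintype_card, Nat.card_eq_fintype_card, Fintype.card_subtype, Fintype.card_subtype]
  have : (Finset.univ.filter fun z => p z ∧ z ≠ w) = (Finset.univ.filter fun z => p z).erase w := by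
    ext z; simp [and_comm]
  rw [this, Finset.card_erase_of_mem (by simpa using hw)]
  have : 0 < (Finset.univ.filter fun z => p z).card := Finset.card_pos.2 ⟨w, by simpa using hw⟩
  omega

theorem Oct.card_A0 (h : Oct I rel) (x : P) : Nat.card (A I x 0) = 5 := by
  rw [← h.five x]
  refine Nat.card_congr (Equiv.subtypeEquivRight fun m => ⟨?_, fun hm => ⟨x, Arr.zero hm⟩⟩)
  rintro ⟨w, hw⟩
  cases hw with
  | zero h => exact h

theorem Oct.card_E [Finite P] [Finite L] (h : Oct I rel) (x : P) (n : ℕ) :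
    Nat.card (E I x n) = Nat.card (A I x n) * 2 := by
  classical
  have := Fintype.ofFinite L
  have : Fintype (A I x n) := Fintype.ofFinite _
  rw [Nat.card_sigma]
  have : ∀ a : A I x n, Nat.card {z : P // I z a.1 ∧ z ≠ a.2.choose} = 2 := by
    intro a
    have h1 := card_ne (fun z => I z a.1) a.2.choose (arr_mem a.2.choose_spec)
    rw [h.three] at h1
    omega
  rw [Finset.sum_congr rfl fun a _ => this a, Finset.sum_const, Finset.card_univ, Nat.card_eq_fintype_card,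
    smul_eq_mul]

theorem Oct.card_A_succ [Finite P] [Finite L] (h : Oct I rel) (x : P) (n : ℕ) (hn : n + 1 ≤ 3) :
    Nat.card (A I x (n + 1)) = Nat.card (E I x n) * 4 := by
  classical
  have := Fintype.ofFinite L
  have := Fintype.ofFinite P
  have : Fintype (E I x n) := Fintype.ofFinite _
  have hc : ∀ e : E I x n, Nat.card {m : L // I e.2.1 m ∧ m ≠ e.1.1} = 4 := by
    intro e
    have h1 := card_ne (fun m => I e.2.1 m) e.1.1 e.2.2.1
    rw [h.five] at h1
    omega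
  have key : Nat.card (Σ e : E I x n, {m : L // I e.2.1 m ∧ m ≠ e.1.1}) = Nat.card (E I x n) * 4 := by
    rw [Nat.card_sigma, Finset.sum_congr rfl fun a _ => hc a, Finset.sum_const, Finset.card_univ,
      Nat.card_eq_fintype_card, smul_eq_mul]
  rw [← key]
  symm
  have ar : ∀ (e : E I x n) (m : {m : L // I e.2.1 m ∧ m ≠ e.1.1}), Arr I x (n + 1) e.2.1 m.1 :=
    fun e m => Arr.succ e.1.2.choose_spec e.2.2.1 e.2.2.2 m.2.1 m.2.2.symm
  refine Nat.card_congr (Equiv.ofBijective (fun em => ⟨em.2.1, em.1.2.1, ar em.1 em.2⟩) ⟨?_, ?_⟩)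
  · rintro ⟨⟨⟨l, hl⟩, z, hz⟩, m, hm⟩ ⟨⟨⟨l', hl'⟩, z', hz'⟩, m', hm'⟩ heq
    have hmm : m = m' := congrArg Subtype.val heq
    subst hmm
    have a1 := ar ⟨⟨l, hl⟩, z, hz⟩ ⟨m, hm⟩
    have a2 := ar ⟨⟨l', hl'⟩, z', hz'⟩ ⟨m, hm'⟩
    have hzz : z = z' := (h.uniq a1 a2 hn hn).2
    subst hzz
    have hll : l = l' := h.uniq_line hl.choose_spec hl'.choose_spec hn hz.1 hz.2 hz'.1 hm.1
    subst hll
    rfl
  · rintro ⟨m, w, hw⟩
    cases hw with
    | succ ha hz hzw hz' hm =>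
      rename_i w0 l
      have hl : ∃ w, Arr I x n w l := ⟨w0, ha⟩
      have hw0 : w0 = hl.choose := (h.uniq ha hl.choose_spec (by omega) (by omega)).2
      exact ⟨⟨⟨⟨l, hl⟩, w, hz, hw0 ▸ hzw⟩, m, hz', hm.symm⟩, rfl⟩

end count

/-- the number of lines of an octagon of order `(2, 4)` -/
theorem Oct.card_lines {I : P → L → Prop} {rel : P → P → ℕ} [Finite P] [Finite L] [Nonempty P] (h : Oct I rel) :
    Nat.card L = 2925 := by
  classical
  obtain ⟨x⟩ := ‹Nonempty P›
  have e0 := h.card_A0 x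
  have e1 := h.card_A_succ x 0 (by norm_num)
  have e2 := h.card_A_succ x 1 (by norm_num)
  have e3 := h.card_A_succ x 2 (by norm_num)
  rw [h.card_E x, e0] at e1
  rw [h.card_E x, e1] at e2
  rw [h.card_E x, e2] at e3
  have key : Nat.card (Σ n : Fin 4, A I x n) = Nat.card L := by
    refine Nat.card_congr (Equiv.ofBijective (fun a => a.2.1) ⟨?_, ?_⟩)
    · rintro ⟨n, m, w, hw⟩ ⟨n', m', w', hw'⟩ heq
      have hmm : m = m' := heq
      subst hmm
      have hnn := (h.uniq hw hw' (by omega) (by omega)).1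
      have hnn' : n = n' := Fin.ext hnn
      subst hnn'
      rfl
    · intro m
      obtain ⟨n, hn, w, hw⟩ := h.exists_arr x m
      exact ⟨⟨⟨n, by omega⟩, m, w, hw⟩, rfl⟩
  rw [← key, Nat.card_sigma, Fin.sum_univ_four]
  have f0 : Nat.card (A I x ((0 : Fin 4) : ℕ)) = 5 := e0
  have f1 : Nat.card (A I x ((1 : Fin 4) : ℕ)) = 5 * 2 * 4 := e1
  have f2 : Nat.card (A I x ((2 : Fin 4) : ℕ)) = 5 * 2 * 4 * 2 * 4 := e2
  have f3 : Nat.card (A I x ((3 : Fin 4) : ℕ)) = 5 * 2 * 4 * 2 * 4 * 2 * 4 := e3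
  rw [f0, f1, f2, f3]

end Cfsg.Agent.Classification.TitsFin.Octagon
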