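import Mathlib
import Cfsg.Agent.Classification.TitsFin.Defs
import Cfsg.Agent.Classification.TitsFin.Local
import Cfsg.Agent.MinSimple.Basic
import Cfsg.Prelude.Def_CaseTheorems

/-!
# An involution of the second class lies in `E_l - V_l` for a unique line `l`
-/

set_option autoImplicit false

namespace Cfsg.Agent.Classification.TitsFin

open Subgroup

variable {G : Type*} [Group G]

namespace Uniq

section sylow

variable [Finite G]

/-- A 2-subgroup `P` of `C` which is not a Sylow 2-subgroup is normalised by some element of `C` outside `P`. -/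
theorem exists_normalizing {P C : Subgroup G} (hPC : P ≤ C) {n : ℕ} (hP : Nat.card P = 2 ^ n)
    (h2 : 2 ∣ P.relIndex C) : ∃ s ∈ C, s ∉ P ∧ ∀ g, g ∈ P → s * g * s⁻¹ ∈ P := by
  have hf : Fact (Nat.Prime 2) := ⟨Nat.prime_two⟩
  have hQ : Nat.card (P.subgroupOf C) = 2 ^ n := by
    rw [Nat.card_congr (subgroupOfEquivOfLe hPC).toEquiv, hP]
  have hdvd : 2 ^ (n + 1) ∣ Nat.card C := by
    rw [← card_mul_index (P.subgroupOf C), hQ, pow_succ]
    exact Nat.mul_dvd_mul_left _ h2
  obtain ⟨K, hK, hQK⟩ := Sylow.exists_subgroup_card_pow_succ hdvd hQ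
  have hidx : (P.subgroupOf C).relIndex K = 2 := by
    have h3 := card_mul_index ((P.subgroupOf C).subgroupOf K)
    rw [Nat.card_congr (subgroupOfEquivOfLe hQK).toEquiv, hQ, hK, pow_succ] at h3
    exact Nat.eq_of_mul_eq_mul_left (by positivity) h3
  have hn : ((P.subgroupOf C).subgroupOf K).Normal := normal_of_index_eq_two hidx
  have hne : ∃ s ∈ K, s ∉ P.subgroupOf C := by
    by_contra hcon
    have h4 : K ≤ P.subgroupOf C := fun s hs => by
      by_contra h5
      exact hcon ⟨s, hs, h5⟩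
    rw [relIndex_eq_one.mpr h4] at hidx
    norm_num at hidx
  obtain ⟨s, hsK, hsP⟩ := hne
  refine ⟨s, s.2, fun h => hsP h, fun g hg => ?_⟩
  have h5 := hn.conj_mem ⟨⟨g, hPC hg⟩, hQK hg⟩ hg ⟨s, hsK⟩
  exact h5

end sylow

section rel

variable {z p v x w : G}

theorem TL.symm [Finite G] (h : FinHyp z p) (a : TL z p v x w) : TL z p v w x := by
  obtain ⟨h1, h2, h3, h4, h5, h6, h7⟩ := a
  refine ⟨h.symm h1, h3, h2, h4, h6, h5, ?_⟩
  rwa [h.U_comm (h.isPt_left (h.symm h1)) self_mem_U (mem_U_of_adj (h.symm h1))]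

theorem TL.third [Finite G] (h : FinHyp z p) (a : TL z p v x w) : TL z p v (x * w) x := by
  obtain ⟨h1, h2, h3, h4, h5, h6, h7⟩ := a
  refine ⟨h.symm (h.third h1), (h.mem_U_third h1 h2).mpr h3, h2, h4, h7, h5, ?_⟩
  have hx := h.isPt_left h1
  have hc : x * w = w * x := h.U_comm hx self_mem_U (mem_U_of_adj h1)
  have : x * w * x = w := by rw [hc, mul_assoc, h.sq hx, mul_one]
  rwa [this]

/-- every point of the line may be the first one -/
theorem TL.first [Finite G] (h : FinHyp z p) (a : TL z p v x w) {y : G} (hy : y = x ∨ y = w ∨ y = x * w) :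
    ∃ b, TL z p v y b ∧ ({y, b, y * b} : Set G) = {x, w, x * w} := by
  have hx := h.isPt_left a.1
  have hc : x * w = w * x := h.U_comm hx self_mem_U (mem_U_of_adj a.1)
  rcases hy with rfl | rfl | rfl
  · exact ⟨w, a, rfl⟩
  · refine ⟨x, TL.symm h a, ?_⟩
    rw [← hc]
    exact Set.insert_comm _ _ _
  · refine ⟨x, TL.third h a, ?_⟩
    have : x * w * x = w := by rw [hc, mul_assoc, h.sq hx, mul_one]
    rw [this]
    ext t
    simp only [Set.mem_insert_iff, Set.mem_singleton_iff]
    tauto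

/-- two lines with a common point -/
theorem TL.eq_of_first [Finite G] (h : FinHyp z p) {w' : G} (a : TL z p v x w) (b : TL z p v x w') :
    ({x, w, x * w} : Set G) = {x, w', x * w'} := by
  have hx := h.isPt_left a.1
  have hxx := h.sq hx
  by_cases h1 : w' = w
  · rw [h1]
  by_cases h2 : w' = x * w
  · have : x * w' = w := by rw [h2, ← mul_assoc, hxx, one_mul]
    rw [this, h2]
    ext t
    simp only [Set.mem_insert_iff, Set.mem_singleton_iff]
    tauto
  · exfalso
    rcases h.inter_two a.1 b.1 h1 h2 a.2.1 a.2.2.1 b.2.2.1 with h3 | h3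
    · exact a.2.2.2.1 h3
    · exact a.2.2.2.2.1 h3

end rel

section center

variable [Finite G] {z p v x w : G}

theorem TL.comm (h : FinHyp z p) (a : TL z p v x w) : v * x = x * v :=
  (h.U_comm (h.isPt_left a.1) a.2.1 self_mem_U)

theorem TL.sq (h : FinHyp z p) (a : TL z p v x w) : v * v = 1 := h.U_sq (h.isPt_left a.1) a.2.1

theorem TL.mul_left (h : FinHyp z p) (a : TL z p v x w) : TL z p (x * v) x w := by
  have hx := h.isPt_left a.1
  have hxx := h.sq hx
  have hmem : x ∈ U z p w := mem_U_of_adj (h.symm a.1)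
  refine ⟨a.1, mul_mem self_mem_U a.2.1, mul_mem hmem a.2.2.1, ?_, ?_, ?_, ?_⟩
  · intro h1
    apply a.2.2.2.2.1
    rw [eq_inv_of_mul_eq_one_right h1, inv_eq_of_mul_eq_one_left hxx]
  · intro h1
    exact a.2.2.2.1 (mul_eq_left.mp h1)
  · intro h1
    apply a.2.2.2.2.2.2
    rw [← h1, ← mul_assoc, hxx, one_mul]
  · intro h1
    exact a.2.2.2.2.2.1 (mul_left_cancel h1)

/-- `C(x) ∩ C(v)` is a Sylow 2-subgroup of `C(v)` -/
theorem not_two_dvd (h : FinHyp z p) (a : TL z p v x w) :
    ¬ 2 ∣ (centralizer ({x} : Set G) ⊓ centralizer ({v} : Set G)).relIndex (centralizer ({v} : Set G)) := by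
  intro h2
  have hx := h.isPt_left a.1
  obtain ⟨s, hsC, hsP, hn⟩ := exists_normalizing inf_le_right (n := 9)
    ((h.card_cent_TL a).trans (by norm_num)) h2
  have hsv : s * v = v * s := mem_centralizer_singleton_iff.mp hsC
  have hPmem : ∀ g, g ∈ centralizer ({x} : Set G) ⊓ centralizer ({v} : Set G) ↔
      g * x = x * g ∧ g * v = v * g := by
    intro g
    rw [mem_inf, mem_centralizer_singleton_iff, mem_centralizer_singleton_iff]
  -- `s` normalises `P` also backwards
  have hn' : ∀ g, g ∈ centralizer ({x} : Set G) ⊓ centralizer ({v} : Set G) →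
      s⁻¹ * g * s ∈ centralizer ({x} : Set G) ⊓ centralizer ({v} : Set G) := by
    intro g hg
    have hmap : (centralizer ({x} : Set G) ⊓ centralizer ({v} : Set G)).map (MulAut.conj s).toMonoidHom =
        centralizer ({x} : Set G) ⊓ centralizer ({v} : Set G) := by
      refine eq_of_le_of_card_ge ?_ ?_
      · rintro _ ⟨k, hk, rfl⟩
        exact hn k hk
      · rw [card_map_of_injective (MulAut.conj s).injective]
    rw [← hmap] at hg
    obtain ⟨k, hk, rfl⟩ := hg
    have : s⁻¹ * (MulAut.conj s).toMonoidHom k * s = k := by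
      show s⁻¹ * (s * k * s⁻¹) * s = k
      group
    rw [this]
    exact hk
  have hcent : ∀ g, g * x = x * g → g * v = v * g → g * (s * x * s⁻¹) = s * x * s⁻¹ * g := by
    intro g h1 h2
    have h3 := ((hPmem _).mp (hn' g ((hPmem g).mpr ⟨h1, h2⟩))).1
    calc g * (s * x * s⁻¹) = s * (s⁻¹ * g * s * x) * s⁻¹ := by group
      _ = s * (x * (s⁻¹ * g * s)) * s⁻¹ := by rw [h3]
      _ = s * x * s⁻¹ * g := by group
  have hU : s * x * s⁻¹ ∈ U z p x := h.cent_U hx fun u hu =>
    (hcent u (h.U_comm hx hu self_mem_U) (h.U_comm hx hu a.2.1)).symm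
  have hpt : IsPt z (s * x * s⁻¹) := by
    obtain ⟨k, hk⟩ := hx
    exact ⟨s * k, by rw [← hk]; group⟩
  rcases h.center_TL a hU hcent with h3 | h3 | h3 | h3
  · obtain ⟨k, hk⟩ := hpt
    rw [h3] at hk
    exact h.z_ne (by simpa using hk)
  · refine hsP ((hPmem s).mpr ⟨?_, hsv⟩)
    calc s * x = s * x * s⁻¹ * s := by group
      _ = x * s := by rw [h3]
  · rw [h3] at hpt
    exact h.TL_not_isPt a hpt
  · rw [h3] at hpt
    exact h.TL_not_isPt (TL.mul_left h a) hpt

/-- `x` lies in the centre of `O₂(C(v))` -/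
theorem mem_center (h : FinHyp z p) (hG : IsCharacteristicTwoType G) (a : TL z p v x w) :
    x ∈ ZN.o2 (centralizer ({v} : Set G)) ∧ ∀ g ∈ ZN.o2 (centralizer ({v} : Set G)), g * x = x * g := by
  have hP : IsPGroup 2 ↥(centralizer ({x} : Set G) ⊓ centralizer ({v} : Set G) : Subgroup G) :=
    IsPGroup.of_card (n := 9) ((h.card_cent_TL a).trans (by norm_num))
  have h1 := MinSimple.VModule.o2_le_of_sylow hP (not_two_dvd h a)
  have h2 : ∀ g ∈ ZN.o2 (centralizer ({v} : Set G)), g * x = x * g := fun g hg =>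
    mem_centralizer_singleton_iff.mp (h1 hg).1
  refine ⟨?_, h2⟩
  apply MinSimple.Basic.char2_centralizer hG (z := v) (by rw [pow_two, TL.sq h a]) a.2.2.2.1
  exact mem_inf.mpr ⟨mem_centralizer_singleton_iff.mpr (TL.comm h a).symm, mem_centralizer_iff.mpr h2⟩

/-- points commuting with one another -/
theorem comm_of_TL (h : FinHyp z p) (hG : IsCharacteristicTwoType G) (a : TL z p v x w) {x' w' : G}
    (b : TL z p v x' w') : x * x' = x' * x :=
  ((mem_center h hG b).2 x (mem_center h hG a).1)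

theorem isPt_mem_U (h : FinHyp z p) (hx : IsPt z x) {y : G} (hy : IsPt z y) (hyU : y ∈ U z p x) :
    y = x ∨ Adj z p x y := by
  rcases h.U_cases hx hyU with h1 | h1 | h1 | ⟨w, h1⟩
  · exfalso
    obtain ⟨k, hk⟩ := hy
    rw [h1] at hk
    exact h.z_ne (by simpa using hk)
  · exact Or.inl h1
  · exact Or.inr h1
  · exact absurd hy (h.TL_not_isPt h1)

end center

end Uniq

open Uniq in
/-- **Uniqueness of the line of an involution of the second class.** -/
theorem FinHyp.TL_unique [Finite G] {z p v x w x' w' : G} (h : FinHyp z p) (hG : IsCharacteristicTwoType G)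
    (a : TL z p v x w) (b : TL z p v x' w') : ({x, w, x * w} : Set G) = {x', w', x' * w'} := by
  have hx' := h.isPt_left b.1
  have hx := h.isPt_left a.1
  have hw := h.isPt_left (h.symm a.1)
  have hxw := h.isPt_left (h.symm (h.third a.1))
  have c1 : x * x' = x' * x := comm_of_TL h hG a b
  have c2 : w * x' = x' * w := comm_of_TL h hG (TL.symm h a) b
  have c3 : x * w = w * x := h.U_comm hx self_mem_U (mem_U_of_adj a.1)
  -- some point of the first line lies in `Q x'`
  obtain ⟨y, hy, hyU⟩ : ∃ y, (y = x ∨ y = w ∨ y = x * w) ∧ y ∈ U z p x' := by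
    by_cases h1 : InQ z p x' x
    · exact ⟨x, Or.inl rfl, h.isPt_inQ hx' hx h1⟩
    by_cases h2 : InQ z p x' w
    · exact ⟨w, Or.inr (Or.inl rfl), h.isPt_inQ hx' hw h2⟩
    exact ⟨x * w, Or.inr (Or.inr rfl), h.isPt_inQ hx' hxw
      (h.inQ_mul_of_comm hx' c1 c2 (h.sq hx) (h.sq hw) c3 h1 h2)⟩
  obtain ⟨b1, a1, e1⟩ := TL.first h a hy
  rw [← e1]
  have hypt := h.isPt_left a1.1
  rcases isPt_mem_U h hx' hypt hyU with rfl | hadj
  · exact TL.eq_of_first h a1 b
  · -- `y` lies on the second line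
    have h3 : y = w' ∨ y = x' * w' := by
      by_contra hcon
      rw [not_or] at hcon
      rcases h.inter_two b.1 hadj hcon.1 hcon.2 b.2.1 b.2.2.1 a1.2.1 with h4 | h4
      · exact b.2.2.2.1 h4
      · exact b.2.2.2.2.1 h4
    obtain ⟨b2, a2, e2⟩ := TL.first h b (Or.inr h3)
    rw [← e2]
    exact TL.eq_of_first h a1 a2

end Cfsg.Agent.Classification.TitsFin
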