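import Mathlib
import Cfsg.Agent.Classification.TitsFin.Defs
import Cfsg.Agent.Classification.TitsFin.Octagon
import Cfsg.Agent.Classification.TitsFin.Local
import Cfsg.Agent.Classification.TitsFin.Uniq
import Cfsg.Prelude.Def_CaseTheorems

/-!
# The Tits group case: the geometry of points and lines is a generalized octagon, order of `G`
-/

set_option autoImplicit false

namespace Cfsg.Agent.Classification.TitsFin

open Subgroup

variable {G : Type*} [Group G]

/-- points -/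
abbrev Pt (z : G) : Type _ := {x : G // IsPt z x}

/-- lines -/
abbrev Ln (z p : G) : Type _ := {l : Set G // ∃ x w, Adj z p x w ∧ l = {x, w, x * w}}

/-- incidence -/
def Inc (z p : G) (x : Pt z) (l : Ln z p) : Prop := x.1 ∈ l.1

open Classical in
/-- half of the distance of two points, as far as their commutator relations see it -/
noncomputable def rel (z p : G) (x y : Pt z) : ℕ :=
  if x = y then 0 else if y.1 ∈ U z p x.1 then 1 else if x.1 * y.1 = y.1 * x.1 then 2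
  else if (x.1 * y.1) ^ 4 = 1 then 3 else 4

theorem TL.conj {z p v x w : G} (h : TL z p v x w) (g : G) :
    TL z p (g * v * g⁻¹) (g * x * g⁻¹) (g * w * g⁻¹) := by
  obtain ⟨h1, h2, h3, h4, h5, h6, h7⟩ := h
  refine ⟨h1.conj g, conj_mem_U.mpr h2, conj_mem_U.mpr h3, ?_, ?_, ?_, ?_⟩
  · intro e
    exact h4 (by simpa using e)
  · intro e
    exact h5 (by simpa using e)
  · intro e
    exact h6 (by simpa using e)
  · intro e
    apply h7
    have e1 : g * v * g⁻¹ = g * (x * w) * g⁻¹ := by rw [e]; group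
    simpa using e1

namespace FinHyp

variable [Finite G] {z p x w y f g u v x' w' s t : G}

omit [Finite G] in
/-- two points of a line commute -/
theorem near_comm (h : FinHyp z p) (a : Adj z p x w) : x * w = w * x := by
  obtain ⟨g, rfl, rfl⟩ := a
  calc g * z * g⁻¹ * (g * p * g⁻¹) = g * (z * p) * g⁻¹ := by group
    _ = g * (p * z) * g⁻¹ := by rw [h.zp]
    _ = _ := by group

theorem near_right (h : FinHyp z p) (a : Adj z p x w) : IsPt z w := h.isPt_left (h.symm a)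

theorem line_of_mem (h : FinHyp z p) (a : Adj z p x w) (hs : s ∈ ({x, w, x * w} : Set G))
    (ht : t ∈ ({x, w, x * w} : Set G)) (hst : s ≠ t) :
    Adj z p s t ∧ ({x, w, x * w} : Set G) = {s, t, s * t} := by
  have hx := h.sq (h.isPt_left a)
  have hw := h.sq (h.near_right a)
  have hc := h.near_comm a
  have e1 : x * (x * w) = w := by rw [← mul_assoc, hx, one_mul]
  have e3 : w * (x * w) = x := by rw [hc, ← mul_assoc, hw, one_mul]
  have e4 : x * w * x = w := by rw [hc, mul_assoc, hx, mul_one]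
  have e5 : x * w * w = x := by rw [mul_assoc, hw, mul_one]
  have a1 := h.third a
  have a2 := h.symm a
  have a3 := h.third a2
  rw [← hc] at a3
  have a4 := h.symm a1
  have a5 := h.symm a3
  simp only [Set.mem_insert_iff, Set.mem_singleton_iff] at hs ht
  rcases hs with rfl | rfl | rfl <;> rcases ht with rfl | rfl | rfl
  · exact absurd rfl hst
  · exact ⟨a, rfl⟩
  · refine ⟨a1, ?_⟩
    rw [e1]
    ext r
    simp only [Set.mem_insert_iff, Set.mem_singleton_iff]
    tauto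
  · refine ⟨a2, ?_⟩
    rw [← hc]
    ext r
    simp only [Set.mem_insert_iff, Set.mem_singleton_iff]
    tauto
  · exact absurd rfl hst
  · refine ⟨a3, ?_⟩
    rw [e3]
    ext r
    simp only [Set.mem_insert_iff, Set.mem_singleton_iff]
    tauto
  · refine ⟨a4, ?_⟩
    rw [e4]
    ext r
    simp only [Set.mem_insert_iff, Set.mem_singleton_iff]
    tauto
  · refine ⟨a5, ?_⟩
    rw [e5]
    ext r
    simp only [Set.mem_insert_iff, Set.mem_singleton_iff]
    tauto
  · exact absurd rfl hst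

/-- the line of two collinear points -/
theorem adj_of_fl (h : FinHyp z p) {x y : Pt z} {l : Ln z p} (hf : Octagon.Fl (Inc z p) x l y) :
    Adj z p x.1 y.1 ∧ l.1 = {x.1, y.1, x.1 * y.1} := by
  obtain ⟨h1, h2, h3⟩ := hf
  obtain ⟨l, a, b, hab, rfl⟩ := l
  exact h.line_of_mem hab h1 h2 (fun e => h3 (Subtype.ext e))

omit [Finite G] in
theorem col_of_adj (a : Adj z p x w) (hx : IsPt z x) (hw : IsPt z w) :
    Octagon.Col (Inc z p) ⟨x, hx⟩ ⟨w, hw⟩ := by
  refine ⟨⟨_, x, w, a, rfl⟩, ?_, ?_⟩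
  · exact Or.inl rfl
  · exact Or.inr (Or.inl rfl)

/-- lines on `x1` different from each other -/
theorem ne_of_fl (h : FinHyp z p) {x y y' : Pt z} {l l' : Ln z p} (hf : Octagon.Fl (Inc z p) x l y)
    (hf' : Octagon.Fl (Inc z p) x l' y') (hl : l ≠ l') : y'.1 ≠ y.1 ∧ y'.1 ≠ x.1 * y.1 := by
  have h1 := h.adj_of_fl hf
  have h2 := h.adj_of_fl hf'
  constructor
  · intro e
    apply hl
    apply Subtype.ext
    rw [h1.2, h2.2, e]
  · intro e
    apply hl
    apply Subtype.ext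
    rw [h1.2, h2.2, e, ← mul_assoc, h.sq x.2, one_mul]
    ext r
    simp only [Set.mem_insert_iff, Set.mem_singleton_iff]
    tauto

omit [Finite G] in
theorem fl_symm {x y : Pt z} {l : Ln z p} (hf : Octagon.Fl (Inc z p) x l y) : Octagon.Fl (Inc z p) y l x :=
  ⟨hf.2.1, hf.1, hf.2.2.symm⟩

theorem not_inQ_of_fl (h : FinHyp z p) {x0 x1 x2 : Pt z} {l1 l2 : Ln z p}
    (a1 : Octagon.Fl (Inc z p) x0 l1 x1) (hl : l1 ≠ l2) (a2 : Octagon.Fl (Inc z p) x1 l2 x2) :
    ¬ InQ z p x0.1 x2.1 := by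
  have n := h.ne_of_fl (fl_symm a1) a2 hl
  exact h.not_inQ (h.adj_of_fl (fl_symm a1)).1 (h.adj_of_fl a2).1 n.1 n.2

theorem rel1 (h : FinHyp z p) {x0 x1 : Pt z} {l1 : Ln z p} (a1 : Octagon.Fl (Inc z p) x0 l1 x1) :
    rel z p x0 x1 = 1 := by
  have h1 := h.adj_of_fl a1
  unfold rel
  rw [if_neg a1.2.2, if_pos (mem_U_of_adj h1.1)]

theorem rel2 (h : FinHyp z p) {x0 x1 x2 : Pt z} {l1 l2 : Ln z p}
    (a1 : Octagon.Fl (Inc z p) x0 l1 x1) (hl : l1 ≠ l2) (a2 : Octagon.Fl (Inc z p) x1 l2 x2) :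
    rel z p x0 x2 = 2 := by
  have h1 := h.adj_of_fl a1
  have h2 := h.adj_of_fl a2
  have n1 := h.not_inQ_of_fl a1 hl a2
  have n2 : x2.1 ∉ U z p x0.1 := fun e => n1 (h.inQ_of_mem x0.2 e)
  have n3 : x0 ≠ x2 := by
    rintro rfl
    exact n2 self_mem_U
  have c : x0.1 * x2.1 = x2.1 * x0.1 :=
    h.U_comm x1.2 (mem_U_of_adj (h.adj_of_fl (fl_symm a1)).1) (mem_U_of_adj h2.1)
  unfold rel
  rw [if_neg n3, if_neg n2, if_pos c]

theorem rel3 (h : FinHyp z p) {x0 x1 x2 x3 : Pt z} {l1 l2 l3 : Ln z p}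
    (a1 : Octagon.Fl (Inc z p) x0 l1 x1) (hl : l1 ≠ l2) (a2 : Octagon.Fl (Inc z p) x1 l2 x2)
    (hl2 : l2 ≠ l3) (a3 : Octagon.Fl (Inc z p) x2 l3 x3) :
    rel z p x0 x3 = 3 := by
  have h1 := h.adj_of_fl a1
  have h2 := h.adj_of_fl a2
  have h3 := h.adj_of_fl a3
  have n1 : ¬ InQ z p x2.1 x0.1 := h.not_inQ_of_fl (fl_symm a2) hl.symm (fl_symm a1)
  have n2 : ¬ InQ z p x1.1 x3.1 := h.not_inQ_of_fl a2 hl2 a3
  have m1 : x0.1 ∈ U z p x1.1 := mem_U_of_adj (h.adj_of_fl (fl_symm a1)).1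
  have m2 : x3.1 ∈ U z p x2.1 := mem_U_of_adj h3.1
  have T := h.comm_TL h2.1 m2 n2 m1 n1
  have s0 := h.sq x0.2
  have s3 := h.sq x3.2
  have i0 : (x0.1)⁻¹ = x0.1 := inv_eq_of_mul_eq_one_left s0
  have i3 : (x3.1)⁻¹ = x3.1 := inv_eq_of_mul_eq_one_left s3
  rw [i0, i3] at T
  have hne : x0.1 * x3.1 ≠ x3.1 * x0.1 := by
    intro e
    apply T.2.2.2.1
    rw [← e, mul_assoc x0.1, s3, mul_one, s0]
  have n3 : x0 ≠ x3 := by
    rintro rfl
    exact hne rfl
  have n4 : x3.1 ∉ U z p x0.1 := fun e => hne (h.U_comm x0.2 self_mem_U e)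
  have q : (x0.1 * x3.1) ^ 4 = 1 := by
    have e1 : (x0.1 * x3.1) ^ 4 = (x3.1 * x0.1 * x3.1 * x0.1)⁻¹ * (x3.1 * x0.1 * x3.1 * x0.1)⁻¹ := by
      simp only [mul_inv_rev, i0, i3]
      simp only [pow_succ, pow_zero, one_mul, mul_assoc]
    rw [e1, ← mul_inv_rev, h.U_sq x1.2 T.2.1, inv_one]
  unfold rel
  rw [if_neg n3, if_neg n4, if_neg hne, if_pos q]

theorem rel4 (h : FinHyp z p) {x0 x1 x2 x3 x4 : Pt z} {l1 l2 l3 l4 : Ln z p}
    (a1 : Octagon.Fl (Inc z p) x0 l1 x1) (hl : l1 ≠ l2) (a2 : Octagon.Fl (Inc z p) x1 l2 x2)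
    (hl2 : l2 ≠ l3) (a3 : Octagon.Fl (Inc z p) x2 l3 x3) (hl3 : l3 ≠ l4) (a4 : Octagon.Fl (Inc z p) x3 l4 x4) :
    rel z p x0 x4 = 4 := by
  have n1 : ¬ InQ z p x2.1 x0.1 := h.not_inQ_of_fl (fl_symm a2) hl.symm (fl_symm a1)
  have n2 : ¬ InQ z p x2.1 x4.1 := h.not_inQ_of_fl a3 hl3 a4
  have m1 : x0.1 ∈ U z p x1.1 := mem_U_of_adj (h.adj_of_fl (fl_symm a1)).1
  have m2 : x4.1 ∈ U z p x3.1 := mem_U_of_adj (h.adj_of_fl a4).1
  have d := h.ne_of_fl (fl_symm a2) a3 hl2
  have key : (x0.1 * x4.1) ^ 4 ≠ 1 :=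
    h.no_pow_four (h.adj_of_fl (fl_symm a2)).1 (h.adj_of_fl a3).1 d.1 d.2 m1 n1 m2 n2
  have s0 := h.sq x0.2
  have s4 := h.sq x4.2
  have hne : x0.1 * x4.1 ≠ x4.1 * x0.1 := by
    intro e
    apply key
    have e2 : (x0.1 * x4.1) * (x0.1 * x4.1) = 1 := by
      calc (x0.1 * x4.1) * (x0.1 * x4.1) = x0.1 * (x4.1 * x0.1) * x4.1 := by simp only [mul_assoc]
        _ = x0.1 * (x0.1 * x4.1) * x4.1 := by rw [e]
        _ = (x0.1 * x0.1) * (x4.1 * x4.1) := by simp only [mul_assoc]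
        _ = 1 := by rw [s0, s4, mul_one]
    calc (x0.1 * x4.1) ^ 4 = ((x0.1 * x4.1) * (x0.1 * x4.1)) ^ 2 := by
          rw [← pow_two, ← pow_mul]
      _ = 1 := by rw [e2, one_pow]
  have n3 : x0 ≠ x4 := by
    rintro rfl
    exact hne rfl
  have n4 : x4.1 ∉ U z p x0.1 := fun e => hne (h.U_comm x0.2 self_mem_U e)
  unfold rel
  rw [if_neg n3, if_neg n4, if_neg hne, if_neg key]

omit [Finite G] in
theorem card_adj (h : FinHyp z p) (hx : IsPt z x) : Nat.card {y // Adj z p x y} = 10 := by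
  obtain ⟨g, rfl⟩ := hx
  rw [← h.cardA]
  refine Nat.card_congr (Equiv.symm ⟨fun y => ⟨g * y.1 * g⁻¹, y.2.conj g⟩,
    fun y => ⟨g⁻¹ * y.1 * g, ?_⟩, fun y => ?_, fun y => ?_⟩)
  · have h1 : g * (g⁻¹ * y.1 * g) * g⁻¹ = y.1 := by group
    exact (adj_iff_of_conj (g := g) rfl h1).mp y.2
  · apply Subtype.ext
    show g⁻¹ * (g * y.1 * g⁻¹) * g = y.1
    group
  · apply Subtype.ext
    show g * (g⁻¹ * y.1 * g) * g⁻¹ = y.1
    group

theorem line_three (h : FinHyp z p) (a : Adj z p x w) : x ≠ w ∧ x ≠ x * w ∧ w ≠ x * w := by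
  refine ⟨(h.ne a).symm, fun e => ?_, fun e => ?_⟩
  · exact h.ne (h.third a) e.symm
  · have h1 := h.third (h.symm a)
    rw [← h.near_comm a] at h1
    exact h.ne h1 e.symm

theorem card_three (h : FinHyp z p) (l : Ln z p) : Nat.card {x // Inc z p x l} = 3 := by
  obtain ⟨l, a, b, hab, rfl⟩ := l
  have hpt : ∀ g ∈ ({a, b, a * b} : Set G), IsPt z g := by
    rintro g (rfl | rfl | rfl)
    · exact h.isPt_left hab
    · exact h.near_right hab
    · exact h.near_right (h.third hab)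
  let e : {x // Inc z p x ⟨{a, b, a * b}, a, b, hab, rfl⟩} ≃ ({a, b, a * b} : Set G) :=
    { toFun := fun x => ⟨x.1.1, x.2⟩
      invFun := fun g => ⟨⟨g.1, hpt g.1 g.2⟩, g.2⟩
      left_inv := fun x => rfl
      right_inv := fun x => rfl }
  rw [Nat.card_congr e, Nat.card_coe_set_eq]
  have h3 := h.line_three hab
  exact Set.ncard_eq_three.mpr ⟨a, b, a * b, h3.1, h3.2.1, h3.2.2, rfl⟩

theorem card_five (h : FinHyp z p) (x : Pt z) : Nat.card {l // Inc z p x l} = 5 := by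
  classical
  obtain ⟨x, hx⟩ := x
  let f : {y // Adj z p x y} → {l // Inc z p ⟨x, hx⟩ l} := fun y => ⟨⟨{x, y.1, x * y.1}, x, y.1, y.2, rfl⟩, Or.inl rfl⟩
  have hfib : ∀ l, Nat.card {y // f y = l} = 2 := by
    intro l
    obtain ⟨⟨l, a, b, hab, rfl⟩, hl⟩ := l
    have hl' : x ∈ ({a, b, a * b} : Set G) := hl
    obtain ⟨y, hy, hxy⟩ : ∃ y ∈ ({a, b, a * b} : Set G), x ≠ y := by
      by_cases e : x = a
      · exact ⟨b, by simp, by rw [e]; exact (h.line_three hab).1⟩
      · exact ⟨a, by simp, e⟩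
    have hadj := h.line_of_mem hab hl' hy hxy
    have hx3 := h.line_three hadj.1
    have hxx := h.sq hx
    let e : {y // f y = ⟨⟨{a, b, a * b}, a, b, hab, rfl⟩, hl⟩} ≃ ({y, x * y} : Set G) :=
      { toFun := fun u => ⟨u.1.1, by
          have h1 : ({x, u.1.1, x * u.1.1} : Set G) = {a, b, a * b} :=
            congrArg Subtype.val (congrArg Subtype.val u.2)
          have h2 : u.1.1 ∈ ({x, y, x * y} : Set G) := by
            rw [← h1.trans hadj.2]
            exact Or.inr (Or.inl rfl)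
          rcases h2 with h2 | h2
          · exact absurd h2 (h.ne u.1.2)
          · exact h2⟩
        invFun := fun g => ⟨⟨g.1, by
            rcases g.2 with h1 | h1
            · rw [h1]; exact hadj.1
            · rw [h1]; exact h.third hadj.1⟩, by
            apply Subtype.ext
            apply Subtype.ext
            show ({x, g.1, x * g.1} : Set G) = {a, b, a * b}
            rw [hadj.2]
            rcases g.2 with h1 | h1
            · rw [h1]
            · rw [h1, ← mul_assoc, hxx, one_mul]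
              ext r
              simp only [Set.mem_insert_iff, Set.mem_singleton_iff]
              tauto⟩
        left_inv := fun x => rfl
        right_inv := fun x => rfl }
    rw [Nat.card_congr e, Nat.card_coe_set_eq]
    exact Set.ncard_pair hx3.2.2
  have h1 := Nat.card_congr (Equiv.sigmaFiberEquiv f)
  rw [h.card_adj hx] at h1
  have : Fintype {l // Inc z p ⟨x, hx⟩ l} := Fintype.ofFinite _
  rw [Nat.card_sigma] at h1
  simp only [hfib, Finset.sum_const, smul_eq_mul, Finset.card_univ] at h1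
  rw [Nat.card_eq_fintype_card]
  omega

theorem exists_TL (h : FinHyp z p) (a : Adj z p x w) : ∃ v, TL z p v x w := by
  have hoff : ∀ {x w : G}, Adj z p x w → ∃ y, Adj z p x y ∧ y ≠ w ∧ y ≠ x * w := by
    intro x w a
    by_contra hcon
    push Not at hcon
    have h1 : Nat.card {y // Adj z p x y} ≤ Nat.card ({w, x * w} : Set G) := by
      refine Nat.card_le_card_of_injective (fun y => ⟨y.1, ?_⟩) ?_
      · by_cases e : y.1 = w
        · exact Or.inl e
        · exact Or.inr (hcon y.1 y.2 e)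
      · intro y y' e
        have e' := congrArg Subtype.val e
        exact Subtype.ext e'
    rw [h.card_adj (h.isPt_left a), Nat.card_coe_set_eq, Set.ncard_pair (h.line_three a).2.2] at h1
    omega
  obtain ⟨y, hy, hy1, hy2⟩ := hoff a
  obtain ⟨y', hy', hy1', hy2'⟩ := hoff (h.symm a)
  exact ⟨_, h.comm_TL a (mem_U_of_adj hy') (h.not_inQ (h.symm a) hy' hy1' hy2') (mem_U_of_adj hy)
    (h.not_inQ a hy hy1 hy2)⟩

theorem mem_line_of_mem_U (h : FinHyp z p) (hG : IsCharacteristicTwoType G) (hy : IsPt z y) (hv : v ∈ U z p y)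
    (T : TL z p v x w) : y ∈ ({x, w, x * w} : Set G) := by
  rcases h.U_cases hy hv with e | e | e | ⟨w', e⟩
  · exact absurd e T.2.2.2.1
  · exact absurd (e ▸ hy) (h.TL_not_isPt T)
  · exact absurd (h.near_right e) (h.TL_not_isPt T)
  · rw [← h.TL_unique hG e T]
    exact Or.inl rfl

/-- `v` commutes with the point `y`: the line of `v` has a point collinear to `y` -/
theorem exists_col_of_comm (h : FinHyp z p) (hG : IsCharacteristicTwoType G) (hy : IsPt z y) (hc : v * y = y * v)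
    (T : TL z p v x w) : ∃ y' : Pt z, Octagon.Col (Inc z p) ⟨y, hy⟩ y' ∧ y'.1 ∈ ({x, w, x * w} : Set G) := by
  rcases h.invol hy hc (h.U_sq (h.isPt_left T.1) T.2.1) with hv | ⟨y', hy', hv⟩
  · obtain ⟨l, hl⟩ : ∃ l : Ln z p, y ∈ l.1 := by
      obtain ⟨g, hg⟩ := hy
      exact ⟨⟨_, g * z * g⁻¹, g * p * g⁻¹, ⟨g, rfl, rfl⟩, rfl⟩, Or.inl hg.symm⟩
    exact ⟨⟨y, hy⟩, ⟨l, hl, hl⟩, h.mem_line_of_mem_U hG hy hv T⟩
  · exact ⟨⟨y', h.near_right hy'⟩, col_of_adj hy' hy (h.near_right hy'), h.mem_line_of_mem_U hG (h.near_right hy') hv T⟩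

/-- two non-conjugate involutions commute with a common involution -/
theorem exists_invol {x v : G} (hx : x * x = 1) (hv : v * v = 1) (hn : ∀ g, g * x * g⁻¹ ≠ v) :
    ∃ t, t ≠ 1 ∧ t * t = 1 ∧ t * x = x * t ∧ t * v = v * t := by
  have ix : x⁻¹ = x := inv_eq_of_mul_eq_one_left hx
  have iv : v⁻¹ = v := inv_eq_of_mul_eq_one_left hv
  have c1 : x * (x * v) * x⁻¹ = (x * v)⁻¹ := by
    rw [mul_inv_rev, ix, iv, ← mul_assoc, hx, one_mul]
  have cn : ∀ k : ℕ, x * (x * v) ^ k * x⁻¹ = ((x * v) ^ k)⁻¹ := by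
    intro k
    rw [← conj_pow, c1, inv_pow]
  have pos : 0 < orderOf (x * v) := orderOf_pos _
  rcases Nat.even_or_odd' (orderOf (x * v)) with ⟨k, hk | hk⟩
  · refine ⟨(x * v) ^ k, ?_, ?_, ?_, ?_⟩
    · intro e
      have := orderOf_dvd_of_pow_eq_one e
      have := Nat.le_of_dvd (by omega) this
      omega
    · rw [← pow_add, ← two_mul, ← hk, pow_orderOf_eq_one]
    · have e : ((x * v) ^ k)⁻¹ = (x * v) ^ k := by
        apply inv_eq_of_mul_eq_one_left
        rw [← pow_add, ← two_mul, ← hk, pow_orderOf_eq_one]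
      have := cn k
      rw [e] at this
      exact (mul_inv_eq_iff_eq_mul.mp this).symm
    · have e : ((x * v) ^ k)⁻¹ = (x * v) ^ k := by
        apply inv_eq_of_mul_eq_one_left
        rw [← pow_add, ← two_mul, ← hk, pow_orderOf_eq_one]
      have := cn k
      rw [e] at this
      have h2 : x * (x * v) ^ k = (x * v) ^ k * x := mul_inv_eq_iff_eq_mul.mp this
      have h3 : Commute ((x * v) ^ k) (x * v) := (Commute.refl _).pow_left k
      have h4 : Commute ((x * v) ^ k) x := h2.symm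
      have h5 : v = x * (x * v) := by rw [← mul_assoc, hx, one_mul]
      have h6 : Commute ((x * v) ^ k) (x * (x * v)) := h4.mul_right h3
      rw [← h5] at h6
      exact h6.eq
  · exfalso
    apply hn ((x * v) ^ k)
    have h2 : x * ((x * v) ^ k)⁻¹ = (x * v) ^ k * x := by
      calc x * ((x * v) ^ k)⁻¹ = x * (x * (x * v) ^ k * x⁻¹) := by rw [cn k]
        _ = (x * x) * (x * v) ^ k * x⁻¹ := by simp only [mul_assoc]
        _ = (x * v) ^ k * x := by rw [hx, one_mul, ix]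
    rw [mul_assoc, h2, ← mul_assoc, ← pow_add, ← two_mul]
    have h4 : (x * v) ^ (2 * k) * (x * v) = 1 := by
      rw [← pow_succ, ← hk, pow_orderOf_eq_one]
    rw [eq_inv_of_mul_eq_one_left h4, mul_inv_rev, ix, iv, mul_assoc, hx, mul_one]

theorem near (h : FinHyp z p) (hG : IsCharacteristicTwoType G) (x : Pt z) (m : Ln z p) :
    ∃ x1 x2 x3, Octagon.Col (Inc z p) x x1 ∧ Octagon.Col (Inc z p) x1 x2 ∧ Octagon.Col (Inc z p) x2 x3 ∧
      Inc z p x3 m := by
  obtain ⟨m, a, b, hab, rfl⟩ := m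
  obtain ⟨v, T⟩ := h.exists_TL hab
  have hv := h.U_sq (h.isPt_left T.1) T.2.1
  obtain ⟨t, t1, t2, tx, tv⟩ := exists_invol (h.sq x.2) hv (fun g e => h.TL_not_isPt T (e ▸ x.2.conj g))
  -- `t` is in `U y`
  obtain ⟨y, hxy, hy⟩ : ∃ y : Pt z, Octagon.Col (Inc z p) x y ∧ t ∈ U z p y.1 := by
    rcases h.invol x.2 tx t2 with h1 | ⟨y, hy, h1⟩
    · obtain ⟨l, hl⟩ : ∃ l : Ln z p, x.1 ∈ l.1 := by
        obtain ⟨g, hg⟩ := x.2
        exact ⟨⟨_, g * z * g⁻¹, g * p * g⁻¹, ⟨g, rfl, rfl⟩, rfl⟩, Or.inl hg.symm⟩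
      exact ⟨x, ⟨l, hl, hl⟩, h1⟩
    · exact ⟨⟨y, h.near_right hy⟩, col_of_adj hy x.2 _, h1⟩
  have hself : ∀ y : Pt z, Octagon.Col (Inc z p) y y := by
    intro y
    obtain ⟨g, hg⟩ := y.2
    exact ⟨⟨_, g * z * g⁻¹, g * p * g⁻¹, ⟨g, rfl, rfl⟩, rfl⟩, Or.inl hg.symm, Or.inl hg.symm⟩
  -- if `t` is a point
  have main1 : ∀ y2 : Pt z, Octagon.Col (Inc z p) y y2 → v * y2.1 = y2.1 * v →
      ∃ x1 x2 x3, Octagon.Col (Inc z p) x x1 ∧ Octagon.Col (Inc z p) x1 x2 ∧ Octagon.Col (Inc z p) x2 x3 ∧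
      Inc z p x3 ⟨{a, b, a * b}, a, b, hab, rfl⟩ := by
    intro y2 hy2 hc
    obtain ⟨y3, hy3, hy3'⟩ := h.exists_col_of_comm hG y2.2 hc T
    exact ⟨y, y2, y3, hxy, hy2, hy3, hy3'⟩
  rcases h.U_cases y.2 hy with e | e | e | ⟨w', e⟩
  · exact absurd e t1
  · exact main1 y (hself y) (by rw [← e, tv])
  · exact main1 ⟨t, h.near_right e⟩ (col_of_adj e y.2 _) tv.symm
  · -- `t` is on the line `l = {y, w', y * w'}`, `v` normalises `l`
    have e2 := e.conj v
    have e3 : v * t * v⁻¹ = t := by rw [← tv, mul_inv_cancel_right]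
    rw [e3] at e2
    have e4 := h.TL_unique hG e2 e
    obtain ⟨y2, hy2, hy2'⟩ : ∃ y2 ∈ ({y.1, w', y.1 * w'} : Set G), v * y2 * v⁻¹ = y2 := by
      have iv : v⁻¹ = v := inv_eq_of_mul_eq_one_left hv
      have c1 : v * y.1 * v⁻¹ ∈ ({y.1, w', y.1 * w'} : Set G) := by
        rw [← e4]
        exact Or.inl rfl
      have c2 : ∀ g, v * (v * g * v⁻¹) * v⁻¹ = g := by
        intro g
        rw [iv]
        calc v * (v * g * v) * v = (v * v) * g * (v * v) := by simp only [mul_assoc]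
          _ = g := by rw [hv, one_mul, mul_one]
      have c3 : ∀ g k, v * (g * k) * v⁻¹ = (v * g * v⁻¹) * (v * k * v⁻¹) := by
        intro g k
        group
      have cc := h.near_comm e.1
      have yy := h.sq y.2
      rcases c1 with c | c | c
      · exact ⟨y.1, Or.inl rfl, c⟩
      · refine ⟨y.1 * w', Or.inr (Or.inr rfl), ?_⟩
        have c5 : v * w' * v⁻¹ = y.1 := by rw [← c, c2]
        rw [c3, c, c5, cc]
      · refine ⟨w', Or.inr (Or.inl rfl), ?_⟩
        have c5 : v * (y.1 * w') * v⁻¹ = y.1 := by rw [← c, c2]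
        have c6 : w' = y.1 * (y.1 * w') := by rw [← mul_assoc, yy, one_mul]
        rw [c6, c3, c, c5, cc, mul_assoc, yy, mul_one, ← cc, ← mul_assoc, yy, one_mul]
    have hy2p : IsPt z y2 := by
      rcases hy2 with r | r | r
      · rw [r]; exact y.2
      · rw [r]; exact h.near_right e.1
      · rw [r]; exact h.near_right (h.third e.1)
    refine main1 ⟨y2, hy2p⟩ ⟨⟨_, y.1, w', e.1, rfl⟩, Or.inl rfl, hy2⟩ ?_
    exact mul_inv_eq_iff_eq_mul.mp hy2'

theorem oct (h : FinHyp z p) (hG : IsCharacteristicTwoType G) : Octagon.Oct (Inc z p) (rel z p) where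
  three := h.card_three
  five := h.card_five
  rel0 x := by
    unfold rel
    rw [if_pos rfl]
  rel1 := h.rel1
  rel2 := h.rel2
  rel3 := h.rel3
  rel4 := h.rel4
  near := h.near hG

theorem card_eq_pt (h : FinHyp z p) : Nat.card G = Nat.card (Pt z) * 10240 := by
  classical
  let f : G → Pt z := fun g => ⟨g * z * g⁻¹, g, rfl⟩
  have hfib : ∀ x, Nat.card {g // f g = x} = 10240 := by
    rintro ⟨x, k, rfl⟩
    rw [← h.cardC]
    refine Nat.card_congr ⟨fun g => ⟨k⁻¹ * g.1, ?_⟩, fun c => ⟨k * c.1, ?_⟩, fun g => ?_, fun c => ?_⟩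
    · have h1 : g.1 * z * g.1⁻¹ = k * z * k⁻¹ := congrArg Subtype.val g.2
      rw [mem_centralizer_singleton_iff]
      calc k⁻¹ * g.1 * z = k⁻¹ * (g.1 * z * g.1⁻¹) * g.1 := by group
        _ = k⁻¹ * (k * z * k⁻¹) * g.1 := by rw [h1]
        _ = z * (k⁻¹ * g.1) := by group
    · have h1 := mem_centralizer_singleton_iff.mp c.2
      apply Subtype.ext
      show k * c.1 * z * (k * c.1)⁻¹ = k * z * k⁻¹
      calc k * c.1 * z * (k * c.1)⁻¹ = k * (c.1 * z) * c.1⁻¹ * k⁻¹ := by group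
        _ = k * (z * c.1) * c.1⁻¹ * k⁻¹ := by rw [h1]
        _ = _ := by group
    · apply Subtype.ext
      show k * (k⁻¹ * g.1) = g.1
      group
    · apply Subtype.ext
      show k⁻¹ * (k * c.1) = c.1
      group
  have h1 := Nat.card_congr (Equiv.sigmaFiberEquiv f)
  have : Fintype (Pt z) := Fintype.ofFinite _
  rw [Nat.card_sigma] at h1
  simp only [hfib, Finset.sum_const, smul_eq_mul, Finset.card_univ] at h1
  rw [Nat.card_eq_fintype_card (α := Pt z)]
  exact h1.symm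

theorem card_eq (h : FinHyp z p) (hG : IsCharacteristicTwoType G) : Nat.card G = 17971200 := by
  classical
  have ho := h.oct hG
  have : Nonempty (Pt z) := ⟨⟨z, 1, by group⟩⟩
  have hL := ho.card_lines
  have e : (Σ x : Pt z, {l // Inc z p x l}) ≃ (Σ l : Ln z p, {x // Inc z p x l}) :=
    { toFun := fun a => ⟨a.2.1, a.1, a.2.2⟩
      invFun := fun a => ⟨a.2.1, a.1, a.2.2⟩
      left_inv := fun a => rfl
      right_inv := fun a => rfl }
  have h1 := Nat.card_congr e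
  have : Fintype (Pt z) := Fintype.ofFinite _
  have : Fintype (Ln z p) := Fintype.ofFinite _
  rw [Nat.card_sigma, Nat.card_sigma] at h1
  simp only [h.card_five, h.card_three, Finset.sum_const, smul_eq_mul, Finset.card_univ] at h1
  rw [Nat.card_eq_fintype_card] at hL
  have h2 := h.card_eq_pt
  rw [Nat.card_eq_fintype_card (α := Pt z)] at h2
  omega

end FinHyp

end Cfsg.Agent.Classification.TitsFin
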