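import Mathlib


/-!
# The Tits group configuration: a subgroup `S₅` from one apartment

Points are involutions; `U x` plays the role of the group generated by the points collinear with `x`, `Q x`
is the kernel of the centraliser of `x` on the lines through `x`.
-/

set_option autoImplicit false

namespace Cfsg.Agent.Classification.TitsFin.SFive

variable {G : Type*} [Group G]

/-- `a` and `b` are distinct collinear points. -/
structure Col (P : Set G) (U : G → Subgroup G) (a b : G) : Prop where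
  left : a ∈ P
  right : b ∈ P
  mem : b ∈ U a
  mem' : a ∈ U b
  ne : a ≠ b

/-- `a`, `b`, `c` is a path of points, the lines `ab` and `bc` are distinct. -/
structure Bend (P : Set G) (U : G → Subgroup G) (a b c : G) : Prop where
  l : Col P U a b
  r : Col P U b c
  ne : c ≠ a
  ne' : c ≠ a * b

/-- The local facts, and the uniqueness of paths of length three. -/
structure Geo (P : Set G) (U Q : G → Subgroup G) : Prop where
  ne_one : ∀ x ∈ P, x ≠ 1
  conj_P : ∀ g x, x ∈ P → g * x * g⁻¹ ∈ P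
  conj_U : ∀ g x u, x ∈ P → u ∈ U x → g * u * g⁻¹ ∈ U (g * x * g⁻¹)
  conj_Q : ∀ g x u, x ∈ P → u ∈ Q x → g * u * g⁻¹ ∈ Q (g * x * g⁻¹)
  self : ∀ x ∈ P, x ∈ U x
  U_sq : ∀ x ∈ P, ∀ u ∈ U x, u * u = 1
  U_le : ∀ x ∈ P, ∀ u ∈ U x, u ∈ Q x
  cent : ∀ x ∈ P, ∀ g, (∀ u ∈ U x, g * u = u * g) → g ∈ U x
  UQ : ∀ x ∈ P, ∀ q ∈ Q x, ∀ u ∈ U x, q * u * q⁻¹ = u ∨ q * u * q⁻¹ = u * x
  not_mem : ∀ a b c, Bend P U a b c → a ∉ Q c
  ker_index : ∀ b c, Col P U b c → ∀ u ∈ U b, ∀ v ∈ U b, u ∉ Q c → v ∉ Q c → u * v ∈ Q c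
  gen : ∀ a b c, Bend P U a b c → ∀ u ∈ U b, ∃ e ∈ U b, ∃ f ∈ U b, e ∈ U a ∧ f ∈ U c ∧ u = e * f
  int : ∀ a b c, Bend P U a b c → ∀ u ∈ U b, u ∈ U a → u ∈ U c → u = 1 ∨ u = b
  two_lines : ∀ a b c, Bend P U a b c → ∀ g, g * b * g⁻¹ = b →
    (g * a * g⁻¹ = a ∨ g * a * g⁻¹ = a * b) → (g * c * g⁻¹ = c ∨ g * c * g⁻¹ = c * b) → g ∈ Q b
  ex : ∀ a b, Col P U a b → ∃ e ∈ U a, e ∈ U b ∧ e ≠ 1 ∧ e ≠ a ∧ e ≠ b ∧ e ≠ a * b
  two : ∀ a b, Col P U a b → ∀ e f, e ∈ U a → e ∈ U b → f ∈ U a → f ∈ U b →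
    (e = 1 ∨ e = a ∨ e = b ∨ e = a * b) ∨ (f = 1 ∨ f = a ∨ f = b ∨ f = a * b) ∨
      (e * f = 1 ∨ e * f = a ∨ e * f = b ∨ e * f = a * b)
  comm : ∀ b x y, Bend P U b x y → ∀ q q' e f : G, q ∈ U b → q ∈ Q x → q ∉ U x →
    q' ∈ U y → q' ∈ Q x → q' ∉ U x → e ∈ U b → e ∈ U x → e ∈ Q y → e ≠ 1 → e ≠ x →
    f ∈ U y → f ∈ U x → f ∈ Q b → f ≠ 1 → f ≠ x →
    q * q' * q⁻¹ * q'⁻¹ = e * f ∨ q * q' * q⁻¹ * q'⁻¹ = e * f * x
  unique : ∀ a b c d b' c', Bend P U a b c → Bend P U b c d → Bend P U a b' c' → Bend P U b' c' d →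
    b = b' ∧ c = c'

/-- `x` is the root element of the path `a`, `b`, `c`, `d`. -/
structure IsC (U Q : G → Subgroup G) (a b c d x : G) : Prop where
  ub : x ∈ U b
  uc : x ∈ U c
  qa : x ∈ Q a
  qd : x ∈ Q d
  ne : x ≠ 1

theorem IsC.symm {U Q : G → Subgroup G} {a b c d x : G} (h : IsC U Q a b c d x) : IsC U Q d c b a x :=
  ⟨h.uc, h.ub, h.qd, h.qa, h.ne⟩

namespace Geo

variable {P : Set G} {U Q : G → Subgroup G}

theorem _root_.Cfsg.Agent.Classification.TitsFin.SFive.Col.symm {a b : G} (h : Col P U a b) : Col P U b a :=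
  ⟨h.right, h.left, h.mem', h.mem, h.ne.symm⟩

variable (h : Geo P U Q)
include h

theorem comm_of_mem {x : G} (hx : x ∈ P) {u v : G} (hu : u ∈ U x) (hv : v ∈ U x) : u * v = v * u := by
  have h1 := h.U_sq x hx _ (mul_mem hu hv)
  have h2 := h.U_sq x hx _ hu
  have h3 := h.U_sq x hx _ hv
  have h4 : u⁻¹ = u := inv_eq_of_mul_eq_one_left h2
  have h5 : v⁻¹ = v := inv_eq_of_mul_eq_one_left h3
  have h6 : (u * v)⁻¹ = u * v := inv_eq_of_mul_eq_one_left h1
  rw [mul_inv_rev, h4, h5] at h6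
  exact h6.symm

theorem sq {x : G} (hx : x ∈ P) : x * x = 1 := h.U_sq x hx x (h.self x hx)

theorem inv_eq {x : G} (hx : x ∈ P) {u : G} (hu : u ∈ U x) : u⁻¹ = u :=
  inv_eq_of_mul_eq_one_left (h.U_sq x hx u hu)

/-- elements of `Q x` centralise `x` -/
theorem Q_comm {x : G} (hx : x ∈ P) {q : G} (hq : q ∈ Q x) : q * x * q⁻¹ = x := by
  rcases h.UQ x hx q hq x (h.self x hx) with h1 | h1
  · exact h1
  · exfalso
    rw [h.sq hx] at h1
    apply h.ne_one x hx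
    have : x = q⁻¹ * (q * x * q⁻¹) * q := by group
    rw [this, h1]; group

theorem bend_symm {a b c : G} (hb : Bend P U a b c) : Bend P U c b a := by
  refine ⟨hb.r.symm, hb.l.symm, hb.ne.symm, ?_⟩
  intro h1
  apply hb.ne'
  rw [h1, mul_assoc, h.sq hb.l.right, mul_one]

theorem not_mem' {a b c : G} (hb : Bend P U a b c) : c ∉ Q a := h.not_mem _ _ _ (h.bend_symm hb)

theorem conj_mem_iff_U (g : G) {x u : G} (hx : x ∈ P) (hu : u ∈ U x) {y : G} (hy : g * x * g⁻¹ = y) :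
    g * u * g⁻¹ ∈ U y := hy ▸ h.conj_U g x u hx hu

theorem conj_mem_iff_Q (g : G) {x u : G} (hx : x ∈ P) (hu : u ∈ Q x) {y : G} (hy : g * x * g⁻¹ = y) :
    g * u * g⁻¹ ∈ Q y := hy ▸ h.conj_Q g x u hx hu

theorem conj_col (g : G) {a b : G} (hc : Col P U a b) : Col P U (g * a * g⁻¹) (g * b * g⁻¹) :=
  ⟨h.conj_P g a hc.left, h.conj_P g b hc.right, h.conj_U g a b hc.left hc.mem,
    h.conj_U g b a hc.right hc.mem', fun h1 => hc.ne (mul_left_cancel (mul_right_cancel h1))⟩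

theorem conj_bend (g : G) {a b c : G} (hc : Bend P U a b c) :
    Bend P U (g * a * g⁻¹) (g * b * g⁻¹) (g * c * g⁻¹) := by
  refine ⟨h.conj_col g hc.l, h.conj_col g hc.r,
    fun h1 => hc.ne (mul_left_cancel (mul_right_cancel h1)), fun h1 => hc.ne' ?_⟩
  have h2 : g * c * g⁻¹ = g * (a * b) * g⁻¹ := by rw [h1]; group
  exact mul_left_cancel (mul_right_cancel h2)

/-- two elements of `Q b ∩ U a`, `Q a ∩ U b` commute if `a ≠ b` -/
theorem comm_cross {a b : G} (hc : Col P U a b) {u v : G} (hua : u ∈ U a) (huq : u ∈ Q b)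
    (hvb : v ∈ U b) (hvq : v ∈ Q a) : u * v = v * u := by
  have hab := h.comm_of_mem hc.left (h.self a hc.left) hc.mem
  rcases h.UQ b hc.right u huq v hvb with h1 | h1
  · calc u * v = u * v * u⁻¹ * u := by group
      _ = v * u := by rw [h1]
  rcases h.UQ a hc.left v hvq u hua with h2 | h2
  · calc u * v = v * u * v⁻¹ * v := by rw [h2]
      _ = v * u := by group
  exfalso
  -- `[u,v] = v b v⁻¹ = b` and `[u,v]⁻¹ = u a u⁻¹ = a`
  have hvb' : v * b = b * v := h.comm_of_mem hc.right hvb (h.self b hc.right)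
  have hua' : u * a = a * u := h.comm_of_mem hc.left hua (h.self a hc.left)
  have e1 : u * v * u⁻¹ * v⁻¹ = b := by rw [h1, hvb']; group
  have e2 : v * u * v⁻¹ * u⁻¹ = a := by rw [h2, hua']; group
  have e3 : (u * v * u⁻¹ * v⁻¹) * (v * u * v⁻¹ * u⁻¹) = 1 := by group
  rw [e1, e2] at e3
  apply hc.ne
  calc a = (b * b) * a := by rw [h.sq hc.right, one_mul]
    _ = b * (b * a) := by rw [mul_assoc]
    _ = b := by rw [e3, mul_one]

variable {a b c d x : G}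

/-- the root element is not in the line group -/
theorem IsC_notV (h1 : Bend P U a b c) (h2 : Bend P U b c d) (hx : IsC U Q a b c d x) :
    x ≠ b ∧ x ≠ c ∧ x ≠ b * c := by
  have hcd : c ∈ Q d := h.U_le d h2.r.right c h2.r.mem'
  have hbd : b ∉ Q d := h.not_mem _ _ _ h2
  have hca : c ∉ Q a := h.not_mem' h1
  refine ⟨fun e => hbd (e ▸ hx.qd), fun e => hca (e ▸ hx.qa), fun e => hbd ?_⟩
  have := mul_mem (e ▸ hx.qd) hcd
  rwa [mul_assoc, h.sq h2.l.right, mul_one] at this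

theorem exists_c (h1 : Bend P U a b c) (h2 : Bend P U b c d) : ∃ x, IsC U Q a b c d x := by
  obtain ⟨e, heb, hec, hne, hne1, hne2, hne3⟩ := h.ex b c h1.r
  have hcd : c ∈ Q d := h.U_le d h2.r.right c h2.r.mem'
  have hbd : b ∉ Q d := h.not_mem _ _ _ h2
  have hca : c ∉ Q a := h.not_mem' h1
  have hba : b ∈ Q a := h.U_le a h1.l.left b h1.l.mem
  have hbb := h.sq h1.r.left
  have hcc := h.sq h1.r.right
  -- first correct at `d`
  obtain ⟨e, heb, hec, hne, hne1, hne2, hne3, hed⟩ : ∃ e ∈ U b, e ∈ U c ∧ e ≠ 1 ∧ e ≠ b ∧ e ≠ c ∧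
      e ≠ b * c ∧ e ∈ Q d := by
    by_cases hed : e ∈ Q d
    · exact ⟨e, heb, hec, hne, hne1, hne2, hne3, hed⟩
    · refine ⟨e * b, mul_mem heb (h.self b h1.r.left), mul_mem hec h1.r.mem', ?_, ?_, ?_, ?_, ?_⟩
      · intro h3
        exact hne1 (by rw [← mul_one e, ← hbb, ← mul_assoc, h3, one_mul])
      · intro h3; exact hne (mul_eq_right.mp h3)
      · intro h3
        apply hne3
        rw [h.comm_of_mem h1.r.left (h.self b h1.r.left) h1.r.mem, ← h3, mul_assoc, hbb, mul_one]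
      · intro h3
        apply hne2
        rw [h.comm_of_mem h1.r.left (h.self b h1.r.left) h1.r.mem] at h3
        exact mul_right_cancel h3
      · exact h.ker_index c d h2.r e hec b h1.r.mem' hed hbd
  by_cases hea : e ∈ Q a
  · exact ⟨e, heb, hec, hea, hed, hne⟩
  · refine ⟨e * c, mul_mem heb h1.r.mem, mul_mem hec (h.self c h1.r.right),
      h.ker_index b a h1.l.symm e heb c h1.r.mem hea hca, mul_mem hed hcd, ?_⟩
    intro h3
    exact hne2 (by rw [← mul_one e, ← hcc, ← mul_assoc, h3, one_mul])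

theorem unique_c (h1 : Bend P U a b c) (h2 : Bend P U b c d) {y : G} (hx : IsC U Q a b c d x)
    (hy : IsC U Q a b c d y) : x = y := by
  obtain ⟨n1, n2, n3⟩ := h.IsC_notV h1 h2 hx
  obtain ⟨m1, m2, m3⟩ := h.IsC_notV h1 h2 hy
  have key := h.two b c h1.r x y hx.ub hx.uc hy.ub hy.uc
  have hxy : IsC U Q a b c d (x * y) ∨ x * y = 1 := by
    by_cases h3 : x * y = 1
    · exact Or.inr h3
    · exact Or.inl ⟨mul_mem hx.ub hy.ub, mul_mem hx.uc hy.uc, mul_mem hx.qa hy.qa, mul_mem hx.qd hy.qd, h3⟩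
  have h4 : x * y = 1 := by
    rcases hxy with h3 | h3
    · obtain ⟨k1, k2, k3⟩ := h.IsC_notV h1 h2 h3
      have hx1 := hx.ne
      have hy1 := hy.ne
      tauto
    · exact h3
  have h5 := h.inv_eq h1.r.left hy.ub
  have h6 : x = y⁻¹ := eq_inv_of_mul_eq_one_left h4
  rw [h6, h5]

/-- the root element moves the next point -/
theorem moves (h1 : Bend P U a b c) (h2 : Bend P U b c d) {e : G} (h3 : Bend P U c d e)
    (hx : IsC U Q a b c d x) : x * e * x⁻¹ = e * d := by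
  rcases h.UQ d h2.r.right x hx.qd e h3.r.mem with h4 | h4
  swap
  · exact h4
  exfalso
  have hxe : x * e = e * x := by
    calc x * e = x * e * x⁻¹ * x := by group
      _ = e * x := by rw [h4]
  have hec : e ∉ Q c := h.not_mem' h3
  have hxd : x ∈ U d := by
    apply h.cent d h2.r.right
    intro u hu
    by_cases huc : u ∈ Q c
    · exact h.comm_cross h2.r hx.uc hx.qd hu huc
    · have h5 : u * e ∈ Q c := h.ker_index d c h2.r.symm u hu e h3.r.mem huc hec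
      have h6 := h.comm_cross h2.r hx.uc hx.qd (mul_mem hu h3.r.mem) h5
      have h7 : x * u * e = u * x * e := by rw [mul_assoc, h6, mul_assoc, ← hxe, mul_assoc]
      exact mul_right_cancel h7
  rcases h.int b c d h2 x hx.uc hx.ub hxd with h5 | h5
  · exact hx.ne h5
  · exact (h.IsC_notV h1 h2 hx).2.1 h5

theorem not_mem_Ud (h1 : Bend P U a b c) (h2 : Bend P U b c d) (hx : IsC U Q a b c d x) : x ∉ U d := by
  intro hxd
  rcases h.int b c d h2 x hx.uc hx.ub hxd with h5 | h5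
  · exact hx.ne h5
  · exact (h.IsC_notV h1 h2 hx).2.1 h5

omit h in
theorem _root_.Cfsg.Agent.Classification.TitsFin.SFive.conj_of_comm {u v : G} (h : u * v = v * u) :
    u * v * u⁻¹ = v := by rw [h]; group

theorem fix_a (h1 : Bend P U a b c) (hx : IsC U Q a b c d x) : x * a * x⁻¹ = a := h.Q_comm h1.l.left hx.qa
theorem fix_b (h1 : Bend P U a b c) (hx : IsC U Q a b c d x) : x * b * x⁻¹ = b :=
  conj_of_comm (h.comm_of_mem h1.r.left hx.ub (h.self b h1.r.left))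
theorem fix_c (h1 : Bend P U a b c) (hx : IsC U Q a b c d x) : x * c * x⁻¹ = c :=
  conj_of_comm (h.comm_of_mem h1.r.right hx.uc (h.self c h1.r.right))
theorem fix_d (h2 : Bend P U b c d) (hx : IsC U Q a b c d x) : x * d * x⁻¹ = d :=
  h.Q_comm h2.r.right hx.qd


omit h in
/-- action of two transvections on a four-group -/
theorem s3_action {x y u v : G} (huu : u * u = 1) (hvv : v * v = 1) (huv : u * v = v * u)
    (xu : x * u * x⁻¹ = u) (xv : x * v * x⁻¹ = v * u) (yv : y * v * y⁻¹ = v) (yu : y * u * y⁻¹ = u * v) :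
    (x * y * x * y * x * y) * u * (x * y * x * y * x * y)⁻¹ = u ∧
    (x * y * x * y * x * y) * v * (x * y * x * y * x * y)⁻¹ = v ∧
    (x * y * x) * u * (x * y * x)⁻¹ = v ∧ (x * y * x) * v * (x * y * x)⁻¹ = u := by
  have e1 : MulAut.conj x u = u := xu
  have e2 : MulAut.conj x v = v * u := xv
  have e3 : MulAut.conj y v = v := yv
  have e4 : MulAut.conj y u = u * v := yu
  have e5 : v * u * u = v := by rw [mul_assoc, huu, mul_one]
  have e6 : u * v * u = v := by rw [huv, e5]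
  have e7 : v * u * v = u := by rw [← huv, mul_assoc, hvv, mul_one]
  have e8 : u * (v * u) = v := by rw [← mul_assoc, e6]
  have t1 : MulAut.conj (x * y) u = v := by
    rw [map_mul, MulAut.mul_apply, e4, map_mul, e1, e2, e8]
  have t2 : MulAut.conj (x * y) v = v * u := by
    rw [map_mul, MulAut.mul_apply, e3, e2]
  have t3 : MulAut.conj (x * y) (v * u) = u := by
    rw [map_mul, t1, t2, e7]
  have ha : x * y * x * y * x * y = (x * y) * ((x * y) * (x * y)) := by group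
  refine ⟨?_, ?_, ?_, ?_⟩
  · show MulAut.conj (x * y * x * y * x * y) u = u
    rw [ha, map_mul _ (x * y), MulAut.mul_apply, map_mul _ (x * y), MulAut.mul_apply, t1, t2, t3]
  · show MulAut.conj (x * y * x * y * x * y) v = v
    rw [ha, map_mul _ (x * y), MulAut.mul_apply, map_mul _ (x * y), MulAut.mul_apply, t2, t3, t1]
  · show MulAut.conj (x * y * x) u = v
    rw [map_mul, MulAut.mul_apply, e1, t1]
  · show MulAut.conj (x * y * x) v = u
    rw [map_mul, MulAut.mul_apply, e2, t3]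

end Geo

/-- eight points in a cycle -/
structure Cyc (P : Set G) (U : G → Subgroup G) (a0 a1 a2 a3 a4 a5 a6 a7 : G) : Prop where
  b0 : Bend P U a7 a0 a1
  b1 : Bend P U a0 a1 a2
  b2 : Bend P U a1 a2 a3
  b3 : Bend P U a2 a3 a4
  b4 : Bend P U a3 a4 a5
  b5 : Bend P U a4 a5 a6
  b6 : Bend P U a5 a6 a7
  b7 : Bend P U a6 a7 a0

namespace Geo

variable {P : Set G} {U Q : G → Subgroup G} (h : Geo P U Q)
include h

/-- an element which centralises `E` and fixes the lines at two points -/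
theorem cent_E {a b g u : G} (hc : Col P U a b) (ga : g ∈ Q a) (gb : g ∈ Q b) (ua : u ∈ U a) (ub : u ∈ U b) :
    g * u = u * g := by
  have key : g * u * g⁻¹ = u := by
    rcases h.UQ a hc.left g ga u ua with h1 | h1
    · exact h1
    rcases h.UQ b hc.right g gb u ub with h2 | h2
    · exact h2
    exfalso
    exact hc.ne (mul_left_cancel (h1.symm.trans h2))
  calc g * u = g * u * g⁻¹ * g := by group
    _ = u * g := by rw [key]

/-- an element fixing the lines at three consecutive points lies in `U` of the middle one -/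
theorem mem_U_of_three {a b c g : G} (hb : Bend P U a b c) (ga : g ∈ Q a) (gb : g ∈ Q b) (gc : g ∈ Q c) :
    g ∈ U b := by
  apply h.cent b hb.l.right
  intro u hu
  obtain ⟨e, he, f, hf, hea, hfc, rfl⟩ := h.gen a b c hb u hu
  have h1 := h.cent_E hb.l ga gb hea he
  have h2 := h.cent_E hb.r gb gc hf hfc
  rw [← mul_assoc, h1, mul_assoc, h2, mul_assoc]

variable {a0 a1 a2 a3 a4 a5 a6 a7 x y : G}

/-- the action of two opposite root elements -/
theorem opp_action (hc : Cyc P U a0 a1 a2 a3 a4 a5 a6 a7) (hx : IsC U Q a0 a1 a2 a3 x)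
    (hy : IsC U Q a4 a5 a6 a7 y) :
    ((x * y * x * y * x * y) * a3 * (x * y * x * y * x * y)⁻¹ = a3 ∧
    (x * y * x * y * x * y) * a4 * (x * y * x * y * x * y)⁻¹ = a4 ∧
    (x * y * x) * a3 * (x * y * x)⁻¹ = a4 ∧ (x * y * x) * a4 * (x * y * x)⁻¹ = a3) ∧
    ((x * y * x * y * x * y) * a0 * (x * y * x * y * x * y)⁻¹ = a0 ∧
    (x * y * x * y * x * y) * a7 * (x * y * x * y * x * y)⁻¹ = a7 ∧
    (x * y * x) * a0 * (x * y * x)⁻¹ = a7 ∧ (x * y * x) * a7 * (x * y * x)⁻¹ = a0) := by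
  have p0 := hc.b0.r.left
  have p3 := hc.b3.r.left
  have p4 := hc.b3.r.right
  have p7 := hc.b0.l.left
  refine ⟨s3_action (h.sq p3) (h.sq p4) (h.comm_of_mem p3 (h.self a3 p3) hc.b3.r.mem)
    (h.fix_d hc.b2 hx) (h.moves hc.b1 hc.b2 hc.b3 hx) (h.fix_a hc.b5 hy)
    (h.moves (h.bend_symm hc.b6) (h.bend_symm hc.b5) (h.bend_symm hc.b4) hy.symm),
    s3_action (h.sq p0) (h.sq p7) (h.comm_of_mem p0 (h.self a0 p0) hc.b0.l.mem')
    (h.fix_a hc.b1 hx) (h.moves (h.bend_symm hc.b2) (h.bend_symm hc.b1) (h.bend_symm hc.b0) hx.symm)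
    (h.fix_d hc.b6 hy) (h.moves hc.b5 hc.b6 hc.b7 hy)⟩

/-- the product of two opposite root elements has order `3` -/
theorem order_three (hc : Cyc P U a0 a1 a2 a3 a4 a5 a6 a7) (hx : IsC U Q a0 a1 a2 a3 x)
    (hy : IsC U Q a4 a5 a6 a7 y) : x * y * x * y * x * y = 1 := by
  obtain ⟨⟨g3, g4, -, -⟩, ⟨g0, g7, -, -⟩⟩ := h.opp_action hc hx hy
  set g := x * y * x * y * x * y with hg
  clear_value g
  have k1 := h.conj_bend g hc.b1
  have k2 := h.conj_bend g hc.b2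
  rw [g0] at k1
  rw [g3] at k2
  obtain ⟨g1, g2⟩ := h.unique _ _ _ _ _ _ k1 k2 hc.b1 hc.b2
  have q3 : g ∈ Q a3 := h.two_lines _ _ _ hc.b3 g g3 (Or.inl g2) (Or.inl g4)
  have q2 : g ∈ Q a2 := h.two_lines _ _ _ hc.b2 g g2 (Or.inl g1) (Or.inl g3)
  have q1 : g ∈ Q a1 := h.two_lines _ _ _ hc.b1 g g1 (Or.inl g0) (Or.inl g2)
  have q0 : g ∈ Q a0 := h.two_lines _ _ _ hc.b0 g g0 (Or.inl g7) (Or.inl g1)
  have u1 := h.mem_U_of_three hc.b1 q0 q1 q2
  have u2 := h.mem_U_of_three hc.b2 q1 q2 q3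
  by_contra hne
  have hgx : g = x := h.unique_c hc.b1 hc.b2 ⟨u1, u2, q0, q3, hne⟩ hx
  have hm := h.moves hc.b1 hc.b2 hc.b3 hx
  rw [← hgx, g4] at hm
  exact h.ne_one a3 hc.b3.l.right (mul_eq_left.mp hm.symm)

theorem braid (hc : Cyc P U a0 a1 a2 a3 a4 a5 a6 a7) (hx : IsC U Q a0 a1 a2 a3 x)
    (hy : IsC U Q a4 a5 a6 a7 y) : x * y * x = y * x * y := by
  have h1 := h.order_three hc hx hy
  have hxx := h.U_sq a1 hc.b1.l.right x hx.ub
  have hyy := h.U_sq a5 hc.b5.l.right y hy.ub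
  have hxi : x⁻¹ = x := inv_eq_of_mul_eq_one_left hxx
  have hyi : y⁻¹ = y := inv_eq_of_mul_eq_one_left hyy
  have h2 : x * y * x * (y * x * y) = 1 := by rw [← h1]; group
  have h3 : x * y * x = (y * x * y)⁻¹ := eq_inv_of_mul_eq_one_left h2
  rw [h3, mul_inv_rev, mul_inv_rev, hxi, hyi, mul_assoc]

theorem mul_ne_one (hc : Cyc P U a0 a1 a2 a3 a4 a5 a6 a7) (hx : IsC U Q a0 a1 a2 a3 x)
    (hy : IsC U Q a4 a5 a6 a7 y) : x * y ≠ y * x := by
  intro h1
  have hxi := h.inv_eq hc.b1.l.right hx.ub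
  obtain ⟨⟨-, -, g3, -⟩, -⟩ := h.opp_action hc hx hy
  have h2 : x * y * x = y := by rw [h1, mul_assoc, h.U_sq a1 hc.b1.l.right x hx.ub, mul_one]
  rw [h2] at g3
  have h4 := h.moves (h.bend_symm hc.b6) (h.bend_symm hc.b5) (h.bend_symm hc.b4) hy.symm
  rw [g3] at h4
  exact h.ne_one a3 hc.b3.l.right (mul_eq_right.mp h4.symm)

/-- the reflection `x y x` -/
theorem reflect (hc : Cyc P U a0 a1 a2 a3 a4 a5 a6 a7) (hx : IsC U Q a0 a1 a2 a3 x)
    (hy : IsC U Q a4 a5 a6 a7 y) :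
    (x * y * x) * a1 * (x * y * x)⁻¹ = a6 ∧ (x * y * x) * a2 * (x * y * x)⁻¹ = a5 ∧
    (x * y * x) * a5 * (x * y * x)⁻¹ = a2 ∧ (x * y * x) * a6 * (x * y * x)⁻¹ = a1 := by
  obtain ⟨⟨-, -, g3, g4⟩, ⟨-, -, g0, g7⟩⟩ := h.opp_action hc hx hy
  set g := x * y * x with hg
  clear_value g
  have k1 := h.conj_bend g hc.b1
  have k2 := h.conj_bend g hc.b2
  rw [g0] at k1
  rw [g3] at k2
  obtain ⟨r1, r2⟩ := h.unique _ _ _ _ _ _ k1 k2 (h.bend_symm hc.b6) (h.bend_symm hc.b5)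
  have k5 := h.conj_bend g hc.b5
  have k6 := h.conj_bend g hc.b6
  rw [g4] at k5
  rw [g7] at k6
  obtain ⟨r5, r6⟩ := h.unique _ _ _ _ _ _ k5 k6 (h.bend_symm hc.b2) (h.bend_symm hc.b1)
  exact ⟨r1, r2, r5, r6⟩


/-- root elements with difference one commute -/
theorem comm_one {a b c d e u v : G} (h1 : Bend P U b c d) (hu : IsC U Q a b c d u)
    (hv : IsC U Q b c d e v) : u * v = v * u :=
  h.comm_of_mem h1.l.right hu.uc hv.ub

/-- root elements with difference two commute -/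
theorem comm_two {a b c d e f u v : G} (h1 : Bend P U b c d) (hu : IsC U Q a b c d u)
    (hv : IsC U Q c d e f v) : u * v = v * u :=
  h.comm_cross h1.r hu.uc hu.qd hv.ub hv.qa

theorem comm_three (h1 : Bend P U a0 a1 a2) (h2 : Bend P U a1 a2 a3) (h3 : Bend P U a2 a3 a4)
    (h4 : Bend P U a3 a4 a5) (h5 : Bend P U a4 a5 a6) {c1 c2 c3 c4 : G}
    (k1 : IsC U Q a0 a1 a2 a3 c1) (k2 : IsC U Q a1 a2 a3 a4 c2) (k3 : IsC U Q a2 a3 a4 a5 c3)
    (k4 : IsC U Q a3 a4 a5 a6 c4) :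
    c1 * c4 * c1 * c4 = c2 * c3 ∨ c1 * c4 * c1 * c4 = c2 * c3 * a3 := by
  have i1 := h.inv_eq h1.l.right k1.ub
  have i4 := h.inv_eq h4.l.right k4.ub
  have := h.comm a2 a3 a4 h3 c1 c4 c2 c3 k1.uc k1.qd (h.not_mem_Ud h1 h2 k1) k4.ub k4.qa
    (h.not_mem_Ud (h.bend_symm h5) (h.bend_symm h4) k4.symm) k2.ub k2.uc k2.qd k2.ne
    (h.IsC_notV h2 h3 k2).2.1 k3.uc k3.ub k3.qa k3.ne (h.IsC_notV h3 h4 k3).1
  rwa [i1, i4] at this

/-- the commutator relation -/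
theorem comm_rel (hc : Cyc P U a0 a1 a2 a3 a4 a5 a6 a7) {c1 c2 c3 c4 c5 : G}
    (k1 : IsC U Q a0 a1 a2 a3 c1) (k2 : IsC U Q a1 a2 a3 a4 c2) (k3 : IsC U Q a2 a3 a4 a5 c3)
    (k4 : IsC U Q a3 a4 a5 a6 c4) (k5 : IsC U Q a4 a5 a6 a7 c5) :
    c1 * c4 * c1 * c4 = c2 * c3 := by
  have i1 := h.inv_eq hc.b1.l.right k1.ub
  have i5 := h.inv_eq hc.b5.l.right k5.ub
  have s1 := h.U_sq _ hc.b1.l.right _ k1.ub
  have s2 := h.U_sq _ hc.b2.l.right _ k2.ub
  have s3 := h.U_sq _ hc.b3.l.right _ k3.ub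
  have s4 := h.U_sq _ hc.b4.l.right _ k4.ub
  have s5 := h.U_sq _ hc.b5.l.right _ k5.ub
  obtain ⟨⟨-, -, g3, g4⟩, -⟩ := h.opp_action hc k1 k5
  obtain ⟨g1, g2, g5, g6⟩ := h.reflect hc k1 k5
  -- the reflection maps `c4` to `c2`
  have hn : (c1 * c5 * c1) * c4 * (c1 * c5 * c1)⁻¹ = c2 := by
    apply h.unique_c hc.b2 hc.b3 _ k2
    refine IsC.symm ⟨h.conj_mem_iff_U _ hc.b4.l.right k4.ub g4, h.conj_mem_iff_U _ hc.b5.l.right k4.uc g5,
      h.conj_mem_iff_Q _ hc.b3.l.right k4.qa g3, h.conj_mem_iff_Q _ hc.b6.l.right k4.qd g6, ?_⟩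
    intro h1
    apply k4.ne
    have : c4 = (c1 * c5 * c1)⁻¹ * ((c1 * c5 * c1) * c4 * (c1 * c5 * c1)⁻¹) * (c1 * c5 * c1) := by group
    rw [this, h1]; group
  have hk : c1 * c4 * c1 = c5 * c2 * c5 := by
    have e12 : c1 * c2 = c2 * c1 := h.comm_one hc.b2 k1 k2
    have e4 : c4 = (c1 * c5 * c1)⁻¹ * c2 * (c1 * c5 * c1) := by rw [← hn]; group
    have e5 : c1 * c4 * c1 = c5⁻¹ * (c1⁻¹ * (c2 * c1)) * c5 * (c1 * c1) := by rw [e4]; group
    rw [e5, s1, mul_one, ← e12, inv_mul_cancel_left, i5]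
  have e34 : a3 * c4 = c4 * a3 := by
    have := h.Q_comm hc.b2.r.right k4.qa
    calc a3 * c4 = c4 * a3 * c4⁻¹ * c4 := by rw [this]
      _ = c4 * a3 := by group
  have n3 := h.ne_one a3 hc.b3.l.right
  have n4 := h.ne_one a4 hc.b4.l.right
  have n34 := hc.b3.r.ne
  have w1 := h.comm_three hc.b1 hc.b2 hc.b3 hc.b4 hc.b5 k1 k2 k3 k4
  have w2 := h.comm_three hc.b2 hc.b3 hc.b4 hc.b5 hc.b6 k2 k3 k4 k5
  -- `w c4 = c2 w'`
  have key : (c1 * c4 * c1 * c4) * c4 = c2 * (c2 * c5 * c2 * c5) := by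
    rw [mul_assoc (c1 * c4 * c1), s4, mul_one, hk]
    calc c5 * c2 * c5 = (c2 * c2) * c5 * c2 * c5 := by rw [s2, one_mul]
      _ = _ := by group
  rcases w1 with w1 | w1
  · exact w1
  exfalso
  rcases w2 with w2 | w2
  · rw [w1, w2] at key
    have : c2 * c3 * c4 * a3 = c2 * c3 * c4 := by
      calc c2 * c3 * c4 * a3 = c2 * c3 * (c4 * a3) := by group
        _ = c2 * c3 * a3 * c4 := by rw [← e34]; group
        _ = c2 * c3 * c4 := by rw [key]; group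
    exact n3 (mul_eq_left.mp this)
  · rw [w1, w2] at key
    have : c2 * c3 * c4 * a3 = c2 * c3 * c4 * a4 := by
      calc c2 * c3 * c4 * a3 = c2 * c3 * (c4 * a3) := by group
        _ = c2 * c3 * a3 * c4 := by rw [← e34]; group
        _ = c2 * c3 * c4 * a4 := by rw [key]; group
    exact n34 (mul_left_cancel this)

end Geo

/-- the relations of the root elements of an apartment -/
structure Rel (c : ZMod 8 → G) : Prop where
  sq : ∀ i, c i * c i = 1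
  one : ∀ i, c i * c (i + 1) = c (i + 1) * c i
  two : ∀ i, c i * c (i + 2) = c (i + 2) * c i
  three : ∀ i, c i * c (i + 3) * c i * c (i + 3) = c (i + 1) * c (i + 2)
  four : ∀ i, c i * c (i + 4) * c i = c (i + 4) * c i * c (i + 4)
  ne : ∀ i, c i * c (i + 4) ≠ c (i + 4) * c i

/-- the index form of a cycle -/
theorem cyc_of (P : Set G) (U : G → Subgroup G) (p : ZMod 8 → G)
    (hp : ∀ i, Bend P U (p (i - 1)) (p i) (p (i + 1))) (i : ZMod 8) :
    Cyc P U (p (i - 1)) (p i) (p (i + 1)) (p (i + 2)) (p (i + 3)) (p (i + 4)) (p (i + 5)) (p (i + 6)) := by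
  have key : ∀ j k l : ZMod 8, k = j - 1 ∧ l = j + 1 → Bend P U (p k) (p j) (p l) := by
    rintro j k l ⟨rfl, rfl⟩; exact hp j
  refine ⟨key _ _ _ ?_, key _ _ _ ?_, key _ _ _ ?_, key _ _ _ ?_, key _ _ _ ?_, key _ _ _ ?_, key _ _ _ ?_,
    key _ _ _ ?_⟩ <;> revert i <;> decide

/-- the indexed apartment from the explicit one -/
theorem bend_of_cyc {P : Set G} {U : G → Subgroup G} {a0 a1 a2 a3 a4 a5 a6 a7 : G}
    (hc : Cyc P U a0 a1 a2 a3 a4 a5 a6 a7) :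
    ∃ p : ZMod 8 → G, ∀ i, Bend P U (p (i - 1)) (p i) (p (i + 1)) := by
  let p : Fin 8 → G := ![a0, a1, a2, a3, a4, a5, a6, a7]
  refine ⟨p, fun i => ?_⟩
  fin_cases i
  · exact hc.b0
  · exact hc.b1
  · exact hc.b2
  · exact hc.b3
  · exact hc.b4
  · exact hc.b5
  · exact hc.b6
  · exact hc.b7

/-- **The relations of the root elements.** -/
theorem exists_rel {P : Set G} {U Q : G → Subgroup G} (h : Geo P U Q) (p : ZMod 8 → G)
    (hp : ∀ i, Bend P U (p (i - 1)) (p i) (p (i + 1))) :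
    ∃ c : ZMod 8 → G, (∀ i, IsC U Q (p (i - 1)) (p i) (p (i + 1)) (p (i + 2)) (c i)) ∧ Rel c := by
  have hcyc := cyc_of P U p hp
  have hex : ∀ i, ∃ x, IsC U Q (p (i - 1)) (p i) (p (i + 1)) (p (i + 2)) x := fun i =>
    h.exists_c (hcyc i).b1 (hcyc i).b2
  choose c hc using hex
  have hck : ∀ i j k l m : ZMod 8, (j = i - 1 ∧ k = i) ∧ l = i + 1 ∧ m = i + 2 →
      IsC U Q (p j) (p k) (p l) (p m) (c i) := by
    rintro i j k l m ⟨⟨rfl, rfl⟩, rfl, rfl⟩; exact hc k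
  have k1 : ∀ i, IsC U Q (p i) (p (i + 1)) (p (i + 2)) (p (i + 3)) (c (i + 1)) := fun i =>
    hck _ _ _ _ _ (by revert i; decide)
  have k2 : ∀ i, IsC U Q (p (i + 1)) (p (i + 2)) (p (i + 3)) (p (i + 4)) (c (i + 2)) := fun i =>
    hck _ _ _ _ _ (by revert i; decide)
  have k3 : ∀ i, IsC U Q (p (i + 2)) (p (i + 3)) (p (i + 4)) (p (i + 5)) (c (i + 3)) := fun i =>
    hck _ _ _ _ _ (by revert i; decide)
  have k4 : ∀ i, IsC U Q (p (i + 3)) (p (i + 4)) (p (i + 5)) (p (i + 6)) (c (i + 4)) := fun i =>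
    hck _ _ _ _ _ (by revert i; decide)
  refine ⟨c, hc, ⟨fun i => h.U_sq _ (hcyc i).b1.l.right _ (hc i).ub, fun i => h.comm_one (hcyc i).b2 (hc i) (k1 i),
    fun i => h.comm_two (hcyc i).b2 (hc i) (k2 i),
    fun i => h.comm_rel (hcyc i) (hc i) (k1 i) (k2 i) (k3 i) (k4 i), fun i => h.braid (hcyc i) (hc i) (k4 i),
    fun i => h.mul_ne_one (hcyc i) (hc i) (k4 i)⟩⟩

theorem exists_rel_of_cyc {P : Set G} {U Q : G → Subgroup G} (h : Geo P U Q) {a0 a1 a2 a3 a4 a5 a6 a7 : G}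
    (hc : Cyc P U a0 a1 a2 a3 a4 a5 a6 a7) : ∃ c : ZMod 8 → G, Rel c := by
  obtain ⟨p, hp⟩ := bend_of_cyc hc
  obtain ⟨c, -, h2⟩ := exists_rel h p hp
  exact ⟨c, h2⟩

end Cfsg.Agent.Classification.TitsFin.SFive
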