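import Mathlib
import Cfsg.Agent.SporadicStructure.PermFive

/-!
# The symmetric group of degree five from the root elements of an apartment

Pure group theory: eight elements `c i` (`i : ZMod 8`) with the relations
`(c i)^2 = 1`, `[c i, c (i+1)] = [c i, c (i+2)] = 1`, `[c i, c (i+3)] = c (i+1) c (i+2)`,
`(c i c (i+4))^3 = 1` generate a nonsolvable group, and the four elements
`c 0`, `c 4`, `c 6 c 7 c 0`, `c 2` satisfy the Coxeter relations of the symmetric group of degree
five.
-/

set_option autoImplicit false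
set_option linter.unusedSimpArgs false

namespace Cfsg.Agent.Classification.TitsFin.SFiveAbs

open Cfsg.Agent.SporadicStructure.PermFive
open scoped commutatorElement

variable {G : Type*} [Group G]

/-! ## Coxeter generators of type `A_4` generate a nonsolvable group -/

section Cox

variable {x y b a : G} (h : Cox x y b a)

include h

/-- If a normal subgroup contains `x y` then it contains `y b`. -/
theorem mem_yb {N : Subgroup G} (hN : N.Normal) (hx : x * y ∈ N) : y * b ∈ N := by
  have h1 : (x * y * b) * (x * y) * (x * y * b)⁻¹ ∈ N := hN.conj_mem _ hx _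
  have hxi : x⁻¹ = x := inv_eq_of_mul_eq_one_right h.xx
  have hyi : y⁻¹ = y := inv_eq_of_mul_eq_one_right h.yy
  have hbi : b⁻¹ = b := inv_eq_of_mul_eq_one_right h.bb
  have h2 : (x * y * b) * (x * y) * (x * y * b)⁻¹ = y * b := by
    rw [mul_inv_rev, mul_inv_rev, hxi, hyi, hbi]
    simp only [mul_assoc, h.xx, h.yy, h.bb, h.xx', h.yy', h.bb', h.bx, h.bx', h.yxy1, h.yxy',
      h.byb1, h.byb', h.byxb1, h.byxb', mul_one]
  rwa [h2] at h1

theorem mem_xy {N : Subgroup G} (hN : N.Normal) (hx : y * b ∈ N) : x * y ∈ N := by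
  have h1 : (x * y * b)⁻¹ * (y * b) * (x * y * b)⁻¹⁻¹ ∈ N := hN.conj_mem _ hx _
  have hxi : x⁻¹ = x := inv_eq_of_mul_eq_one_right h.xx
  have hyi : y⁻¹ = y := inv_eq_of_mul_eq_one_right h.yy
  have hbi : b⁻¹ = b := inv_eq_of_mul_eq_one_right h.bb
  have h2 : (x * y * b)⁻¹ * (y * b) * (x * y * b)⁻¹⁻¹ = x * y := by
    rw [inv_inv, mul_inv_rev, mul_inv_rev, hxi, hyi, hbi]
    simp only [mul_assoc, h.xx, h.yy, h.bb, h.xx', h.yy', h.bb', h.bx, h.bx', h.yxy1, h.yxy',
      h.byb1, h.byb', h.byxb1, h.byxb', mul_one]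
  rwa [h2] at h1

theorem mem_ba {N : Subgroup G} (hN : N.Normal) (hx : y * b ∈ N) : b * a ∈ N := by
  have h1 : (y * b * a) * (y * b) * (y * b * a)⁻¹ ∈ N := hN.conj_mem _ hx _
  have hai : a⁻¹ = a := inv_eq_of_mul_eq_one_right h.aa
  have hyi : y⁻¹ = y := inv_eq_of_mul_eq_one_right h.yy
  have hbi : b⁻¹ = b := inv_eq_of_mul_eq_one_right h.bb
  have h2 : (y * b * a) * (y * b) * (y * b * a)⁻¹ = b * a := by
    rw [mul_inv_rev, mul_inv_rev, hai, hyi, hbi]
    simp only [mul_assoc, h.aa, h.yy, h.bb, h.aa', h.yy', h.bb', h.ay, h.ay',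
      h.byb1, h.byb', h.aba1, h.aba', h.abya1, h.abya', mul_one]
  rwa [h2] at h1

theorem commutator_eq : ⁅x * y, b * a⁆ = x * (y * b)⁻¹ * x⁻¹ := by
  have hxi : x⁻¹ = x := inv_eq_of_mul_eq_one_right h.xx
  have hyi : y⁻¹ = y := inv_eq_of_mul_eq_one_right h.yy
  have hbi : b⁻¹ = b := inv_eq_of_mul_eq_one_right h.bb
  have hai : a⁻¹ = a := inv_eq_of_mul_eq_one_right h.aa
  rw [commutatorElement_def, mul_inv_rev, mul_inv_rev, mul_inv_rev, hxi, hyi, hbi, hai]
  simp only [mul_assoc, h.xx, h.yy, h.bb, h.aa, h.xx', h.yy', h.bb', h.aa', h.bx, h.bx', h.ax,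
    h.ax', h.ay, h.ay', h.yxy1, h.yxy', h.byb1, h.byb', h.byxb1, h.byxb', mul_one]

theorem not_isSolvable (hne : x ≠ y) : ¬ Group.IsSolvable G := by
  intro hs
  have key : ∀ n, x * y ∈ derivedSeries G n := by
    intro n
    induction n with
    | zero => simp
    | succ n ih =>
      have hN : (derivedSeries G n).Normal := inferInstance
      have hM : (derivedSeries G (n + 1)).Normal := inferInstance
      have h1 := mem_ba h hN (mem_yb h hN ih)
      have h2 : ⁅x * y, b * a⁆ ∈ derivedSeries G (n + 1) := by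
        rw [derivedSeries_succ]
        exact Subgroup.commutator_mem_commutator ih h1
      rw [commutator_eq h] at h2
      have h3 : (y * b)⁻¹ ∈ derivedSeries G (n + 1) := by
        have := hM.conj_mem _ h2 x⁻¹
        simpa [mul_assoc] using this
      exact mem_xy h hM ((inv_mem_iff).mp h3)
  obtain ⟨n, hn⟩ := hs.1
  have h4 := key n
  rw [hn, Subgroup.mem_bot] at h4
  apply hne
  have hxi : x⁻¹ = x := inv_eq_of_mul_eq_one_right h.xx
  rw [← hxi]
  exact inv_eq_of_mul_eq_one_right h4

/-- The subgroup generated by Coxeter generators of type `A_4` is not solvable. -/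
theorem closure_not_isSolvable (hne : x ≠ y) :
    ¬ Group.IsSolvable (Subgroup.closure ({x, y, b, a} : Set G)) := by
  have hx : x ∈ Subgroup.closure ({x, y, b, a} : Set G) := Subgroup.subset_closure (by simp)
  have hy : y ∈ Subgroup.closure ({x, y, b, a} : Set G) := Subgroup.subset_closure (by simp)
  have hb : b ∈ Subgroup.closure ({x, y, b, a} : Set G) := Subgroup.subset_closure (by simp)
  have ha : a ∈ Subgroup.closure ({x, y, b, a} : Set G) := Subgroup.subset_closure (by simp)
  have h1 : Cox (⟨x, hx⟩ : Subgroup.closure ({x, y, b, a} : Set G)) ⟨y, hy⟩ ⟨b, hb⟩ ⟨a, ha⟩ := by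
    constructor <;> apply Subtype.ext
    · exact h.xx
    · exact h.yy
    · exact h.bb
    · exact h.aa
    · exact h.bx
    · exact h.ax
    · exact h.ay
    · exact h.yxy
    · exact h.byb
    · exact h.aba
  exact not_isSolvable h1 (fun h2 => hne (congrArg Subtype.val h2))

theorem not_comm (hne : x ≠ y) : x * y ≠ y * x := by
  intro h1
  apply hne
  have h2 := h.yxy
  have h3 : y * x * y = x := by rw [← h1, mul_assoc, h.yy, mul_one]
  have h4 : x * y * x = y := by rw [h1, mul_assoc, h.xx, mul_one]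
  rw [h3, h4] at h2
  exact h2

/-- In a simple group the subgroup generated by Coxeter generators of type `A_4` is proper. -/
theorem closure_ne_top [IsSimpleGroup G] (hne : x ≠ y) :
    Subgroup.closure ({x, y, b, a} : Set G) ≠ ⊤ := by
  intro htop
  have hnc := not_comm h hne
  have hZ : Subgroup.center G = ⊥ := by
    rcases (inferInstance : (Subgroup.center G).Normal).eq_bot_or_eq_top with h1 | h1
    · exact h1
    · exfalso
      have h2 : x ∈ Subgroup.center G := by rw [h1]; trivial
      exact hnc ((Subgroup.mem_center_iff.mp h2) y).symm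
  obtain ⟨e⟩ := equiv_perm h hnc htop hZ
  have hsimple : IsSimpleGroup (Equiv.Perm (Fin 5)) :=
    IsSimpleGroup.isSimpleGroup_of_surjective e.toMonoidHom e.surjective
  rcases (inferInstance : (alternatingGroup (Fin 5)).Normal).eq_bot_or_eq_top with h1 | h1
  · have h2 : (Equiv.swap (0 : Fin 5) 1 * Equiv.swap 1 2) ∈ alternatingGroup (Fin 5) := by
      rw [Equiv.Perm.mem_alternatingGroup]
      decide
    rw [h1, Subgroup.mem_bot] at h2
    revert h2
    decide
  · have h2 : (Equiv.swap (0 : Fin 5) 1) ∈ alternatingGroup (Fin 5) := by rw [h1]; trivial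
    rw [Equiv.Perm.mem_alternatingGroup] at h2
    revert h2
    decide

/-- A simple group with Coxeter elements of type `A_4` has a proper nonsolvable subgroup. -/
theorem exists_proper [IsSimpleGroup G] (hne : x ≠ y) :
    ∃ H : Subgroup G, H ≠ ⊤ ∧ ¬ Group.IsSolvable H :=
  ⟨_, closure_ne_top h hne, closure_not_isSolvable h hne⟩

end Cox

/-! ## The relations of the root elements of an apartment -/

/-- The relations between the eight root elements of an apartment. -/
structure Rel (c : ZMod 8 → G) : Prop where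
  sq : ∀ i, c i * c i = 1
  comm1 : ∀ i, c i * c (i + 1) = c (i + 1) * c i
  comm2 : ∀ i, c i * c (i + 2) = c (i + 2) * c i
  comm3 : ∀ i, c i * c (i + 3) * c i * c (i + 3) = c (i + 1) * c (i + 2)
  three : ∀ i, (c i * c (i + 4)) ^ 3 = 1

theorem braid_of_three {x y : G} (hx : x * x = 1) (hy : y * y = 1) (h : (x * y) ^ 3 = 1) :
    y * x * y = x * y * x := by
  have hxi : x⁻¹ = x := inv_eq_of_mul_eq_one_right hx
  have hyi : y⁻¹ = y := inv_eq_of_mul_eq_one_right hy
  have h1 : (x * y * x) * (y * x * y) = 1 := by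
    rw [← h]; simp only [pow_succ, pow_zero, one_mul, mul_assoc]
  have h2 := inv_eq_of_mul_eq_one_right h1
  rw [← h2, mul_inv_rev, mul_inv_rev, hxi, hyi, mul_assoc]

theorem conj_eq {u v w : G} (hv : v * v = 1) (h : u * v * u * v = w) :
    u * v * u = w * v := by
  rw [← h, mul_assoc (u * v * u), hv, mul_one]

theorem braid_conj {x y u : G} (hu : u * u = 1) (h : y * x * y = x * y * x) :
    (u * y * u) * (u * x * u) * (u * y * u) = (u * x * u) * (u * y * u) * (u * x * u) := by
  have e : ∀ p q r : G, (u * p * u) * (u * q * u) * (u * r * u) = u * (p * q * r) * u := by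
    intro p q r
    calc (u * p * u) * (u * q * u) * (u * r * u)
        = u * p * (u * u) * q * (u * u) * r * u := by simp only [mul_assoc]
      _ = u * (p * q * r) * u := by rw [hu]; simp only [mul_assoc, one_mul]
  rw [e, e, h]

theorem conj_of_comm {x u : G} (hu : u * u = 1) (h : u * x = x * u) : u * x * u = x := by
  rw [h, mul_assoc, hu, mul_one]

namespace Rel

variable {c : ZMod 8 → G} (h : Rel c)

include h

theorem r1 (i j : ZMod 8) (hij : j = i + 1) : c i * c j = c j * c i := by
  rw [hij]; exact h.comm1 i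

theorem r2 (i j : ZMod 8) (hij : j = i + 2) : c i * c j = c j * c i := by
  rw [hij]; exact h.comm2 i

theorem r3 (i j k l : ZMod 8) (hj : j = i + 3) (hk : k = i + 1) (hl : l = i + 2) :
    c i * c j * c i * c j = c k * c l := by
  rw [hj, hk, hl]; exact h.comm3 i

theorem r4 (i j : ZMod 8) (hj : j = i + 4) : (c i * c j) ^ 3 = 1 := by
  rw [hj]; exact h.three i

/-- The Coxeter relations of the symmetric group of degree five. -/
theorem cox : Cox (c 0) (c 4) (c 6 * c 7 * c 0) (c 2) := by
  have h50 : c 5 * c 0 * c 5 * c 0 = c 6 * c 7 := h.r3 5 0 6 7 (by decide) (by decide) (by decide)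
  have h61 : c 6 * c 1 * c 6 * c 1 = c 7 * c 0 := h.r3 6 1 7 0 (by decide) (by decide) (by decide)
  have e5 : c 6 * c 7 * c 0 = c 5 * c 0 * c 5 := (conj_eq (h.sq 0) h50).symm
  have h67 := h.r1 6 7 (by decide)
  have h70 := h.r1 7 0 (by decide)
  have h60 := h.r2 6 0 (by decide)
  have e1 : c 6 * c 7 * c 0 = c 1 * c 6 * c 1 := by
    have h1 : c 1 * c 6 * c 1 = c 6 * (c 6 * c 1 * c 6 * c 1) := by
      simp only [← mul_assoc]; rw [h.sq 6, one_mul]
    rw [h1, h61, mul_assoc]
  have b40 : c 4 * c 0 * c 4 = c 0 * c 4 * c 0 :=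
    braid_of_three (h.sq 0) (h.sq 4) (h.r4 0 4 (by decide))
  have b26 : c 6 * c 2 * c 6 = c 2 * c 6 * c 2 :=
    braid_of_three (h.sq 2) (h.sq 6) (h.r4 2 6 (by decide))
  have c54 : c 5 * c 4 * c 5 = c 4 := conj_of_comm (h.sq 5) (h.r1 4 5 (by decide)).symm
  have c12 : c 1 * c 2 * c 1 = c 2 := conj_of_comm (h.sq 1) (h.r1 1 2 (by decide))
  refine ⟨h.sq 0, h.sq 4, ?_, h.sq 2, ?_, ?_, ?_, b40, ?_, ?_⟩
  · rw [e5]
    calc c 5 * c 0 * c 5 * (c 5 * c 0 * c 5) = c 5 * (c 0 * (c 5 * c 5) * c 0) * c 5 := by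
          simp only [mul_assoc]
      _ = 1 := by rw [h.sq 5, mul_one, h.sq 0, mul_one, h.sq 5]
  · rw [mul_assoc, h.sq 0, mul_one, mul_assoc (c 6), h70, ← mul_assoc (c 6), h60,
      mul_assoc (c 0), ← mul_assoc (c 0), h.sq 0, one_mul]
  · exact (h.r2 0 2 (by decide)).symm
  · exact h.r2 2 4 (by decide)
  · have := braid_conj (h.sq 5) b40
    rw [c54, ← e5] at this
    exact this.symm
  · have := braid_conj (h.sq 1) b26
    rw [c12, ← e1] at this
    exact this.symm

/-- A simple group with a system of root elements has a proper nonsolvable subgroup. -/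
theorem exists_proper [IsSimpleGroup G] (hne : c 0 ≠ c 4) :
    ∃ H : Subgroup G, H ≠ ⊤ ∧ ¬ Group.IsSolvable H :=
  SFiveAbs.exists_proper h.cox hne

end Rel

/-! ## Removing the error terms with the reflections -/

/-- The relations of the root elements `c i` and the points `z i` of an apartment, with a possible
error term `z (i + 2)` in the commutator `[c i, c (i + 3)]`. -/
structure Pre (c z : ZMod 8 → G) : Prop where
  sq : ∀ i, c i * c i = 1
  comm1 : ∀ i, c i * c (i + 1) = c (i + 1) * c i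
  comm2 : ∀ i, c i * c (i + 2) = c (i + 2) * c i
  comm3 : ∀ i, c i * c (i + 3) * c i * c (i + 3) = c (i + 1) * c (i + 2) ∨
    c i * c (i + 3) * c i * c (i + 3) = c (i + 1) * c (i + 2) * z (i + 2)
  three : ∀ i, (c i * c (i + 4)) ^ 3 = 1
  zsq : ∀ i, z i * z i = 1
  zne : ∀ i, z i ≠ 1
  zne' : ∀ i, z i ≠ z (i + 1)
  zz : ∀ i, z i * z (i + 1) = z (i + 1) * z i
  cz0 : ∀ i, c i * z i = z i * c i
  cz1 : ∀ i, c i * z (i + 1) = z (i + 1) * c i
  cz2 : ∀ i, c i * z (i + 2) = z (i + 2) * c i
  zc : ∀ i, c (i + 1) * z i = z i * c (i + 1)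
  mv1 : ∀ i, c i * z (i + 3) * c i = z (i + 2) * z (i + 3)
  mv2 : ∀ i, c (i + 2) * z i * c (i + 2) = z i * z (i + 1)
  refl : ∀ i, (c i * c (i + 4) * c i) * c (i + 3) * (c i * c (i + 4) * c i) = c (i + 1)

theorem conj_mul {u a b : G} (hu : u * u = 1) : u * (a * b) * u = (u * a * u) * (u * b * u) := by
  calc u * (a * b) * u = u * a * (u * u) * b * u := by rw [hu]; simp only [mul_assoc, one_mul]
    _ = (u * a * u) * (u * b * u) := by simp only [mul_assoc]

theorem Pre.rel {c z : ZMod 8 → G} (h : Pre c z) : Rel c := by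
  refine ⟨h.sq, h.comm1, h.comm2, ?_, h.three⟩
  intro k
  obtain ⟨i, rfl⟩ : ∃ i, k = i + 1 := ⟨k - 1, by ring⟩
  rcases h.comm3 (i + 1) with hk | hk
  · exact hk
  exfalso
  -- abbreviations
  have a1 : i + 1 + 1 = i + 2 := by ring
  have a2 : i + 1 + 2 = i + 3 := by ring
  have a3 : i + 1 + 3 = i + 4 := by ring
  have a4 : i + 2 + 1 = i + 3 := by ring
  have a5 : i + 2 + 2 = i + 4 := by ring
  have a6 : i + 3 + 1 = i + 4 := by ring
  rw [a1, a2, a3] at hk
  have hr := h.refl i
  set A := c i with hA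
  set B := c (i + 4) with hB
  set c1 := c (i + 1) with hc1
  set c2 := c (i + 2) with hc2
  set c3 := c (i + 3) with hc3
  set y := z (i + 2) with hy
  set y' := z (i + 3) with hy'
  have hAA : A * A = 1 := h.sq i
  have hBB : B * B = 1 := h.sq (i + 4)
  have hB1 : B * c1 * B = c1 * (c2 * c3 * y') := by
    rw [← hk]
    simp only [← mul_assoc]
    rw [h.sq (i + 1), one_mul]
  have hB2 : B * c2 * B = c2 := by
    have := h.comm2 (i + 2)
    rw [a5] at this
    exact conj_of_comm hBB this.symm
  have hB3 : B * c3 * B = c3 := by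
    have := h.comm1 (i + 3)
    rw [a6] at this
    exact conj_of_comm hBB this.symm
  have hBy : B * y * B = y * y' := by
    have := h.mv2 (i + 2)
    rw [a5, a4] at this
    exact this
  have hA1 : A * c1 * A = c1 := conj_of_comm hAA (h.comm1 i)
  have hAy : A * y * A = y := conj_of_comm hAA (h.cz2 i)
  have hAy' : A * y' * A = y * y' := h.mv1 i
  have h22 : c2 * c2 = 1 := h.sq _
  have h33 : c3 * c3 = 1 := h.sq _
  have h32 : c3 * c2 = c2 * c3 := by
    have := h.comm1 (i + 2)
    rw [a4] at this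
    exact this.symm
  have hy3 : c3 * y = y * c3 := by
    have := h.zc (i + 2)
    rw [a4] at this
    exact this
  have hy'3 : c3 * y' = y' * c3 := h.cz0 (i + 3)
  have hy'2 : c2 * y' = y' * c2 := by
    have := h.cz1 (i + 2)
    rw [a4] at this
    exact this
  have hyy' : y * y' = y' * y := by
    have := h.zz (i + 2)
    rw [a4] at this
    exact this
  have hysq : y * y = 1 := h.zsq _
  have hy'sq : y' * y' = 1 := h.zsq _
  have hr' : A * (B * (A * c3 * A) * B) * A = c1 := by
    rw [← hr]; simp only [mul_assoc]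
  rcases h.comm3 i with h0 | h0
  · have e1 : A * c3 * A = c1 * c2 * c3 := conj_eq h33 h0
    have e2 : B * (c1 * c2 * c3) * B = c1 * y' := by
      rw [conj_mul hBB, conj_mul hBB, hB1, hB2, hB3]
      calc c1 * (c2 * c3 * y') * c2 * c3 = c1 * (c2 * (c3 * (y' * c2)) * c3) := by
            simp only [mul_assoc]
        _ = c1 * (c2 * (c3 * c2) * (y' * c3)) := by rw [← hy'2]; simp only [mul_assoc]
        _ = c1 * (c2 * c2 * (c3 * c3) * y') := by rw [h32, ← hy'3]; simp only [mul_assoc]
        _ = c1 * y' := by rw [h22, h33, one_mul, one_mul]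
    rw [e1, e2, conj_mul hAA, hA1, hAy'] at hr'
    have h5 : y * y' = 1 := by
      have := mul_left_cancel (hr'.trans (mul_one c1).symm)
      exact this
    apply h.zne' (i + 2)
    rw [a4]
    have h6 := inv_eq_of_mul_eq_one_right h5
    have h7 := inv_eq_of_mul_eq_one_right hysq
    exact h7.symm.trans h6
  · have e1 : A * c3 * A = c1 * c2 * y * c3 := conj_eq h33 h0
    have e2 : B * (c1 * c2 * y * c3) * B = c1 * y := by
      rw [conj_mul hBB, conj_mul hBB, conj_mul hBB, hB1, hB2, hB3, hBy]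
      calc c1 * (c2 * c3 * y') * c2 * (y * y') * c3
          = c1 * (c2 * (c3 * (y' * c2)) * (y * (y' * c3))) := by simp only [mul_assoc]
        _ = c1 * (c2 * (c3 * c2) * (y' * (y * (c3 * y')))) := by
            rw [← hy'2, ← hy'3]; simp only [mul_assoc]
        _ = c1 * (c2 * c2 * c3 * (y' * y * c3 * y')) := by rw [h32]; simp only [mul_assoc]
        _ = c1 * (c3 * (y * (y' * c3) * y')) := by
            rw [h22, ← hyy', one_mul]; simp only [mul_assoc]
        _ = c1 * (c3 * (y * c3) * (y' * y')) := by rw [← hy'3]; simp only [mul_assoc]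
        _ = c1 * y := by rw [← hy3, ← mul_assoc c3, h33, one_mul, hy'sq, mul_one]
    rw [e1, e2, conj_mul hAA, hA1, hAy] at hr'
    exact h.zne (i + 2) (mul_left_cancel (hr'.trans (mul_one c1).symm))

/-- A simple group with an apartment as in `Pre` has a proper nonsolvable subgroup. -/
theorem Pre.exists_proper [IsSimpleGroup G] {c z : ZMod 8 → G} (h : Pre c z) (hne : c 0 ≠ c 4) :
    ∃ H : Subgroup G, H ≠ ⊤ ∧ ¬ Group.IsSolvable H :=
  h.rel.exists_proper hne

end Cfsg.Agent.Classification.TitsFin.SFiveAbs
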