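import Mathlib
import Cfsg.Agent.Classification.TitsFin.Near
import Cfsg.Agent.Classification.TitsFin.SFive
import Cfsg.Agent.Classification.TitsFin.SFiveAbs

/-!
# The Tits group case: the final configuration contains a nonsolvable proper subgroup

`FinHyp` and the octagon give the structure `SFive.Geo` and an apartment `SFive.Cyc`, hence `S₅`.
-/

set_option autoImplicit false

namespace Cfsg.Agent.Classification.TitsFin.Glue

open Subgroup Cfsg.Agent.Classification.TitsFin Cfsg.Agent.Classification.TitsFin.SFive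

variable {G : Type*} [Group G]

/-- the set of points -/
def Pts (z : G) : Set G := {x | IsPt z x}

/-- `Q x` as a subgroup -/
def Qs (z p x : G) : Subgroup G := closure {g | InQ z p x g}

variable [Finite G] {z p a b c d x y w u v g : G}

omit [Finite G] in
theorem adj_of_pt_conj (h : IsPt z x) (k : G) : IsPt z (k * x * k⁻¹) := by
  obtain ⟨g, rfl⟩ := h
  exact ⟨k * g, by group⟩

theorem mem_Qs (h : FinHyp z p) (hx : IsPt z x) : g ∈ Qs z p x ↔ InQ z p x g := by
  constructor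
  · intro hg
    have hxx := h.sq hx
    induction hg using closure_induction with
    | mem g hg => exact hg
    | one => exact ⟨by rw [one_mul, mul_one], fun y _ => Or.inl (by group)⟩
    | mul g k _ _ ihg ihk =>
      refine ⟨by rw [mul_assoc, ihk.1, ← mul_assoc, ihg.1, mul_assoc], fun y hy => ?_⟩
      have e : g * k * y * (g * k)⁻¹ = g * (k * y * k⁻¹) * g⁻¹ := by group
      have ex : g * x * g⁻¹ = x := by rw [ihg.1]; group
      rw [e]
      rcases ihk.2 y hy with h1 | h1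
      · rw [h1]; exact ihg.2 y hy
      · have e2 : g * (x * y) * g⁻¹ = (g * x * g⁻¹) * (g * y * g⁻¹) := by group
        rw [h1, e2, ex]
        rcases ihg.2 y hy with h2 | h2
        · rw [h2]; exact Or.inr rfl
        · rw [h2, ← mul_assoc, hxx, one_mul]; exact Or.inl rfl
    | inv g _ ihg =>
      have ex : g⁻¹ * x * g = x := by rw [mul_assoc, ← ihg.1]; group
      refine ⟨by
        calc g⁻¹ * x = g⁻¹ * x * g * g⁻¹ := by group
          _ = x * g⁻¹ := by rw [ex], fun y hy => ?_⟩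
      rw [inv_inv]
      rcases ihg.2 y hy with h1 | h1
      · left
        nth_rewrite 1 [← h1]
        group
      · right
        have h2 : y = g⁻¹ * (x * y) * g := by rw [← h1]; group
        calc g⁻¹ * y * g = x * (x * (g⁻¹ * y * g)) := by rw [← mul_assoc, hxx, one_mul]
          _ = x * ((g⁻¹ * x * g) * (g⁻¹ * y * g)) := by rw [ex]
          _ = x * (g⁻¹ * (x * y) * g) := by group
          _ = x * y := by rw [← h2]
  · intro hg
    exact subset_closure hg

/-- two different points in `U x` -/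
theorem adj_iff_col (h : FinHyp z p) : Adj z p a b ↔ SFive.Col (Pts z) (U z p) a b := by
  constructor
  · intro k
    exact ⟨h.isPt_left k, h.isPt_left (h.symm k), mem_U_of_adj k, mem_U_of_adj (h.symm k), (h.ne k).symm⟩
  · intro k
    rcases h.U_cases k.left k.mem with h1 | h1 | h1 | ⟨w, h1⟩
    · exfalso
      obtain ⟨g, hg⟩ := k.right
      rw [h1] at hg
      apply h.z_ne
      have : z = g⁻¹ * (g * z * g⁻¹) * g := by group
      rw [this, hg]; group
    · exact absurd h1.symm k.ne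
    · exact h1
    · exact absurd k.right (h.TL_not_isPt h1)

theorem ne_third (h : FinHyp z p) (k : Adj z p a b) : c = a * b ↔ c = b * a := by
  rw [h.U_comm (h.isPt_left k) self_mem_U (mem_U_of_adj k)]

/-- another line on `x` -/
theorem exists_adj (h : FinHyp z p) (k : Adj z p x w) : ∃ y, Adj z p x y ∧ y ≠ w ∧ y ≠ x * w := by
  by_contra hcon
  push Not at hcon
  obtain ⟨g, hg⟩ := h.isPt_left k
  have hcard : Nat.card {y // Adj z p x y} = 10 := by
    rw [← h.cardA]
    refine (Nat.card_congr ?_).symm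
    refine { toFun := fun y => ⟨g * y.1 * g⁻¹, ?_⟩, invFun := fun y => ⟨g⁻¹ * y.1 * g, ?_⟩,
             left_inv := fun y => ?_, right_inv := fun y => ?_ }
    · have := y.2.conj g
      rwa [hg] at this
    · rw [← adj_iff_of_conj (g := g) hg (y' := y.1) (by group)]
      exact y.2
    · apply Subtype.ext; group
    · apply Subtype.ext; group
  have hle : Nat.card {y // Adj z p x y} ≤ 2 := by
    classical
    have hinj : Function.Injective (fun y : {y // Adj z p x y} => (decide (y.1 = w) : Bool)) := by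
      intro y1 y2 h12
      apply Subtype.ext
      have h12' : (y1.1 = w) ↔ (y2.1 = w) := by simpa using h12
      by_cases h3 : y1.1 = w
      · rw [h3, h12'.mp h3]
      · rw [hcon _ y1.2 h3, hcon _ y2.2 (fun h4 => h3 (h12'.mpr h4))]
    have := Nat.card_le_card_of_injective _ hinj
    simpa using this
  omega

theorem UQ (h : FinHyp z p) (hx : IsPt z x) (hq : InQ z p x g) (hu : u ∈ U z p x) :
    g * u * g⁻¹ = u ∨ g * u * g⁻¹ = u * x := by
  have hxx := h.sq hx
  have ex : g * x * g⁻¹ = x := by rw [hq.1]; group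
  have hind : u ∈ U z p x ∧ (g * u * g⁻¹ = u ∨ g * u * g⁻¹ = u * x) := by
    have hu' := hu
    unfold U at hu'
    clear hu
    induction hu' using closure_induction with
    | mem v hv =>
      rcases hv with rfl | hv
      · exact ⟨self_mem_U, Or.inl ex⟩
      · refine ⟨mem_U_of_adj hv, ?_⟩
        rcases hq.2 v hv with h1 | h1
        · exact Or.inl h1
        · exact Or.inr (h1.trans (h.U_comm hx self_mem_U (mem_U_of_adj hv)))
    | one => exact ⟨one_mem _, Or.inl (by group)⟩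
    | mul v v' _ _ ih ih' =>
      refine ⟨mul_mem ih.1 ih'.1, ?_⟩
      have e : g * (v * v') * g⁻¹ = (g * v * g⁻¹) * (g * v' * g⁻¹) := by group
      have hc : x * v' = v' * x := h.U_comm hx self_mem_U ih'.1
      rw [e]
      rcases ih.2 with h1 | h1 <;> rcases ih'.2 with h2 | h2 <;> rw [h1, h2]
      · exact Or.inl rfl
      · exact Or.inr (by group)
      · exact Or.inr (by rw [mul_assoc, hc, mul_assoc])
      · left
        calc v * x * (v' * x) = v * (x * v') * x := by group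
          _ = v * v' * (x * x) := by rw [hc]; group
          _ = v * v' := by rw [hxx, mul_one]
    | inv v _ ih =>
      refine ⟨inv_mem ih.1, ?_⟩
      have hvi : v⁻¹ = v := inv_eq_of_mul_eq_one_left (h.U_sq hx ih.1)
      rw [hvi]
      exact ih.2
  exact hind.2

/-- the commutator of two root elements, one half -/
theorem comm_half (h : FinHyp z p) (kb : Adj z p x b) (ky : Adj z p x y) (n1 : y ≠ b) (n2 : y ≠ x * b)
    {q q' : G} (hq : q ∈ U z p b) (hq1 : InQ z p x q) (hq2 : q ∉ U z p x)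
    (hq' : q' ∈ U z p y) (hq1' : InQ z p x q') (hq2' : q' ∉ U z p x) :
    q * q' * q⁻¹ * q'⁻¹ ∈ U z p x ∧ InQ z p b (q * q' * q⁻¹ * q'⁻¹) ∧ q * q' * q⁻¹ * q'⁻¹ ∉ U z p b := by
  have hx := h.isPt_left kb
  have hxx := h.sq hx
  have n1' : b ≠ y := n1.symm
  have n2' : b ≠ x * y := by
    intro h1
    apply n2
    rw [h1, ← mul_assoc, hxx, one_mul]
  have hact : q' * b * q'⁻¹ = x * b :=
    h.F_act ky hq' hq1' hq2' (mem_U_of_adj kb) (h.not_inQ ky kb n1' n2')
  have ex : q' * x * q'⁻¹ = x := by rw [hq1'.1]; group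
  have k1 : q' * q⁻¹ * q'⁻¹ ∈ U z p (x * b) := by
    rw [← hact]
    exact conj_mem_U.mpr (inv_mem hq)
  have k2 : InQ z p x (q' * q⁻¹ * q'⁻¹) := by
    rw [← mem_Qs h hx] at hq1 hq1' ⊢
    exact mul_mem (mul_mem hq1' (inv_mem hq1)) (inv_mem hq1')
  have k3 : q' * q⁻¹ * q'⁻¹ ∉ U z p x := by
    intro h1
    rw [← ex] at h1
    exact hq2 (inv_mem_iff.mp (conj_mem_U.mp h1))
  have key := h.F_mul kb hq hq1 hq2 k1 k2 k3
  have e : q * (q' * q⁻¹ * q'⁻¹) = q * q' * q⁻¹ * q'⁻¹ := by group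
  rwa [e] at key

theorem comm_field (h : FinHyp z p) (kb : Adj z p x b) (ky : Adj z p x y) (n1 : y ≠ b) (n2 : y ≠ x * b)
    {q q' e f : G} (hq : q ∈ U z p b) (hq1 : InQ z p x q) (hq2 : q ∉ U z p x)
    (hq' : q' ∈ U z p y) (hq1' : InQ z p x q') (hq2' : q' ∉ U z p x)
    (he : e ∈ U z p b) (he1 : e ∈ U z p x) (he2 : InQ z p y e) (he3 : e ≠ 1) (he4 : e ≠ x)
    (hf : f ∈ U z p y) (hf1 : f ∈ U z p x) (hf2 : InQ z p b f) (hf3 : f ≠ 1) (hf4 : f ≠ x) :
    q * q' * q⁻¹ * q'⁻¹ = e * f ∨ q * q' * q⁻¹ * q'⁻¹ = e * f * x := by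
  have hx := h.isPt_left kb
  have hb := h.isPt_left (h.symm kb)
  have hy := h.isPt_left (h.symm ky)
  have hxx := h.sq hx
  have n1' : b ≠ y := n1.symm
  have n2' : b ≠ x * y := by
    intro h1
    apply n2
    rw [h1, ← mul_assoc, hxx, one_mul]
  obtain ⟨a1, a2, a3⟩ := comm_half h kb ky n1 n2 hq hq1 hq2 hq' hq1' hq2'
  obtain ⟨b1, b2, b3⟩ := comm_half h ky kb n1' n2' hq' hq1' hq2' hq hq1 hq2
  have hinv : q * q' * q⁻¹ * q'⁻¹ = q' * q * q'⁻¹ * q⁻¹ := by
    have h1 : (q * q' * q⁻¹ * q'⁻¹)⁻¹ = q * q' * q⁻¹ * q'⁻¹ := inv_eq_of_mul_eq_one_left (h.U_sq hx a1)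
    rw [← h1]; group
  rw [← hinv] at b2 b3
  have hefb : e * f ∉ U z p b := by
    intro h1
    have h2 : f ∈ U z p b := (mul_mem_cancel_left he).mp h1
    rcases h.inter_two kb ky n1 n2 hf1 h2 hf with h3 | h3
    · exact hf3 h3
    · exact hf4 h3
  have hefy : e * f ∉ U z p y := by
    intro h1
    have h2 : e ∈ U z p y := (mul_mem_cancel_right hf).mp h1
    rcases h.inter_two kb ky n1 n2 he1 he h2 with h3 | h3
    · exact he3 h3
    · exact he4 h3
  have hQb : InQ z p b (e * f) := by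
    rw [← mem_Qs h hb]
    exact mul_mem ((mem_Qs h hb).mpr (h.inQ_of_mem hb he)) ((mem_Qs h hb).mpr hf2)
  have hQy : InQ z p y (e * f) := by
    rw [← mem_Qs h hy]
    exact mul_mem ((mem_Qs h hy).mpr he2) ((mem_Qs h hy).mpr (h.inQ_of_mem hy hf))
  rcases h.pair_unique kb ky n1 n2 a1 (mul_mem he1 hf1) a2 b2 a3 b3 hQb hQy hefb hefy with h1 | h1
  · exact Or.inl h1
  · right
    rw [h1]
    exact h.U_comm hx self_mem_U (mul_mem he1 hf1)

/-- the data of a bend in terms of `Adj` -/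
theorem bend_adj (h : FinHyp z p) (k : Bend (Pts z) (U z p) a b c) :
    Adj z p b a ∧ Adj z p b c ∧ a ≠ c ∧ a ≠ b * c ∧ c ≠ a ∧ c ≠ b * a := by
  have k1 : Adj z p a b := (adj_iff_col h).mpr k.l
  have k2 : Adj z p b c := (adj_iff_col h).mpr k.r
  have hbb := h.sq (h.isPt_left k2)
  have k3 : c ≠ b * a := fun h1 => k.ne' ((ne_third h k1).mpr h1)
  refine ⟨h.symm k1, k2, k.ne.symm, ?_, k.ne, k3⟩
  intro h1
  apply k3
  rw [h1, ← mul_assoc, hbb, one_mul]

/-- **The geometry.** -/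
theorem geo (h : FinHyp z p)
    (hu : ∀ a b c d b' c', Bend (Pts z) (U z p) a b c → Bend (Pts z) (U z p) b c d →
      Bend (Pts z) (U z p) a b' c' → Bend (Pts z) (U z p) b' c' d → b = b' ∧ c = c') :
    Geo (Pts z) (U z p) (Qs z p) where
  ne_one := by
    rintro x ⟨g, hg⟩ rfl
    apply h.z_ne
    have : z = g⁻¹ * (g * z * g⁻¹) * g := by group
    rw [this, hg]; group
  conj_P := fun g x hx => adj_of_pt_conj hx g
  conj_U := fun g x u _ hu => conj_mem_U.mpr hu
  conj_Q := fun g x u hx hu => by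
    rw [mem_Qs h (adj_of_pt_conj hx g)]
    exact ((mem_Qs h hx).mp hu).conj g
  self := fun x _ => self_mem_U
  U_sq := fun x hx u hu => h.U_sq hx hu
  U_le := fun x hx u hu => (mem_Qs h hx).mpr (h.inQ_of_mem hx hu)
  cent := fun x hx g hg => h.cent_U hx hg
  UQ := fun x hx q hq u hu => UQ h hx ((mem_Qs h hx).mp hq) hu
  not_mem := fun a b c k => by
    obtain ⟨k1, k2, n1, n2, n3, n4⟩ := bend_adj h k
    rw [mem_Qs h k.r.right]
    exact h.not_inQ k2 k1 n1 n2
  ker_index := fun b c k u hu v hv h1 h2 => by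
    rw [mem_Qs h k.right] at h1 h2 ⊢
    exact h.inQ_mul ((adj_iff_col h).mpr k) hu hv h1 h2
  gen := fun a b c k u hu => by
    obtain ⟨k1, k2, n1, n2, n3, n4⟩ := bend_adj h k
    obtain ⟨v, hv, v', hv', e⟩ := h.inter_gen k1 k2 n3 n4 hu
    exact ⟨v, hv.1, v', hv'.1, hv.2, hv'.2, e⟩
  int := fun a b c k u hu h1 h2 => by
    obtain ⟨k1, k2, n1, n2, n3, n4⟩ := bend_adj h k
    exact h.inter_two k1 k2 n3 n4 hu h1 h2
  two_lines := fun a b c k g hb ha hc => by
    obtain ⟨k1, k2, n1, n2, n3, n4⟩ := bend_adj h k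
    have hbP := k.l.right
    rw [mem_Qs h hbP]
    refine h.inQ_of_two k1 k2 n3 n4 ?_ ?_ ?_
    · calc g * b = g * b * g⁻¹ * g := by group
        _ = b * g := by rw [hb]
    · rwa [h.U_comm hbP self_mem_U (mem_U_of_adj k1)]
    · rwa [h.U_comm hbP self_mem_U (mem_U_of_adj k2)]
  ex := fun a b k => by
    have k1 := (adj_iff_col h).mpr k
    obtain ⟨y, hy, y1, y2⟩ := exists_adj h k1
    obtain ⟨y', hy', y1', y2'⟩ := exists_adj h (h.symm k1)
    have hn1 : ¬ InQ z p b y := h.not_inQ k1 hy y1 y2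
    have hn2 : ¬ InQ z p a y' := h.not_inQ (h.symm k1) hy' y1' y2'
    obtain ⟨-, t1, t2, t3, t4, t5, t6⟩ := h.comm_TL k1 (mem_U_of_adj hy') hn2 (mem_U_of_adj hy) hn1
    exact ⟨_, t1, t2, t3, t4, t5, t6⟩
  two := fun a b k e f h1 h2 h3 h4 => by
    have k1 := (adj_iff_col h).mpr k
    by_cases c1 : e = 1 ∨ e = a ∨ e = b ∨ e = a * b
    · exact Or.inl c1
    by_cases c2 : f = 1 ∨ f = a ∨ f = b ∨ f = a * b
    · exact Or.inr (Or.inl c2)
    push Not at c1 c2
    exact Or.inr (Or.inr (h.TL_mul ⟨k1, h1, h2, c1.1, c1.2.1, c1.2.2.1, c1.2.2.2⟩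
      ⟨k1, h3, h4, c2.1, c2.2.1, c2.2.2.1, c2.2.2.2⟩))
  comm := fun b x y k q q' e f hq hq1 hq2 hq' hq1' hq2' he he1 he2 he3 he4 hf hf1 hf2 hf3 hf4 => by
    obtain ⟨k1, k2, n1, n2, n3, n4⟩ := bend_adj h k
    have hxP := k.l.right
    rw [mem_Qs h hxP] at hq1 hq1'
    rw [mem_Qs h k.r.right] at he2
    rw [mem_Qs h k.l.left] at hf2
    exact comm_field h k1 k2 n3 n4 hq hq1 hq2 hq' hq1' hq2' he he1 he2 he3 he4 hf hf1 hf2 hf3 hf4
  unique := hu

/-- two points of a line determine it -/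
theorem line_pair (h : FinHyp z p) (k : Adj z p x w) {y y' : G} (hy : y ∈ ({x, w, x * w} : Set G))
    (hy' : y' ∈ ({x, w, x * w} : Set G)) (hne : y ≠ y') :
    Adj z p y y' ∧ ({x, w, x * w} : Set G) = {y, y', y * y'} := by
  have hx := h.isPt_left k
  have hw := h.isPt_left (h.symm k)
  have hxx := h.sq hx
  have hww := h.sq hw
  have hc : x * w = w * x := h.U_comm hx self_mem_U (mem_U_of_adj k)
  have k1 := h.symm k
  have k2 := h.third k
  have k3 : Adj z p w (x * w) := by rw [hc]; exact h.third k1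
  have e1 : x * (x * w) = w := by rw [← mul_assoc, hxx, one_mul]
  have e2 : w * (x * w) = x := by rw [hc, ← mul_assoc, hww, one_mul]
  have e3 : x * w * x = w := by rw [hc, mul_assoc, hxx, mul_one]
  have e4 : x * w * w = x := by rw [mul_assoc, hww, mul_one]
  rcases hy with rfl | rfl | rfl <;> rcases hy' with rfl | rfl | rfl
  · exact absurd rfl hne
  · exact ⟨k, rfl⟩
  · refine ⟨k2, ?_⟩
    rw [e1]
    ext v; simp only [Set.mem_insert_iff, Set.mem_singleton_iff]; tauto
  · refine ⟨k1, ?_⟩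
    rw [← hc]
    ext v; simp only [Set.mem_insert_iff, Set.mem_singleton_iff]; tauto
  · exact absurd rfl hne
  · refine ⟨k3, ?_⟩
    rw [e2]
    ext v; simp only [Set.mem_insert_iff, Set.mem_singleton_iff]; tauto
  · refine ⟨h.symm k2, ?_⟩
    rw [e3]
    ext v; simp only [Set.mem_insert_iff, Set.mem_singleton_iff]; tauto
  · refine ⟨h.symm k3, ?_⟩
    rw [e4]
    ext v; simp only [Set.mem_insert_iff, Set.mem_singleton_iff]; tauto
  · exact absurd rfl hne

/-- the line of two collinear points -/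
def mk (k : Adj z p x w) : Ln z p := ⟨{x, w, x * w}, x, w, k, rfl⟩

omit [Finite G] in
theorem fl_mk (k : Adj z p x w) (hx : IsPt z x) (hw : IsPt z w) (hne : x ≠ w) :
    Octagon.Fl (Inc z p) ⟨x, hx⟩ (mk k) ⟨w, hw⟩ := by
  refine ⟨Or.inl rfl, Or.inr (Or.inl rfl), fun h1 => hne (congrArg Subtype.val h1)⟩

theorem mk_ne (h : FinHyp z p) (k : Bend (Pts z) (U z p) a b c) :
    mk ((adj_iff_col h).mpr k.l) ≠ mk ((adj_iff_col h).mpr k.r) := by
  intro h1
  have h2 : ({a, b, a * b} : Set G) = {b, c, b * c} := congrArg Subtype.val h1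
  have h3 : c ∈ ({a, b, a * b} : Set G) := by rw [h2]; exact Or.inr (Or.inl rfl)
  rcases h3 with h3 | h3 | h3
  · exact k.ne h3
  · exact k.r.ne h3.symm
  · exact k.ne' h3

omit [Finite G] in
theorem exists_line (hO : Octagon.Oct (Inc z p) (rel z p)) (x : Pt z) (l l' : Ln z p) :
    ∃ m, Inc z p x m ∧ l ≠ m ∧ l' ≠ m := by
  by_contra hcon
  push Not at hcon
  have h5 := hO.five x
  classical
  have hinj : Function.Injective (fun y : {m // Inc z p x m} => (decide (l = y.1) : Bool)) := by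
    intro y1 y2 h12
    apply Subtype.ext
    have h12' : (l = y1.1) ↔ (l = y2.1) := by simpa using h12
    by_cases h3 : l = y1.1
    · rw [← h3, ← h12'.mp h3]
    · rw [← hcon _ y1.2 h3, ← hcon _ y2.2 (fun h4 => h3 (h12'.mpr h4))]
  have := Nat.card_le_card_of_injective _ hinj
  simp at this
  omega

theorem unique (h : FinHyp z p) (hO : Octagon.Oct (Inc z p) (rel z p)) {b' c' : G}
    (h1 : Bend (Pts z) (U z p) a b c) (h2 : Bend (Pts z) (U z p) b c d)
    (h3 : Bend (Pts z) (U z p) a b' c') (h4 : Bend (Pts z) (U z p) b' c' d) : b = b' ∧ c = c' := by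
  obtain ⟨m, hm, n1, n2⟩ := exists_line hO ⟨d, h2.r.right⟩ (mk ((adj_iff_col h).mpr h2.r))
    (mk ((adj_iff_col h).mpr h4.r))
  have key := hO.unique (x := ⟨a, h1.l.left⟩)
    (fl_mk ((adj_iff_col h).mpr h1.l) h1.l.left h1.l.right h1.l.ne) (mk_ne h h1)
    (fl_mk ((adj_iff_col h).mpr h2.l) h2.l.left h2.l.right h2.l.ne) (mk_ne h h2)
    (fl_mk ((adj_iff_col h).mpr h2.r) h2.r.left h2.r.right h2.r.ne) n1 hm
    (fl_mk ((adj_iff_col h).mpr h3.l) h3.l.left h3.l.right h3.l.ne) (mk_ne h h3)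
    (fl_mk ((adj_iff_col h).mpr h4.l) h4.l.left h4.l.right h4.l.ne) (mk_ne h h4)
    (fl_mk ((adj_iff_col h).mpr h4.r) h4.r.left h4.r.right h4.r.ne) n2 hm
  exact ⟨congrArg Subtype.val key.2.1, congrArg Subtype.val key.2.2.2.1⟩

theorem geo' (h : FinHyp z p) (hO : Octagon.Oct (Inc z p) (rel z p)) : Geo (Pts z) (U z p) (Qs z p) :=
  geo h fun _ _ _ _ _ _ h1 h2 h3 h4 => unique h hO h1 h2 h3 h4

theorem col_of_fl (h : FinHyp z p) {x y : Pt z} {l : Ln z p} (hl : Octagon.Fl (Inc z p) x l y) :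
    Adj z p x.1 y.1 ∧ l.1 = {x.1, y.1, x.1 * y.1} := by
  obtain ⟨h1, h2, h3⟩ := hl
  obtain ⟨l, a, b, k, rfl⟩ := l
  exact line_pair h k h1 h2 (fun h4 => h3 (Subtype.ext h4))

/-- an apartment -/
theorem exists_bend (h : FinHyp z p) (hO : Octagon.Oct (Inc z p) (rel z p)) :
    ∃ X : ZMod 8 → G, ∀ i, Bend (Pts z) (U z p) (X (i - 1)) (X i) (X (i + 1)) := by
  have : Nonempty (Pt z) := ⟨⟨z, 1, by group⟩⟩
  obtain ⟨X, l, hX⟩ := hO.exists_apartment
  refine ⟨fun i => (X i).1, fun i => ?_⟩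
  have e1 := hX (i - 1)
  rw [sub_add_cancel] at e1
  have e2 := hX i
  obtain ⟨a1, l1⟩ := col_of_fl h e1.1
  obtain ⟨a2, l2⟩ := col_of_fl h e2.1
  have key : (X (i + 1)).1 ∉ (l (i - 1)).1 := by
    intro h1
    apply e1.2
    apply Subtype.ext
    have h2 : (X i).1 ∈ (l (i - 1)).1 := e1.1.2.1
    have h3 : Octagon.Fl (Inc z p) (X i) (l (i - 1)) (X (i + 1)) := ⟨h2, h1, e2.1.2.2⟩
    rw [(col_of_fl h h3).2, l2]
  rw [l1] at key
  refine ⟨(adj_iff_col h).mp a1, (adj_iff_col h).mp a2, fun h1 => key (Or.inl h1),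
    fun h1 => key (Or.inr (Or.inr h1))⟩

/-- **The final configuration contains a proper nonsolvable subgroup.** -/
theorem exists_proper [IsSimpleGroup G] (h : FinHyp z p) (hO : Octagon.Oct (Inc z p) (rel z p)) :
    ∃ H : Subgroup G, H ≠ ⊤ ∧ ¬ Group.IsSolvable H := by
  obtain ⟨X, hX⟩ := exists_bend h hO
  obtain ⟨c, -, hc⟩ := exists_rel (geo' h hO) X hX
  have hne : c 0 ≠ c 4 := by
    intro h1
    have := hc.ne 0
    rw [zero_add, h1] at this
    exact this rfl
  refine SFiveAbs.Rel.exists_proper (c := c) ⟨hc.sq, hc.one, hc.two, hc.three, fun i => ?_⟩ hne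
  have h1 := hc.four i
  have h2 := hc.sq i
  have h3 := hc.sq (i + 4)
  generalize c (i + 4) = t at h1 h3 ⊢
  generalize c i = s at h1 h2 ⊢
  calc (s * t) ^ 3 = (s * t * s) * (t * s * t) := by rw [pow_three]; simp only [mul_assoc]
    _ = (t * s * t) * (t * s * t) := by rw [h1]
    _ = t * s * (t * t) * s * t := by simp only [mul_assoc]
    _ = t * (s * s) * t := by rw [h3, mul_one, mul_assoc t]
    _ = 1 := by rw [h2, mul_one, h3]

end Cfsg.Agent.Classification.TitsFin.Glue
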