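import Mathlib
import Cfsg.Agent.Classification.TitsFin.Glue

/-!
# The end of the Tits case

* `card_eq`: in a group of characteristic 2 type the final configuration forces `|G| = 17971200`;
* `not_minimalSimple`: it is impossible in a minimal simple group.
-/

set_option autoImplicit false

namespace Cfsg.Agent.Classification.TitsFin.Final

open Cfsg.Agent.Classification.TitsFin

variable {G : Type*} [Group G] [Finite G] {z p : G}

theorem card_eq (h : FinHyp z p) (hG : IsCharacteristicTwoType G) : Nat.card G = 17971200 :=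
  h.card_eq hG

theorem exists_proper [IsSimpleGroup G] (h : FinHyp z p) (hG : IsCharacteristicTwoType G) :
    ∃ H : Subgroup G, H ≠ ⊤ ∧ ¬ Group.IsSolvable H :=
  Glue.exists_proper h (h.oct hG)

theorem not_minimalSimple (h : FinHyp z p) (hG : IsCharacteristicTwoType G) (hm : IsMinimalSimple G) :
    False := by
  have := hm.1
  obtain ⟨H, h1, h2⟩ := exists_proper h hG
  exact h2 (hm.2.2 H h1)

/-- an elementary abelian subgroup of order `2 ^ 5` -/
theorem exists_elementary (h : FinHyp z p) : ∃ V : Subgroup G, Nat.card V = 32 ∧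
    (∀ u ∈ V, u * u = 1) ∧ ∀ u ∈ V, ∀ v ∈ V, u * v = v * u :=
  ⟨U z p z, h.cardU, fun _ hu => h.U_sq (h.isPt_left h.adj_zp) hu,
    fun _ hu _ hv => h.U_comm (h.isPt_left h.adj_zp) hu hv⟩

end Cfsg.Agent.Classification.TitsFin.Final
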