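import Mathlib

/-!
# Automorphisms of an elementary abelian group of order 16

`M` is elementary abelian of order 16, `x` an automorphism of order 5.
-/

set_option autoImplicit false
set_option linter.unusedSectionVars false
set_option linter.style.haveILetI false

namespace Cfsg.Agent.Classification.TitsFin.Mod16

open Subgroup

variable {M : Type*} [CommGroup M]

/-- fixed points -/
def fx (s : MulAut M) : Subgroup M := (s : M ≃* M).toMonoidHom.eqLocus (MonoidHom.id M)

theorem mem_fx {s : MulAut M} {m : M} : m ∈ fx s ↔ s m = m := Iff.rfl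

/-- `m ↦ m * s m` -/
def dl (s : MulAut M) : M →* M := MonoidHom.id M * (s : M ≃* M).toMonoidHom

theorem dl_apply (s : MulAut M) (m : M) : dl s m = m * s m := rfl

theorem inv_eq (sq : ∀ m : M, m * m = 1) (m : M) : m⁻¹ = m := inv_eq_of_mul_eq_one_left (sq m)

theorem mul_eq_one_iff (sq : ∀ m : M, m * m = 1) {a b : M} : a * b = 1 ↔ b = a := by
  rw [mul_eq_one_iff_eq_inv, inv_eq sq]
  exact eq_comm

theorem ker_dl (sq : ∀ m : M, m * m = 1) (s : MulAut M) : (dl s).ker = fx s := by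
  ext m
  rw [MonoidHom.mem_ker, dl_apply, mem_fx, mul_eq_one_iff sq]

variable [Finite M]

theorem card_modEq {p k : ℕ} [Fact p.Prime] {s : MulAut M} (hs : s ^ p ^ k = 1) (A : Subgroup M)
    (hA : ∀ a ∈ A, s a ∈ A) : Nat.card A ≡ Nat.card ↥(A ⊓ fx s) [MOD p] := by
  classical
  let f : Function.End A := fun a => ⟨s a, hA a a.2⟩
  have hf : ∀ (n : ℕ) (a : A), ((f ^ n) a : M) = (s ^ n) a := by
    intro n
    induction n with
    | zero => intro a; rfl
    | succ n ih =>
      intro a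
      rw [pow_succ, pow_succ]
      change ((f ^ n) (f a) : M) = (s ^ n) (s a)
      rw [ih]
  have h1 : f ^ p ^ k = 1 := by
    funext a
    apply Subtype.ext
    rw [hf, hs]; rfl
  haveI : Fintype A := Fintype.ofFinite A
  have h2 := Equiv.Perm.card_fixedPoints_modEq h1
  rw [← Nat.card_eq_fintype_card, ← Nat.card_eq_fintype_card] at h2
  refine h2.trans ?_
  refine (congrArg (· % p) (Nat.card_congr ?_) : _)
  exact
    { toFun := fun a => ⟨a.1.1, a.1.2, congrArg Subtype.val a.2⟩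
      invFun := fun a => ⟨⟨a.1, a.2.1⟩, Subtype.ext a.2.2⟩
      left_inv := fun a => rfl
      right_inv := fun a => rfl }

theorem card_two_pow (hM : Nat.card M = 16) (A : Subgroup M) :
    Nat.card A = 1 ∨ Nat.card A = 2 ∨ Nat.card A = 4 ∨ Nat.card A = 8 ∨ Nat.card A = 16 := by
  have h := card_subgroup_dvd_card A
  rw [hM] at h
  have h2 : Nat.card A ∈ Nat.divisors 16 := Nat.mem_divisors.mpr ⟨h, by norm_num⟩
  have h3 : Nat.divisors 16 = {1, 2, 4, 8, 16} := by decide
  rw [h3] at h2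
  simpa using h2

theorem eq_bot_of_card {A : Subgroup M} (h : Nat.card A = 1) : A = ⊥ := by
  exact (Subgroup.card_eq_one.mp h)

theorem eq_top_of_card (hM : Nat.card M = 16) {A : Subgroup M} (h : Nat.card A = 16) : A = ⊤ :=
  (Subgroup.card_eq_iff_eq_top A).mp (by rw [h, hM])

/-- an automorphism of order 5 has no fixed points -/
theorem fx_eq_bot (hM : Nat.card M = 16) {x : MulAut M} (h5 : x ^ 5 = 1) (h1 : x ≠ 1) : fx x = ⊥ := by
  haveI : Fact (Nat.Prime 5) := ⟨by norm_num⟩
  have h2 := card_modEq (p := 5) (k := 1) (s := x) (by rw [pow_one]; exact h5) ⊤ (fun _ _ => mem_top _)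
  rw [top_inf_eq, Subgroup.card_top, hM] at h2
  rcases card_two_pow hM (fx x) with h | h | h | h | h
  · exact eq_bot_of_card h
  · rw [h] at h2; exact absurd h2 (by decide)
  · rw [h] at h2; exact absurd h2 (by decide)
  · rw [h] at h2; exact absurd h2 (by decide)
  · exfalso
    apply h1
    have h3 := eq_top_of_card hM h
    ext m
    have : m ∈ fx x := by rw [h3]; exact mem_top _
    exact this

/-- an automorphism of order 5 is irreducible -/
theorem irred (hM : Nat.card M = 16) {x : MulAut M} (h5 : x ^ 5 = 1) (h1 : x ≠ 1) {A : Subgroup M}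
    (hA : ∀ a ∈ A, x a ∈ A) : A = ⊥ ∨ A = ⊤ := by
  haveI : Fact (Nat.Prime 5) := ⟨by norm_num⟩
  have h2 := card_modEq (p := 5) (k := 1) (s := x) (by rw [pow_one]; exact h5) A hA
  rw [fx_eq_bot hM h5 h1, inf_bot_eq, Subgroup.card_bot] at h2
  rcases card_two_pow hM A with h | h | h | h | h
  · exact Or.inl (eq_bot_of_card h)
  · rw [h] at h2; exact absurd h2 (by decide)
  · rw [h] at h2; exact absurd h2 (by decide)
  · rw [h] at h2; exact absurd h2 (by decide)
  · exact Or.inr (eq_top_of_card hM h)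

theorem eq_one_of_fx_eq_top {s : MulAut M} (h : fx s = ⊤) : s = 1 := by
  ext m
  have : m ∈ fx s := by rw [h]; exact mem_top _
  exact this

/-- a 2-element commuting with `x` is trivial -/
theorem eq_one_of_comm (hM : Nat.card M = 16) {x : MulAut M} (h5 : x ^ 5 = 1) (h1 : x ≠ 1)
    {s : MulAut M} {k : ℕ} (hs : s ^ 2 ^ k = 1) (hc : s * x = x * s) : s = 1 := by
  haveI : Fact (Nat.Prime 2) := ⟨Nat.prime_two⟩
  have h2 := card_modEq (p := 2) (k := k) hs ⊤ (fun _ _ => mem_top _)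
  rw [top_inf_eq, Subgroup.card_top, hM] at h2
  have h3 : ∀ a ∈ fx s, x a ∈ fx s := by
    intro a ha
    rw [mem_fx] at ha ⊢
    calc s (x a) = (s * x) a := rfl
      _ = (x * s) a := by rw [hc]
      _ = x (s a) := rfl
      _ = x a := by rw [ha]
  rcases irred hM h5 h1 h3 with h | h
  · rw [h, Subgroup.card_bot] at h2
    exact absurd h2 (by decide)
  · exact eq_one_of_fx_eq_top h

/-- an involution normalising `⟨x⟩` inverts `x` -/
theorem conj_eq_inv (hM : Nat.card M = 16) {x : MulAut M} (h5 : x ^ 5 = 1) (h1 : x ≠ 1)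
    {t : MulAut M} (ht : t * t = 1) (ht1 : t ≠ 1) {k : ℕ} (hk : t * x * t⁻¹ = x ^ k) :
    t * x * t⁻¹ = x⁻¹ := by
  haveI : Fact (Nat.Prime 5) := ⟨by norm_num⟩
  have ho : orderOf x = 5 := orderOf_eq_prime h5 h1
  have h2 : x = x ^ (k * k) := by
    calc x = (t * t) * x * (t * t)⁻¹ := by rw [ht]; group
      _ = t * (t * x * t⁻¹) * t⁻¹ := by group
      _ = (t * x * t⁻¹) ^ k := by rw [hk, ← conj_pow, hk]
      _ = x ^ (k * k) := by rw [hk, pow_mul]
  have h3 : k * k % 5 = 1 := by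
    have h4 : x ^ (k * k) = x ^ 1 := by rw [pow_one]; exact h2.symm
    rw [pow_inj_mod, ho] at h4
    simpa using h4
  have h4 : x ^ k = x ^ (k % 5) := by rw [← ho, pow_mod_orderOf]
  have h5' : k % 5 < 5 := Nat.mod_lt _ (by norm_num)
  have h6 : (k % 5) * (k % 5) % 5 = 1 := by rw [← Nat.mul_mod]; exact h3
  rw [hk, h4]
  generalize k % 5 = j at h5' h6 h4 ⊢
  interval_cases j
  · omega
  · exfalso
    apply ht1
    refine eq_one_of_comm hM h5 h1 (k := 1) (by rw [pow_one, pow_two]; exact ht) ?_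
    rw [pow_one] at h4
    rw [h4] at hk
    calc t * x = (t * x * t⁻¹) * t := by group
      _ = x * t := by rw [hk]
  · omega
  · omega
  · rw [eq_inv_iff_mul_eq_one, ← pow_succ]; exact h5


theorem fx_pow_eq_bot (hM : Nat.card M = 16) {x : MulAut M} (h5 : x ^ 5 = 1) (h1 : x ≠ 1) {k : ℕ}
    (hk : k % 5 ≠ 0) : fx (x ^ k) = ⊥ := by
  haveI : Fact (Nat.Prime 5) := ⟨by norm_num⟩
  have ho : orderOf x = 5 := orderOf_eq_prime h5 h1
  refine fx_eq_bot hM ?_ ?_
  · rw [← pow_mul, mul_comm, pow_mul, h5, one_pow]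
  · intro h
    exact hk (Nat.mod_eq_zero_of_dvd (by rw [← ho]; exact orderOf_dvd_of_pow_eq_one h))

theorem mul_apply (a b : MulAut M) (m : M) : (a * b) m = a (b m) := rfl

/-- translates of `fx t` meet trivially -/
theorem eq_one_of_mem (hM : Nat.card M = 16) {x : MulAut M} (h5 : x ^ 5 = 1) (h1 : x ≠ 1)
    {t : MulAut M} (htx : t * x * t⁻¹ = x⁻¹) {k : ℕ} (hk : k % 5 ≠ 0) {m : M}
    (h : t m = m) (h' : t ((x ^ k) m) = (x ^ k) m) : m = 1 := by
  have e1 : t * x ^ k = (x ^ k)⁻¹ * t := by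
    calc t * x ^ k = (t * x * t⁻¹) ^ k * t := by rw [conj_pow]; group
      _ = (x ^ k)⁻¹ * t := by rw [htx, inv_pow]
  have e2 : (x ^ (2 * k)) m = m := by
    have h2 : t ((x ^ k) m) = (x ^ k)⁻¹ m := by
      calc t ((x ^ k) m) = (t * x ^ k) m := rfl
        _ = ((x ^ k)⁻¹ * t) m := by rw [e1]
        _ = (x ^ k)⁻¹ (t m) := rfl
        _ = (x ^ k)⁻¹ m := by rw [h]
    calc (x ^ (2 * k)) m = (x ^ k * x ^ k) m := by rw [← pow_add, two_mul]
      _ = (x ^ k) ((x ^ k) m) := rfl
      _ = (x ^ k) (t ((x ^ k) m)) := by rw [h']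
      _ = (x ^ k) ((x ^ k)⁻¹ m) := by rw [h2]
      _ = (x ^ k * (x ^ k)⁻¹) m := rfl
      _ = m := by rw [mul_inv_cancel]; rfl
  have h3 : m ∈ fx (x ^ (2 * k)) := e2
  rw [fx_pow_eq_bot hM h5 h1 (by omega)] at h3
  exact mem_bot.mp h3

theorem card_range_dl (sq : ∀ m : M, m * m = 1) (s : MulAut M) :
    Nat.card (dl s).range * Nat.card (fx s) = Nat.card M := by
  rw [← Subgroup.index_ker (dl s), ← ker_dl sq s, mul_comm]
  exact Subgroup.card_mul_index _

theorem range_dl_le {t : MulAut M} (ht : t * t = 1) :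
    (dl t).range ≤ fx t := by
  rintro _ ⟨m, rfl⟩
  rw [mem_fx, dl_apply, map_mul]
  have : t (t m) = m := by
    change (t * t) m = m
    rw [ht]; rfl
  rw [this, mul_comm]

theorem card_fx_le (hM : Nat.card M = 16) {x : MulAut M} (h5 : x ^ 5 = 1) (h1 : x ≠ 1)
    {t : MulAut M} (htx : t * x * t⁻¹ = x⁻¹) : Nat.card (fx t) ≤ 4 := by
  classical
  let φ : fx t × fx t → M := fun p => p.1 * x p.2
  have hφ : Function.Injective φ := by
    rintro ⟨a, b⟩ ⟨c, d⟩ h
    change (a : M) * x b = c * x d at h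
    have h2 : (a : M) * (c : M)⁻¹ = x ((d : M) * (b : M)⁻¹) := by
      rw [map_mul, map_inv, mul_inv_eq_iff_eq_mul, mul_right_comm, eq_mul_inv_iff_mul_eq, h, mul_comm]
    have h3 : (d : M) * (b : M)⁻¹ ∈ fx t := mul_mem d.2 (inv_mem b.2)
    have h4 : (a : M) * (c : M)⁻¹ ∈ fx t := mul_mem a.2 (inv_mem c.2)
    have h5' : (d : M) * (b : M)⁻¹ = 1 := by
      refine eq_one_of_mem hM h5 h1 htx (k := 1) (by norm_num) h3 ?_
      rw [pow_one, ← h2]
      exact h4
    have h6 : (a : M) * (c : M)⁻¹ = 1 := by rw [h2, h5', map_one]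
    exact Prod.ext (Subtype.ext (mul_inv_eq_one.mp h6)) (Subtype.ext (mul_inv_eq_one.mp h5').symm)
  have h2 := Nat.card_le_card_of_injective φ hφ
  rw [Nat.card_prod, hM] at h2
  nlinarith

theorem card_fx (hM : Nat.card M = 16) (sq : ∀ m : M, m * m = 1) {x : MulAut M} (h5 : x ^ 5 = 1)
    (h1 : x ≠ 1) {t : MulAut M} (ht : t * t = 1) (htx : t * x * t⁻¹ = x⁻¹) :
    Nat.card (fx t) = 4 := by
  have h2 := card_range_dl sq t
  have h3 := Subgroup.card_le_of_le (range_dl_le ht)
  have h4 := card_fx_le hM h5 h1 htx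
  rw [hM] at h2
  nlinarith

theorem range_dl_eq (hM : Nat.card M = 16) (sq : ∀ m : M, m * m = 1) {x : MulAut M} (h5 : x ^ 5 = 1)
    (h1 : x ≠ 1) {t : MulAut M} (ht : t * t = 1) (htx : t * x * t⁻¹ = x⁻¹) :
    (dl t).range = fx t := by
  have h2 := card_range_dl sq t
  have h4 := card_fx hM sq h5 h1 ht htx
  rw [hM, h4] at h2
  refine Subgroup.eq_of_le_of_card_ge (range_dl_le ht) ?_
  rw [h4]; omega


/-- the five translates of `fx t` cover `M` -/
theorem spread (hM : Nat.card M = 16) (sq : ∀ m : M, m * m = 1) {x : MulAut M} (h5 : x ^ 5 = 1)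
    (h1 : x ≠ 1) {t : MulAut M} (ht : t * t = 1) (htx : t * x * t⁻¹ = x⁻¹) (m : M) :
    ∃ k : ℕ, k < 5 ∧ ∃ a ∈ fx t, (x ^ k) a = m := by
  classical
  haveI := Fintype.ofFinite M
  by_cases hm : m = 1
  · exact ⟨0, by norm_num, 1, one_mem _, by rw [hm, map_one]⟩
  let S : Type _ := {a : fx t // a ≠ 1}
  let φ : Fin 5 × S → {m : M // m ≠ 1} := fun p => ⟨(x ^ (p.1 : ℕ)) p.2.1, fun h => p.2.2 (by
    rw [EmbeddingLike.map_eq_one_iff] at h
    exact Subtype.ext h)⟩
  have hφ : Function.Injective φ := by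
    have key : ∀ i j : Fin 5, (i : ℕ) ≤ j → ∀ a b : S, (x ^ (i : ℕ)) a.1 = (x ^ (j : ℕ)) b.1 →
        i = j ∧ a = b := by
      intro i j hij a b hab
      have h2 : ((x ^ ((j : ℕ) - i)) (b.1 : M)) = a.1 := by
        have h3 : (x ^ (i : ℕ)) ((x ^ ((j : ℕ) - i)) (b.1 : M)) = (x ^ (i : ℕ)) a.1 := by
          rw [hab, ← mul_apply, ← pow_add]
          congr 2
          omega
        exact (x ^ (i : ℕ)).injective h3
      by_cases hk : ((j : ℕ) - i) % 5 = 0
      · have h4 : i = j := by apply Fin.ext; omega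
        refine ⟨h4, ?_⟩
        rw [h4, Nat.sub_self, pow_zero] at h2
        exact Subtype.ext (Subtype.ext h2.symm)
      · exfalso
        apply b.2
        refine Subtype.ext (eq_one_of_mem hM h5 h1 htx hk b.1.2 ?_)
        rw [h2]; exact a.1.2
    rintro ⟨i, a⟩ ⟨j, b⟩ h
    have h2 : (x ^ (i : ℕ)) (a.1 : M) = (x ^ (j : ℕ)) b.1 := congrArg Subtype.val h
    rcases le_total (i : ℕ) j with hij | hij
    · obtain ⟨rfl, rfl⟩ := key i j hij a b h2
      rfl
    · obtain ⟨rfl, rfl⟩ := key j i hij b a h2.symm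
      rfl
  have hS : Fintype.card S = 3 := by
    rw [Fintype.card_subtype_compl]
    rw [← Nat.card_eq_fintype_card, card_fx hM sq h5 h1 ht htx, Fintype.card_subtype_eq]
  have hM' : Fintype.card {m : M // m ≠ 1} = 15 := by
    rw [Fintype.card_subtype_compl]
    rw [← Nat.card_eq_fintype_card, hM, Fintype.card_subtype_eq]
  have hbij : Function.Bijective φ := by
    rw [Fintype.bijective_iff_injective_and_card]
    refine ⟨hφ, ?_⟩
    rw [Fintype.card_prod, hS, hM']; rfl
  obtain ⟨⟨i, a⟩, ha⟩ := hbij.2 ⟨m, hm⟩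
  exact ⟨i, i.2, a.1, a.1.2, congrArg Subtype.val ha⟩

/-! ### groups of order 10 and 20 -/

theorem exists_x {B : Subgroup (MulAut M)} (hB : Nat.card B = 10 ∨ Nat.card B = 20) :
    ∃ x ∈ B, x ^ 5 = 1 ∧ x ≠ 1 := by
  haveI : Fact (Nat.Prime 5) := ⟨by norm_num⟩
  obtain ⟨x, hx⟩ := exists_prime_orderOf_dvd_card' (G := B) 5 (by rcases hB with h | h <;> rw [h] <;> norm_num)
  refine ⟨x, x.2, ?_, ?_⟩
  · have := pow_orderOf_eq_one x
    rw [hx] at this
    exact congrArg Subtype.val this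
  · intro h
    rw [show x = 1 from Subtype.ext h, orderOf_one] at hx
    norm_num at hx

/-- in a group of order 10 or 20 a subgroup of order 5 is normal -/
theorem conj_mem {B : Type*} [Group B] [Finite B] (hB : Nat.card B = 10 ∨ Nat.card B = 20) {x : B}
    (hx : orderOf x = 5) (b : B) : ∃ k : ℕ, b * x * b⁻¹ = x ^ k := by
  haveI : Fact (Nat.Prime 5) := ⟨by norm_num⟩
  have h1 : Nat.card (zpowers x) = 5 ^ (Nat.card B).factorization 5 := by
    rw [Nat.card_zpowers, hx]
    rcases hB with h | h <;> rw [h]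
    · have : (10 : ℕ).factorization 5 = 1 := by
        rw [show (10 : ℕ) = 5 * 2 by norm_num, Nat.factorization_mul (by norm_num) (by norm_num)]
        simp [Nat.Prime.factorization, Nat.prime_five, Nat.prime_two]
      rw [this]; norm_num
    · have : (20 : ℕ).factorization 5 = 1 := by
        rw [show (20 : ℕ) = 5 * 4 by norm_num, Nat.factorization_mul (by norm_num) (by norm_num)]
        have h4 : (4 : ℕ).factorization 5 = 0 := Nat.factorization_eq_zero_of_not_dvd (by norm_num)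
        simp [Nat.Prime.factorization, Nat.prime_five, h4]
      rw [this]; norm_num
  let P : Sylow 5 B := Sylow.ofCard (zpowers x) h1
  have h2 : Nat.card (Sylow 5 B) ≡ 1 [MOD 5] := card_sylow_modEq_one 5 B
  have h3 : Nat.card (Sylow 5 B) ∣ P.index := P.card_dvd_index
  have h4 : P.index = Nat.card B / 5 := by
    have h5 : Nat.card (P : Subgroup B) * P.index = Nat.card B := Subgroup.card_mul_index _
    have h6 : Nat.card (P : Subgroup B) = 5 := by
      change Nat.card (zpowers x) = 5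
      rw [Nat.card_zpowers, hx]
    rw [h6] at h5
    omega
  have h5 : Nat.card (Sylow 5 B) = 1 := by
    have h6 : Nat.card (Sylow 5 B) ∣ 4 := by
      rcases hB with h | h
      · rw [h] at h4
        exact (h4 ▸ h3).trans (by norm_num)
      · rw [h] at h4
        exact (h4 ▸ h3).trans (by norm_num)
    have h7 : Nat.card (Sylow 5 B) ≤ 4 := Nat.le_of_dvd (by norm_num) h6
    have h8 : Nat.card (Sylow 5 B) % 5 = 1 := h2
    omega
  have h6 : (P : Subgroup B).Normal := by
    haveI : Subsingleton (Sylow 5 B) := (Nat.card_eq_one_iff_unique.mp h5).1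
    exact Sylow.normal_of_subsingleton P
  have h7 : b * x * b⁻¹ ∈ zpowers x := h6.conj_mem x (mem_zpowers x) b
  obtain ⟨k, hk⟩ := (mem_powers_iff_mem_zpowers.mpr h7 : b * x * b⁻¹ ∈ Submonoid.powers x)
  exact ⟨k, hk.symm⟩

end Cfsg.Agent.Classification.TitsFin.Mod16
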