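import Mathlib
import Cfsg.Agent.MinSimple.Geo
import Cfsg.Agent.MinSimple.Killing
import Cfsg.Agent.Classification.TitsFin.Mod16

/-!
# The three points of a line: the structure `Tri`

Blueprint `P21-FIN-helper531.md`, section A. `V` is a four-group, its involutions are the points `p`; `U p` is elementary
abelian of order 32 and contains `V`, `C p ≤ C_G(p)` normalises `U p` and contains `N_G(V) ∩ C_G(p)`, and
`C p / kst (C p) (U p) p` has order 10 or 20, where `kst C U p` is the kernel of `C` on `U / ⟨p⟩`.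
-/

set_option autoImplicit false

namespace Cfsg.Agent.Classification.TitsFin

open Subgroup Cfsg Cfsg.Agent.ZN Cfsg.Agent.MinSimple.Geo
open Cfsg.Agent.ZN.Block (conj_mem_of_normalizer conj_mem_of_normalizer' le_normalizer_of_forall
  mem_normalizer_of card_sup_mul_card_inf card_mul_relIndex' mul_mem_of_relIndex_two)

universe u

namespace Tri

variable {G : Type u} [Group G]

/-- the points of `V` -/
def Pt (V : Subgroup G) (p : G) : Prop := p ∈ V ∧ p ≠ 1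

/-- the kernel of `C` on `U / ⟨p⟩` -/
def kst (C U : Subgroup G) (p : G) : Subgroup G where
  carrier := {c | c ∈ C ∧ c * p = p * c ∧
    (∀ w ∈ U, c * w * c⁻¹ * w⁻¹ ∈ zpowers p) ∧ ∀ w ∈ U, c⁻¹ * w * c * w⁻¹ ∈ zpowers p}
  mul_mem' := by
    rintro a b ⟨ha0, ha, ha1, ha2⟩ ⟨hb0, hb, hb1, hb2⟩
    have hzc : ∀ c : G, c * p = p * c → ∀ y ∈ zpowers p, c * y * c⁻¹ = y := by
      intro c hc y hy
      obtain ⟨n, rfl⟩ := mem_zpowers_iff.mp hy
      have h : Commute c p := hc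
      rw [(h.zpow_right n).eq, mul_inv_cancel_right]
    have hb' : b⁻¹ * p = p * b⁻¹ := (show Commute b p from hb).inv_left
    refine ⟨mul_mem ha0 hb0, ?_, fun w hw => ?_, fun w hw => ?_⟩
    · rw [mul_assoc, hb, ← mul_assoc, ha, mul_assoc]
    · have e : a * b * w * (a * b)⁻¹ * w⁻¹ = a * (b * w * b⁻¹ * w⁻¹) * a⁻¹ * (a * w * a⁻¹ * w⁻¹) := by group
      rw [e, hzc a ha _ (hb1 w hw)]
      exact mul_mem (hb1 w hw) (ha1 w hw)
    · have e : (a * b)⁻¹ * w * (a * b) * w⁻¹ =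
          b⁻¹ * (a⁻¹ * w * a * w⁻¹) * b⁻¹⁻¹ * (b⁻¹ * w * b * w⁻¹) := by group
      rw [e, hzc b⁻¹ hb' _ (ha2 w hw)]
      exact mul_mem (ha2 w hw) (hb2 w hw)
  one_mem' := by
    refine ⟨one_mem _, by simp, fun w _ => ?_, fun w _ => ?_⟩ <;> simp
  inv_mem' := by
    rintro a ⟨ha0, ha, ha1, ha2⟩
    refine ⟨inv_mem ha0, (show Commute a p from ha).inv_left, fun w hw => ?_, fun w hw => ?_⟩
    · rw [inv_inv]; exact ha2 w hw
    · rw [inv_inv]; exact ha1 w hw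

theorem kst_le (C U : Subgroup G) (p : G) : kst C U p ≤ C := fun _ h => h.1

theorem cj_kst (g : G) (C U : Subgroup G) (p : G) :
    cj g (kst C U p) = kst (cj g C) (cj g U) (g * p * g⁻¹) := by
  have key : ∀ (g : G) (C U : Subgroup G) (p : G), cj g (kst C U p) ≤ kst (cj g C) (cj g U) (g * p * g⁻¹) := by
    intro g C U p x hx
    obtain ⟨y, ⟨h0, h1, h2, h3⟩, rfl⟩ := hx
    have hz : ∀ k ∈ zpowers p, g * k * g⁻¹ ∈ zpowers (g * p * g⁻¹) := by
      intro k hk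
      obtain ⟨n, rfl⟩ := mem_zpowers_iff.mp hk
      exact mem_zpowers_iff.mpr ⟨n, by rw [conj_zpow]⟩
    refine ⟨conj_mem_cj h0, ?_, ?_, ?_⟩
    · change g * y * g⁻¹ * (g * p * g⁻¹) = g * p * g⁻¹ * (g * y * g⁻¹)
      calc g * y * g⁻¹ * (g * p * g⁻¹) = g * (y * p) * g⁻¹ := by group
        _ = g * (p * y) * g⁻¹ := by rw [h1]
        _ = g * p * g⁻¹ * (g * y * g⁻¹) := by group
    · rintro _ ⟨w, hw, rfl⟩
      change g * y * g⁻¹ * (g * w * g⁻¹) * (g * y * g⁻¹)⁻¹ * (g * w * g⁻¹)⁻¹ ∈ _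
      have e : g * y * g⁻¹ * (g * w * g⁻¹) * (g * y * g⁻¹)⁻¹ * (g * w * g⁻¹)⁻¹ =
        g * (y * w * y⁻¹ * w⁻¹) * g⁻¹ := by group
      rw [e]
      exact hz _ (h2 w hw)
    · rintro _ ⟨w, hw, rfl⟩
      change (g * y * g⁻¹)⁻¹ * (g * w * g⁻¹) * (g * y * g⁻¹) * (g * w * g⁻¹)⁻¹ ∈ _
      have e : (g * y * g⁻¹)⁻¹ * (g * w * g⁻¹) * (g * y * g⁻¹) * (g * w * g⁻¹)⁻¹ =
        g * (y⁻¹ * w * y * w⁻¹) * g⁻¹ := by group
      rw [e]
      exact hz _ (h3 w hw)
  refine le_antisymm (key g C U p) ?_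
  have h := key g⁻¹ (cj g C) (cj g U) (g * p * g⁻¹)
  have e : g⁻¹ * (g * p * g⁻¹) * g⁻¹⁻¹ = p := by group
  rw [e, cj_inv_cj, cj_inv_cj, cj_le_iff, inv_inv] at h
  exact h

end Tri

open Tri

variable {G : Type u} [Group G]

/-- The configuration of the three points of the line `V`. -/
structure Tri (V : Subgroup G) (U C : G → Subgroup G) : Prop where
  cardV : Nat.card V = 4
  sqV : ∀ v ∈ V, v * v = 1
  cardU : ∀ p, Pt V p → Nat.card (U p) = 32
  sqU : ∀ p, Pt V p → ∀ u ∈ U p, u * u = 1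
  V_le : ∀ p, Pt V p → V ≤ U p
  C_le : ∀ p, Pt V p → C p ≤ centralizer ({p} : Set G)
  C_norm : ∀ p, Pt V p → C p ≤ normalizer (U p : Set G)
  le_C : ∀ p, Pt V p → normalizer (V : Set G) ⊓ centralizer ({p} : Set G) ≤ C p
  sym : ∀ p q p' q', Pt V p → Pt V q → p ≠ q → Pt V p' → Pt V q' → p' ≠ q' →
    ∃ n ∈ normalizer (V : Set G), n * p * n⁻¹ = p' ∧ n * q * n⁻¹ = q'
  conjU : ∀ n ∈ normalizer (V : Set G), ∀ p, Pt V p → cj n (U p) = U (n * p * n⁻¹)
  conjC : ∀ n ∈ normalizer (V : Set G), ∀ p, Pt V p → cj n (C p) = C (n * p * n⁻¹)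
  idx : ∀ p, Pt V p →
    (kst (C p) (U p) p).relIndex (C p) = 10 ∨ (kst (C p) (U p) p).relIndex (C p) = 20
  nc : ∀ p q, Pt V p → Pt V q → p ≠ q → ∃ a ∈ U p, ∃ b ∈ U q, a * b ≠ b * a
  solv : ∀ R : Subgroup G, IsPGroup 2 R → R ≠ ⊥ → Group.IsSolvable (normalizer (R : Set G))
  char2 : ∀ p, Pt V p → C p ⊓ centralizer (o2 (C p) : Set G) ≤ o2 (C p)

namespace Tri

variable {V : Subgroup G} {U C : G → Subgroup G}

/-- `K_p = C_G(U_p)` -/
abbrev K (U : G → Subgroup G) (p : G) : Subgroup G := centralizer (U p : Set G)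

/-- `Q_p` -/
abbrev Q (U C : G → Subgroup G) (p : G) : Subgroup G := kst (C p) (U p) p

variable (h : Tri V U C) {p q : G}

include h

theorem pp (hp : Pt V p) : p * p = 1 := h.sqV p hp.1

theorem p_mem (hp : Pt V p) (_ : Pt V q) : p ∈ U q := h.V_le q ‹_› hp.1

theorem commU (hp : Pt V p) {a b : G} (ha : a ∈ U p) (hb : b ∈ U p) : a * b = b * a := by
  have h1 := h.sqU p hp _ (mul_mem ha hb)
  have h2 := inv_eq_self (h.sqU p hp a ha)
  have h3 := inv_eq_self (h.sqU p hp b hb)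
  calc a * b = (a * b)⁻¹ := (inv_eq_self h1).symm
    _ = b⁻¹ * a⁻¹ := by group
    _ = b * a := by rw [h2, h3]

theorem centV_le (hp : Pt V p) : centralizer (V : Set G) ≤ C p := by
  refine le_trans ?_ (h.le_C p hp)
  intro g hg
  have hg' := mem_centralizer_iff.mp hg
  refine ⟨?_, mem_centralizer_singleton_iff.mpr (hg' p hp.1).symm⟩
  refine mem_normalizer_of (fun m hm => ?_) (fun m hm => ?_)
  · rw [← hg' m hm, mul_inv_cancel_right]; exact hm
  · rw [mul_assoc, hg' m hm, inv_mul_cancel_left]; exact hm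

theorem U_le_centV (hp : Pt V p) : U p ≤ centralizer (V : Set G) := fun _ hu =>
  mem_centralizer_iff.mpr fun _ hv => h.commU hp (h.V_le p hp hv) hu

theorem U_le_C (hp : Pt V p) (hq : Pt V q) : U q ≤ C p := (h.U_le_centV hq).trans (h.centV_le hp)

theorem K_le_centV (hp : Pt V p) : K U p ≤ centralizer (V : Set G) :=
  centralizer_le (h.V_le p hp)

theorem K_le_C (hp : Pt V p) (hq : Pt V q) : K U q ≤ C p := (h.K_le_centV hq).trans (h.centV_le hp)

theorem U_le_K (hp : Pt V p) : U p ≤ K U p := fun _ hu =>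
  mem_centralizer_iff.mpr fun _ hv => h.commU hp hv hu

theorem c_comm (hp : Pt V p) {c : G} (hc : c ∈ C p) : c * p = p * c :=
  mem_centralizer_singleton_iff.mp (h.C_le p hp hc)

theorem conj_memU (hp : Pt V p) {c u : G} (hc : c ∈ C p) (hu : u ∈ U p) : c * u * c⁻¹ ∈ U p :=
  conj_mem_of_normalizer (h.C_norm p hp) hc hu

theorem conj_memU' (hp : Pt V p) {c u : G} (hc : c ∈ C p) (hu : u ∈ U p) : c⁻¹ * u * c ∈ U p :=
  conj_mem_of_normalizer' (h.C_norm p hp) hc hu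

theorem mem_Q_iff (hp : Pt V p) {c : G} :
    c ∈ Q U C p ↔ c ∈ C p ∧ ∀ u ∈ U p, c * u * c⁻¹ = u ∨ c * u * c⁻¹ = p * u := by
  have hpp := h.pp hp
  constructor
  · rintro ⟨h0, -, h2, -⟩
    refine ⟨h0, fun u hu => ?_⟩
    rcases (mem_zpowers_iff_of_mul_self hpp).mp (h2 u hu) with e | e
    · left; exact mul_inv_eq_one.mp e
    · right; exact mul_inv_eq_iff_eq_mul.mp e
  · rintro ⟨h0, h1⟩
    have key : ∀ u ∈ U p, c * u * c⁻¹ * u⁻¹ ∈ zpowers p := by
      intro u hu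
      rcases h1 u hu with e | e
      · rw [e, mul_inv_cancel]; exact one_mem _
      · rw [e, mul_inv_cancel_right]; exact mem_zpowers p
    refine ⟨h0, h.c_comm hp h0, key, fun u hu => ?_⟩
    have h3 := key _ (h.conj_memU' hp h0 hu)
    have e : c⁻¹ * u * c * u⁻¹ = (c * (c⁻¹ * u * c) * c⁻¹ * (c⁻¹ * u * c)⁻¹)⁻¹ := by group
    rw [e]
    exact inv_mem h3

theorem K_le_Q (hp : Pt V p) : K U p ≤ Q U C p := fun k hk =>
  (h.mem_Q_iff hp).mpr ⟨h.K_le_C hp hp hk, fun u hu => Or.inl (by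
    rw [← mem_centralizer_iff.mp hk u hu, mul_inv_cancel_right])⟩

theorem C_le_normK (hp : Pt V p) : C p ≤ normalizer (K U p : Set G) := by
  refine le_normalizer_of_forall fun c hc k hk => mem_centralizer_iff.mpr fun u hu => ?_
  have h1 := mem_centralizer_iff.mp hk _ (h.conj_memU' hp hc hu)
  calc u * (c * k * c⁻¹) = c * ((c⁻¹ * u * c) * k) * c⁻¹ := by group
    _ = c * (k * (c⁻¹ * u * c)) * c⁻¹ := by rw [h1]
    _ = c * k * c⁻¹ * u := by group

theorem C_le_normQ (hp : Pt V p) : C p ≤ normalizer (Q U C p : Set G) := by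
  refine le_normalizer_of_forall fun c hc k hk => ?_
  obtain ⟨h0, h1⟩ := (h.mem_Q_iff hp).mp hk
  refine (h.mem_Q_iff hp).mpr ⟨mul_mem (mul_mem hc h0) (inv_mem hc), fun u hu => ?_⟩
  have hcp := h.c_comm hp hc
  have e : c * k * c⁻¹ * u * (c * k * c⁻¹)⁻¹ = c * (k * (c⁻¹ * u * c) * k⁻¹) * c⁻¹ := by group
  rw [e]
  rcases h1 _ (h.conj_memU' hp hc hu) with h2 | h2
  · left; rw [h2]; group
  · right; rw [h2]
    calc c * (p * (c⁻¹ * u * c)) * c⁻¹ = (c * p) * c⁻¹ * u := by group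
      _ = p * u := by rw [hcp, mul_inv_cancel_right]

/-- the third point -/
theorem third (hp : Pt V p) (hq : Pt V q) (hpq : p ≠ q) : Pt V (p * q) ∧ p * q ≠ p ∧ p * q ≠ q := by
  refine ⟨⟨mul_mem hp.1 hq.1, fun e => hpq ?_⟩, fun e => hq.2 (by simpa using e), fun e => hp.2 (by simpa using e)⟩
  rw [mul_eq_one_iff_eq_inv.mp e, inv_eq_self (h.pp hq)]

theorem commV (hp : Pt V p) (hq : Pt V q) : p * q = q * p :=
  h.commU hp (h.V_le p hp hp.1) (h.V_le p hp hq.1)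

/-- conjugation by an element of `N_G(V)` exchanging two points -/
theorem exists_swap (hp : Pt V p) (hq : Pt V q) (hpq : p ≠ q) : ∃ n ∈ normalizer (V : Set G),
    n * p * n⁻¹ = q ∧ n * q * n⁻¹ = p ∧ cj n (U p) = U q ∧ cj n (U q) = U p ∧
      cj n (C p) = C q ∧ cj n (C q) = C p := by
  obtain ⟨n, hn, h1, h2⟩ := h.sym p q q p hp hq hpq hq hp hpq.symm
  refine ⟨n, hn, h1, h2, ?_, ?_, ?_, ?_⟩
  · rw [h.conjU n hn p hp, h1]
  · rw [h.conjU n hn q hq, h2]
  · rw [h.conjC n hn p hp, h1]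
  · rw [h.conjC n hn q hq, h2]

/-- (A2) `U_q ≰ Q_p` -/
theorem exists_t (hp : Pt V p) (hq : Pt V q) (hpq : p ≠ q) : ∃ t ∈ U q, t ∉ Q U C p := by
  by_contra hcon
  push Not at hcon
  obtain ⟨n, hn, h1, h2, h3, h4, -, -⟩ := h.exists_swap hp hq hpq
  obtain ⟨a, ha, b, hb, hab⟩ := h.nc p q hp hq hpq
  apply hab
  have hpp := h.pp hp
  have hqq := h.pp hq
  have e1 : b * a * b⁻¹ = a ∨ b * a * b⁻¹ = p * a := ((h.mem_Q_iff hp).mp (hcon b hb)).2 a ha
  have e2 : a * b * a⁻¹ = b ∨ a * b * a⁻¹ = q * b := by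
    rw [← h4] at ha
    rw [← h3] at hb
    obtain ⟨b', hb', rfl⟩ := ha
    obtain ⟨a', ha', rfl⟩ := hb
    change n * b' * n⁻¹ * (n * a' * n⁻¹) * (n * b' * n⁻¹)⁻¹ = n * a' * n⁻¹ ∨
      n * b' * n⁻¹ * (n * a' * n⁻¹) * (n * b' * n⁻¹)⁻¹ = q * (n * a' * n⁻¹)
    have e : n * b' * n⁻¹ * (n * a' * n⁻¹) * (n * b' * n⁻¹)⁻¹ = n * (b' * a' * b'⁻¹) * n⁻¹ := by group
    rw [e]
    rcases ((h.mem_Q_iff hp).mp (hcon b' hb')).2 a' ha' with h5 | h5
    · left; rw [h5]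
    · right; rw [h5, ← h1]; group
  rcases e1 with e1 | e1
  · calc a * b = (b * a * b⁻¹) * b := by rw [e1]
      _ = b * a := by group
  rcases e2 with e2 | e2
  · calc a * b = (a * b * a⁻¹) * a := by group
      _ = b * a := by rw [e2]
  · exfalso
    -- `b a = p a b`, `a b = q b a`
    have f1 : b * a = p * (a * b) := by
      calc b * a = (b * a * b⁻¹) * b := by group
        _ = p * (a * b) := by rw [e1, mul_assoc]
    have f2 : a * b = q * (b * a) := by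
      calc a * b = (a * b * a⁻¹) * a := by group
        _ = q * (b * a) := by rw [e2, mul_assoc]
    have f3 : p * q = 1 := by
      have : b * a = p * q * (b * a) := by
        calc b * a = p * (a * b) := f1
          _ = p * (q * (b * a)) := by rw [f2]
          _ = p * q * (b * a) := by group
      exact (mul_eq_right.mp this.symm)
    exact (h.third hp hq hpq).1.2 f3

end Tri

end Cfsg.Agent.Classification.TitsFin
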