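import Mathlib

/-!
# Case B of the Tits end: the subgroups `O_p` and `N_p`

(blueprint `P21-FIN-helper531.md`, (B2), and (B3') of helper117.)
`exists_O`: `Q/U` elementary abelian, `K/U` of order 2 the fixed points of `f` (`f ^ 5 = 1`): there is a complement
`O/U` invariant under `C`.
`exists_N`: extension to a subgroup `N` of index 2 in `C`, not containing `k ∈ K - U`.
-/

set_option autoImplicit false

namespace Cfsg.Agent.Classification.TitsFin.TriBO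

universe u

variable {G : Type u} [Group G]

/-- An abelian section as an additive group. -/
theorem exists_quot (A B : Subgroup G) (hc : ∀ x ∈ A, ∀ y ∈ A, x * y * x⁻¹ * y⁻¹ ∈ B) :
    ∃ (M : Type u) (_ : AddCommGroup M) (μ : G → M), (∀ x ∈ A, ∀ y ∈ A, μ (x * y) = μ x + μ y) ∧
      (∀ x ∈ A, (μ x = 0 ↔ x ∈ B)) := by
  classical
  have hn : (B.subgroupOf A).Normal := by
    refine ⟨fun b hb a => ?_⟩
    rw [Subgroup.mem_subgroupOf] at hb ⊢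
    have h1 := hc a a.2 b b.2
    have h2 := mul_mem h1 hb
    have e : (a : G) * b * (a : G)⁻¹ * (b : G)⁻¹ * b = a * b * (a : G)⁻¹ := by group
    rw [e] at h2
    exact h2
  let inst : CommGroup (A ⧸ B.subgroupOf A) :=
    { (inferInstance : Group (A ⧸ B.subgroupOf A)) with
      mul_comm := by
        intro x y
        induction x using QuotientGroup.induction_on with | H x =>
        induction y using QuotientGroup.induction_on with | H y =>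
        rw [← QuotientGroup.mk_mul, ← QuotientGroup.mk_mul, QuotientGroup.eq, Subgroup.mem_subgroupOf]
        have h1 := hc (y : G)⁻¹ (inv_mem y.2) (x : G)⁻¹ (inv_mem x.2)
        have e : ((x * y)⁻¹ * (y * x) : A) = (y : G)⁻¹ * (x : G)⁻¹ * (y : G)⁻¹⁻¹ * (x : G)⁻¹⁻¹ := by
          push_cast
          group
        rw [e]
        exact h1 }
  refine ⟨Additive (A ⧸ B.subgroupOf A), inferInstance,
    fun x => if h : x ∈ A then Additive.ofMul (QuotientGroup.mk ⟨x, h⟩) else 0, ?_, ?_⟩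
  · intro x hx y hy
    beta_reduce
    rw [dif_pos hx, dif_pos hy, dif_pos (mul_mem hx hy)]
    rfl
  · intro x hx
    beta_reduce
    rw [dif_pos hx]
    change (QuotientGroup.mk (⟨x, hx⟩ : A) : A ⧸ B.subgroupOf A) = 1 ↔ _
    rw [QuotientGroup.eq_one_iff, Subgroup.mem_subgroupOf]

/-- if all squares of `Q` are in the normal subgroup `U`, then so are all commutators -/
theorem comm_mem {Q U : Subgroup G} (hsq : ∀ x ∈ Q, x * x ∈ U)
    (hU : ∀ c ∈ Q, ∀ u ∈ U, c * u * c⁻¹ ∈ U) {x y : G} (hx : x ∈ Q) (hy : y ∈ Q) :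
    x * y * x⁻¹ * y⁻¹ ∈ U := by
  have h1 := hsq _ (mul_mem hx hy)
  have h2 := hU _ (inv_mem hy) _ (hsq _ (inv_mem hx))
  have h3 := hsq _ (inv_mem hy)
  have h4 := mul_mem (mul_mem h1 h2) h3
  have e : x * y * (x * y) * (y⁻¹ * (x⁻¹ * x⁻¹) * y⁻¹⁻¹) * (y⁻¹ * y⁻¹) = x * y * x⁻¹ * y⁻¹ := by group
  rwa [e] at h4

theorem exists_O {U K Q C : Subgroup G} {f k : G} (hUK : U ≤ K) (hKQ : K ≤ Q) (hQC : Q ≤ C)
    (hsq : ∀ x ∈ Q, x * x ∈ U) (hU : ∀ c ∈ C, ∀ u ∈ U, c * u * c⁻¹ ∈ U)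
    (hK : ∀ c ∈ C, ∀ u ∈ K, c * u * c⁻¹ ∈ K) (hQ : ∀ c ∈ C, ∀ u ∈ Q, c * u * c⁻¹ ∈ Q)
    (fC : f ∈ C) (f5 : f ^ 5 = 1) (hk : k ∈ K) (hkk : ∀ l ∈ K, l ∈ U ∨ l * k ∈ U)
    (fix : ∀ x ∈ Q, f * x * f⁻¹ * x⁻¹ ∈ U → x ∈ K)
    (hm : ∀ c ∈ C, ∃ m : ℕ, ∃ y ∈ Q, c⁻¹ * f * c = f ^ m * y) :
    ∃ O : Subgroup G, U ≤ O ∧ O ≤ Q ∧ (∀ x ∈ O, x ∈ K → x ∈ U) ∧ (∀ x ∈ Q, x ∈ O ∨ x * k ∈ O) ∧
      ∀ c ∈ C, ∀ x ∈ O, c * x * c⁻¹ ∈ O := by
  classical
  have hUQ : U ≤ Q := hUK.trans hKQ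
  obtain ⟨B, instB, β, hβ, hβ0⟩ := exists_quot Q U
    (fun x hx y hy => comm_mem hsq (fun c hc => hU c (hQC hc)) hx hy)
  have fiQ : ∀ (i : ℕ), ∀ x ∈ Q, f ^ i * x * (f ^ i)⁻¹ ∈ Q := fun i x hx => hQ _ (pow_mem fC i) x hx
  have fiU : ∀ (i : ℕ), ∀ x ∈ U, f ^ i * x * (f ^ i)⁻¹ ∈ U := fun i x hx => hU _ (pow_mem fC i) x hx
  have hβeq : ∀ x ∈ Q, ∀ y ∈ Q, (β x = β y ↔ x * y⁻¹ ∈ U) := by
    intro x hx y hy
    have h1 : β x = β (x * y⁻¹) + β y := by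
      rw [← hβ _ (mul_mem hx (inv_mem hy)) _ hy, inv_mul_cancel_right]
    rw [← hβ0 _ (mul_mem hx (inv_mem hy)), h1]
    exact add_eq_right
  have h2β : ∀ x ∈ Q, β x + β x = 0 := fun x hx => by
    rw [← hβ x hx x hx, hβ0 _ (mul_mem hx hx)]
    exact hsq x hx
  set z : G → G := fun x => x * (f ^ 1 * x * (f ^ 1)⁻¹) * (f ^ 2 * x * (f ^ 2)⁻¹) *
    (f ^ 3 * x * (f ^ 3)⁻¹) * (f ^ 4 * x * (f ^ 4)⁻¹) with hz
  have hzQ : ∀ x ∈ Q, z x ∈ Q := fun x hx =>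
    mul_mem (mul_mem (mul_mem (mul_mem hx (fiQ 1 x hx)) (fiQ 2 x hx)) (fiQ 3 x hx)) (fiQ 4 x hx)
  have hβz : ∀ x ∈ Q, β (z x) = β x + β (f ^ 1 * x * (f ^ 1)⁻¹) + β (f ^ 2 * x * (f ^ 2)⁻¹) +
      β (f ^ 3 * x * (f ^ 3)⁻¹) + β (f ^ 4 * x * (f ^ 4)⁻¹) := by
    intro x hx
    have h1 := fiQ 1 x hx
    have h2 := fiQ 2 x hx
    have h3 := fiQ 3 x hx
    have h4 := fiQ 4 x hx
    rw [hz]
    change β (x * (f ^ 1 * x * (f ^ 1)⁻¹) * (f ^ 2 * x * (f ^ 2)⁻¹) *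
      (f ^ 3 * x * (f ^ 3)⁻¹) * (f ^ 4 * x * (f ^ 4)⁻¹)) = _
    rw [hβ _ (mul_mem (mul_mem (mul_mem hx h1) h2) h3) _ h4, hβ _ (mul_mem (mul_mem hx h1) h2) _ h3,
      hβ _ (mul_mem hx h1) _ h2, hβ _ hx _ h1]
  have hconj : ∀ (i : ℕ), ∀ x ∈ Q, ∀ y ∈ Q, β (f ^ i * (x * y) * (f ^ i)⁻¹) =
      β (f ^ i * x * (f ^ i)⁻¹) + β (f ^ i * y * (f ^ i)⁻¹) := by
    intro i x hx y hy
    rw [← hβ _ (fiQ i x hx) _ (fiQ i y hy)]
    congr 1
    group
  have hzmul : ∀ x ∈ Q, ∀ y ∈ Q, β (z (x * y)) = β (z x) + β (z y) := by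
    intro x hx y hy
    rw [hβz _ (mul_mem hx hy), hβz _ hx, hβz _ hy, hβ _ hx _ hy, hconj 1 _ hx _ hy, hconj 2 _ hx _ hy,
      hconj 3 _ hx _ hy, hconj 4 _ hx _ hy]
    abel
  have hzU : ∀ x ∈ U, β (z x) = 0 := by
    intro x hx
    rw [hβ0 _ (hzQ x (hUQ hx))]
    exact mul_mem (mul_mem (mul_mem (mul_mem hx (fiU 1 x hx)) (fiU 2 x hx)) (fiU 3 x hx)) (fiU 4 x hx)
  -- `z x` is in `K`
  have hzK : ∀ x ∈ Q, z x ∈ K := by
    intro x hx
    apply fix _ (hzQ x hx)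
    rw [← hβeq _ (hQ f fC _ (hzQ x hx)) _ (hzQ x hx)]
    have e5 : f ^ 5 * x * (f ^ 5)⁻¹ = x := by rw [f5]; group
    have e : f * z x * f⁻¹ = (f ^ 1 * x * (f ^ 1)⁻¹) * (f ^ 2 * x * (f ^ 2)⁻¹) *
        (f ^ 3 * x * (f ^ 3)⁻¹) * (f ^ 4 * x * (f ^ 4)⁻¹) * x := by
      have e6 : f * (x * (f ^ 1 * x * (f ^ 1)⁻¹) * (f ^ 2 * x * (f ^ 2)⁻¹) *
        (f ^ 3 * x * (f ^ 3)⁻¹) * (f ^ 4 * x * (f ^ 4)⁻¹)) * f⁻¹ = (f ^ 1 * x * (f ^ 1)⁻¹) *
        (f ^ 2 * x * (f ^ 2)⁻¹) * (f ^ 3 * x * (f ^ 3)⁻¹) * (f ^ 4 * x * (f ^ 4)⁻¹) *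
        (f ^ 5 * x * (f ^ 5)⁻¹) := by group
      rw [e5] at e6
      exact e6
    have h1 := fiQ 1 x hx
    have h2 := fiQ 2 x hx
    have h3 := fiQ 3 x hx
    have h4 := fiQ 4 x hx
    rw [e, hβz _ hx, hβ _ (mul_mem (mul_mem (mul_mem h1 h2) h3) h4) _ hx,
      hβ _ (mul_mem (mul_mem h1 h2) h3) _ h4, hβ _ (mul_mem h1 h2) _ h3, hβ _ h1 _ h2]
    abel
  let O : Subgroup G :=
    { carrier := {x | x ∈ Q ∧ β (z x) = 0}
      mul_mem' := by
        rintro x y ⟨hx, hx0⟩ ⟨hy, hy0⟩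
        exact ⟨mul_mem hx hy, by rw [hzmul x hx y hy, hx0, hy0, add_zero]⟩
      one_mem' := ⟨one_mem _, hzU 1 (one_mem _)⟩
      inv_mem' := by
        rintro x ⟨hx, hx0⟩
        refine ⟨inv_mem hx, ?_⟩
        have h1 := hzmul x hx _ (inv_mem hx)
        rw [mul_inv_cancel, hzU 1 (one_mem _), hx0, zero_add] at h1
        exact h1.symm }
  have hO : ∀ x, x ∈ O ↔ x ∈ Q ∧ β (z x) = 0 := fun x => Iff.rfl
  have hUO : U ≤ O := fun u hu => ⟨hUQ hu, hzU u hu⟩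
  -- on `K`
  have hzk : ∀ l ∈ K, β (z l) = β l := by
    intro l hl
    have h1 : ∀ i : ℕ, β (f ^ i * l * (f ^ i)⁻¹) = β l := by
      intro i
      have hl' := hK _ (pow_mem fC i) l hl
      rw [hβeq _ (hKQ hl') _ (hKQ hl)]
      rcases hkk l hl with h2 | h2
      · exact mul_mem (fiU i l h2) (inv_mem h2)
      · rcases hkk _ hl' with h3 | h3
        · have h4 := hU _ (inv_mem (pow_mem fC i)) _ h3
          have e : (f ^ i)⁻¹ * (f ^ i * l * (f ^ i)⁻¹) * (f ^ i)⁻¹⁻¹ = l := by group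
          rw [e] at h4
          exact mul_mem h3 (inv_mem h4)
        · have h4 := mul_mem h3 (inv_mem h2)
          have e : f ^ i * l * (f ^ i)⁻¹ * k * (l * k)⁻¹ = f ^ i * l * (f ^ i)⁻¹ * l⁻¹ := by group
          rwa [e] at h4
    rw [hβz l (hKQ hl), h1 1, h1 2, h1 3, h1 4, h2β l (hKQ hl), zero_add, h2β l (hKQ hl), zero_add]
  have kQ : k ∈ Q := hKQ hk
  -- cases
  have hcase : ∀ x ∈ Q, β (z x) = 0 ∨ β (z x) = β k := by
    intro x hx
    rcases hkk _ (hzK x hx) with h1 | h1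
    · left; rwa [hβ0 _ (hzQ x hx)]
    · right
      have h3 : β (z x) + β k = 0 := by rw [← hβ _ (hzQ x hx) _ kQ, hβ0 _ (mul_mem (hzQ x hx) kQ)]; exact h1
      have h4 := h2β k kQ
      exact add_right_cancel (h3.trans h4.symm)
  -- maximality
  have hmax : ∀ O' : Subgroup G, O' ≤ Q → (∀ x ∈ O', x ∈ K → x ∈ U) →
      (∀ x ∈ O', ∀ i : ℕ, f ^ i * x * (f ^ i)⁻¹ ∈ O') → O' ≤ O := by
    intro O' h1 h2 h3 x hx
    refine ⟨h1 hx, ?_⟩
    rw [hβ0 _ (hzQ x (h1 hx))]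
    exact h2 _ (mul_mem (mul_mem (mul_mem (mul_mem hx (h3 x hx 1)) (h3 x hx 2)) (h3 x hx 3)) (h3 x hx 4))
      (hzK x (h1 hx))
  have hOK : ∀ x ∈ O, x ∈ K → x ∈ U := by
    rintro x ⟨hx, hx0⟩ hxK
    rw [hzk x hxK, hβ0 x hx] at hx0
    exact hx0
  -- `f` normalises `O`
  have hOf1 : ∀ x ∈ O, f * x * f⁻¹ ∈ O := by
    rintro x ⟨hx, hx0⟩
    have h1 : f * x * f⁻¹ ∈ Q := hQ f fC x hx
    refine ⟨h1, ?_⟩
    have e : β (z (f * x * f⁻¹)) = β (f * z x * f⁻¹) := by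
      congr 1
      rw [hz]
      beta_reduce
      group
    have h2 := hU f fC _ ((hβ0 _ (hzQ x hx)).mp hx0)
    rw [e, hβ0 _ (hQ f fC _ (hzQ x hx))]
    exact h2
  have hOf : ∀ (i : ℕ), ∀ x ∈ O, f ^ i * x * (f ^ i)⁻¹ ∈ O := by
    intro i
    induction i with
    | zero => intro x hx; simpa using hx
    | succ n ih =>
      intro x hx
      have h1 := ih _ (hOf1 x hx)
      have e : f ^ n * (f * x * f⁻¹) * (f ^ n)⁻¹ = f ^ (n + 1) * x * (f ^ (n + 1))⁻¹ := by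
        rw [pow_succ]; group
      rwa [e] at h1
  refine ⟨O, hUO, fun x hx => hx.1, hOK, ?_, ?_⟩
  · intro x hx
    rcases hcase x hx with h1 | h1
    · exact Or.inl ⟨hx, h1⟩
    · right
      refine ⟨mul_mem hx kQ, ?_⟩
      rw [hzmul x hx k kQ, h1, hzk k hk]
      exact h2β k kQ
  · intro c hc x hx
    have h1 : O.map (MulAut.conj c).toMonoidHom ≤ O := by
      apply hmax
      · rintro _ ⟨y, hy, rfl⟩
        exact hQ c hc y hy.1
      · rintro _ ⟨y, hy, rfl⟩ hyK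
        change c * y * c⁻¹ ∈ K at hyK
        change c * y * c⁻¹ ∈ U
        apply hU c hc
        apply hOK y hy
        have h2 := hK _ (inv_mem hc) _ hyK
        have e : c⁻¹ * (c * y * c⁻¹) * c⁻¹⁻¹ = y := by group
        rwa [e] at h2
      · -- `f`-invariant
        have hstep : ∀ x ∈ O.map (MulAut.conj c).toMonoidHom,
            f * x * f⁻¹ ∈ O.map (MulAut.conj c).toMonoidHom := by
          rintro _ ⟨y, hy, rfl⟩
          obtain ⟨m, y0, hy0, hm0⟩ := hm c hc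
          refine ⟨f ^ m * (y0 * y * y0⁻¹) * (f ^ m)⁻¹, hOf m _ ?_, ?_⟩
          · have h2 := comm_mem hsq (fun c hc => hU c (hQC hc)) hy0 hy.1
            have h3 := mul_mem (hUO h2) hy
            have e : y0 * y * y0⁻¹ * y⁻¹ * y = y0 * y * y0⁻¹ := by group
            rwa [e] at h3
          · change c * (f ^ m * (y0 * y * y0⁻¹) * (f ^ m)⁻¹) * c⁻¹ = f * (c * y * c⁻¹) * f⁻¹
            have e : f ^ m * (y0 * y * y0⁻¹) * (f ^ m)⁻¹ = (f ^ m * y0) * y * (f ^ m * y0)⁻¹ := by group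
            rw [e, ← hm0]
            group
        intro x hx i
        induction i generalizing x with
        | zero => simpa using hx
        | succ n ih =>
          have h1 := ih _ (hstep x hx)
          have e : f ^ n * (f * x * f⁻¹) * (f ^ n)⁻¹ = f ^ (n + 1) * x * (f ^ (n + 1))⁻¹ := by
            rw [pow_succ]; group
          rwa [e] at h1
    exact h1 ⟨x, hx, rfl⟩

/-- extension of a subgroup by a normalising element of finite order -/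
theorem exists_ext {A C : Subgroup G} {s : G} (hAC : A ≤ C) (sC : s ∈ C) {n : ℕ} (hn : 0 < n) (hs : s ^ n ∈ A)
    (hA : ∀ a ∈ A, s * a * s⁻¹ ∈ A) :
    ∃ B : Subgroup G, B ≤ C ∧ A ≤ B ∧ s ∈ B ∧ ∀ c, c ∈ B ↔ c ∈ C ∧ ∃ i : ℕ, s ^ i * c ∈ A := by
  have hAi : ∀ (i : ℕ), ∀ a ∈ A, s ^ i * a * (s ^ i)⁻¹ ∈ A := by
    intro i
    induction i with
    | zero => intro a ha; simpa using ha
    | succ n ih =>
      intro a ha
      have h1 := ih _ (hA a ha)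
      have e : s ^ n * (s * a * s⁻¹) * (s ^ n)⁻¹ = s ^ (n + 1) * a * (s ^ (n + 1))⁻¹ := by
        rw [pow_succ]; group
      rwa [e] at h1
  let B : Subgroup G :=
    { carrier := {c | c ∈ C ∧ ∃ i : ℕ, s ^ i * c ∈ A}
      mul_mem' := by
        rintro c d ⟨hc, i, hi⟩ ⟨hd, j, hj⟩
        refine ⟨mul_mem hc hd, j + i, ?_⟩
        have h1 := mul_mem (hAi j _ hi) hj
        have e : s ^ j * (s ^ i * c) * (s ^ j)⁻¹ * (s ^ j * d) = s ^ (j + i) * (c * d) := by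
          rw [pow_add]; group
        rwa [e] at h1
      one_mem' := ⟨one_mem _, 0, by simp⟩
      inv_mem' := by
        rintro c ⟨hc, i, hi⟩
        refine ⟨inv_mem hc, (n - 1) * i, ?_⟩
        have h1 := hAi ((n - 1) * i) _ (inv_mem hi)
        have h2 : s ^ (n * i) ∈ A := by rw [pow_mul]; exact pow_mem hs i
        have h3 := mul_mem h1 h2
        have e0 : s ^ (n * i) = s ^ ((n - 1) * i) * s ^ i := by
          rw [← pow_add]
          congr 1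
          obtain ⟨m, rfl⟩ : ∃ m, n = m + 1 := ⟨n - 1, by omega⟩
          rw [Nat.add_sub_cancel]
          ring
        have e : s ^ ((n - 1) * i) * (s ^ i * c)⁻¹ * (s ^ ((n - 1) * i))⁻¹ * s ^ (n * i) =
            s ^ ((n - 1) * i) * c⁻¹ := by
          rw [e0]; group
        rwa [e] at h3 }
  refine ⟨B, fun c hc => hc.1, fun a ha => ⟨hAC ha, 0, by simpa using ha⟩, ⟨sC, n - 1, ?_⟩, fun c => Iff.rfl⟩
  rw [← pow_succ, Nat.sub_add_cancel hn]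
  exact hs

theorem exists_N {U O Q C : Subgroup G} {f s k : G} (hUO : U ≤ O) (hOQ : O ≤ Q) (hQC : Q ≤ C)
    (hsq : ∀ x ∈ Q, x * x ∈ U) (hO : ∀ c ∈ C, ∀ x ∈ O, c * x * c⁻¹ ∈ O)
    (hQ : ∀ c ∈ C, ∀ x ∈ Q, c * x * c⁻¹ ∈ Q)
    (fC : f ∈ C) (f5 : f ^ 5 = 1) (hfQ : f ∉ Q)
    (hm : ∀ c ∈ C, ∃ m : ℕ, ∃ y ∈ Q, c * f * c⁻¹ = f ^ m * y)
    (sC : s ∈ C) (s4 : s ^ 4 = 1) (s2 : ∀ j : ℕ, f ^ j * (s * s) ∉ Q)
    (cover : ∀ c ∈ C, ∃ i j : ℕ, f ^ j * s ^ i * c ∈ Q)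
    (kQ : k ∈ Q) (hkO : k ∉ O) (hkk : ∀ x ∈ Q, x ∈ O ∨ x * k ∈ O) :
    ∃ N : Subgroup G, N ≤ C ∧ O ≤ N ∧ f ∈ N ∧ s ∈ N ∧ k ∉ N ∧ ∀ c ∈ C, c ∈ N ∨ c * k ∈ N := by
  have hOC : O ≤ C := hOQ.trans hQC
  -- `Q / O` is central
  have claim0 : ∀ c ∈ C, ∀ x ∈ Q, c * x * c⁻¹ * x⁻¹ ∈ O := by
    intro c hc x hx
    rcases hkk x hx with h1 | h1
    · exact mul_mem (hO c hc x h1) (inv_mem h1)
    · rcases hkk _ (hQ c hc x hx) with h2 | h2
      · have h3 := hO _ (inv_mem hc) _ h2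
        have e : c⁻¹ * (c * x * c⁻¹) * c⁻¹⁻¹ = x := by group
        rw [e] at h3
        exact mul_mem h2 (inv_mem h3)
      · have h3 := mul_mem h2 (inv_mem h1)
        have e : c * x * c⁻¹ * k * (x * k)⁻¹ = c * x * c⁻¹ * x⁻¹ := by group
        rwa [e] at h3
  have fi : ∀ i : ℕ, f ^ i ∈ C := fun i => pow_mem fC i
  -- powers of `f ^ m * y`
  have hpow : ∀ (m n : ℕ), ∀ y ∈ Q, ∃ y' ∈ Q, (f ^ m * y) ^ n = f ^ (m * n) * y' := by
    intro m n y hy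
    induction n with
    | zero => exact ⟨1, one_mem _, by simp⟩
    | succ n ih =>
      obtain ⟨y', hy', h1⟩ := ih
      refine ⟨(f ^ m)⁻¹ * y' * (f ^ m) * y, mul_mem ?_ hy, ?_⟩
      · have h2 := hQ _ (inv_mem (fi m)) _ hy'
        rwa [inv_inv] at h2
      · rw [pow_succ, h1, mul_add, mul_one, pow_add]
        group
  have claim1 : ∀ c ∈ C, ∃ m : ℕ, ∃ y ∈ O, c * f * c⁻¹ = f ^ m * y := by
    intro c hc
    obtain ⟨m, y, hy, h1⟩ := hm c hc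
    obtain ⟨y', hy', h2⟩ := hpow m 3 y hy
    refine ⟨m * 3 + m * 3, (f ^ (m * 3))⁻¹ * y' * (f ^ (m * 3)) * y'⁻¹ * (y' * y'), ?_, ?_⟩
    · have h3 := claim0 _ (inv_mem (fi (m * 3))) _ hy'
      rw [inv_inv] at h3
      exact mul_mem h3 (hUO (hsq _ hy'))
    · have e : c * f * c⁻¹ = (c * f * c⁻¹) ^ 3 * (c * f * c⁻¹) ^ 3 := by
        rw [← pow_add, conj_pow]
        have : f ^ (3 + 3) = f := by
          rw [show 3 + 3 = 5 + 1 from rfl, pow_succ, f5, one_mul]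
        rw [this]
      rw [e, h1, h2, pow_add]
      group
  obtain ⟨A, hAC, hOA, fA, hA⟩ := exists_ext (A := O) (C := C) (s := f) hOC fC (n := 5) (by norm_num)
    (by rw [f5]; exact one_mem _) (hO f fC)
  have hAs : ∀ a ∈ A, s * a * s⁻¹ ∈ A := by
    intro a ha
    obtain ⟨haC, j, hj⟩ := (hA a).mp ha
    have h1 : s * f * s⁻¹ ∈ A := by
      obtain ⟨m, y, hy, h1⟩ := claim1 s sC
      rw [h1]
      exact mul_mem (pow_mem fA m) (hOA hy)
    have h2 := mul_mem (inv_mem (pow_mem h1 j)) (hOA (hO s sC _ hj))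
    have e : ((s * f * s⁻¹) ^ j)⁻¹ * (s * (f ^ j * a) * s⁻¹) = s * a * s⁻¹ := by
      rw [conj_pow]; group
    rwa [e] at h2
  obtain ⟨N, hNC, hAN, sN, hN⟩ := exists_ext (A := A) (C := C) (s := s) hAC sC (n := 4) (by norm_num)
    (by rw [s4]; exact one_mem _) hAs
  refine ⟨N, hNC, hOA.trans hAN, hAN fA, sN, ?_, ?_⟩
  · -- `k ∉ N`
    intro hk
    obtain ⟨-, i, hi⟩ := (hN k).mp hk
    obtain ⟨-, j, hj⟩ := (hA _).mp hi
    have hsqQ : ∀ (j : ℕ) (g : G), f ^ j * g ∈ Q → f ^ (j + j) * (g * g) ∈ Q := by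
      intro j g hg
      have h1 := mul_mem (hQ _ (fi j) _ hg) hg
      have e : f ^ j * (f ^ j * g) * (f ^ j)⁻¹ * (f ^ j * g) = f ^ (j + j) * (g * g) := by
        rw [pow_add]; group
      rwa [e] at h1
    have h1 : f ^ j * s ^ i ∈ Q := by
      have h2 := mul_mem (hOQ hj) (inv_mem kQ)
      have e : f ^ j * (s ^ i * k) * k⁻¹ = f ^ j * s ^ i := by group
      rwa [e] at h2
    have hi4 : s ^ i = s ^ (i % 4) := by
      conv_lhs => rw [← Nat.div_add_mod i 4, pow_add, pow_mul, s4, one_pow, one_mul]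
    have hi4' : i % 4 < 4 := Nat.mod_lt _ (by norm_num)
    rw [hi4] at h1
    generalize i % 4 = r at hi4' hi4 h1
    interval_cases r
    · -- `f ^ j ∈ Q`
      rw [pow_zero, mul_one] at h1
      have hj5 : f ^ j = f ^ (j % 5) := by
        conv_lhs => rw [← Nat.div_add_mod j 5, pow_add, pow_mul, f5, one_pow, one_mul]
      have hj5' : j % 5 < 5 := Nat.mod_lt _ (by norm_num)
      have h0 : f ^ j = 1 := by
        rw [hj5] at h1 ⊢
        generalize j % 5 = r at hj5' h1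
        interval_cases r
        · rw [pow_zero]
        · exact absurd (by simpa using h1) hfQ
        · exfalso
          apply hfQ
          have h2 := pow_mem h1 3
          have e : (f ^ 2) ^ 3 = f := by
            rw [← pow_mul, show 2 * 3 = 5 + 1 from rfl, pow_succ, f5, one_mul]
          rwa [e] at h2
        · exfalso
          apply hfQ
          have h2 := pow_mem h1 2
          have e : (f ^ 3) ^ 2 = f := by
            rw [← pow_mul, show 3 * 2 = 5 + 1 from rfl, pow_succ, f5, one_mul]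
          rwa [e] at h2
        · exfalso
          apply hfQ
          have h2 := pow_mem h1 4
          have e : (f ^ 4) ^ 4 = f := by
            rw [← pow_mul, show 4 * 4 = 5 * 3 + 1 from rfl, pow_succ, pow_mul, f5, one_pow, one_mul]
          rwa [e] at h2
      apply hkO
      rw [h0, hi4, pow_zero, one_mul, one_mul] at hj
      exact hj
    · rw [pow_one] at h1
      exact s2 _ (hsqQ _ _ h1)
    · rw [pow_two] at h1
      exact s2 _ h1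
    · have h2 := hsqQ _ _ h1
      have e : s ^ 3 * s ^ 3 = s * s := by
        rw [← pow_add, show 3 + 3 = 4 + 2 from rfl, pow_add, s4, one_mul, pow_two]
      rw [e] at h2
      exact s2 _ h2
  · intro c hc
    obtain ⟨i, j, hij⟩ := cover c hc
    rcases hkk _ hij with h1 | h1
    · left
      refine (hN c).mpr ⟨hc, i, (hA _).mpr ⟨mul_mem (pow_mem sC i) hc, j, ?_⟩⟩
      rwa [← mul_assoc]
    · right
      refine (hN _).mpr ⟨mul_mem hc (hQC kQ), i, (hA _).mpr ⟨mul_mem (pow_mem sC i) (mul_mem hc (hQC kQ)), j, ?_⟩⟩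
      have e : f ^ j * (s ^ i * (c * k)) = f ^ j * s ^ i * c * k := by group
      rwa [e]

end Cfsg.Agent.Classification.TitsFin.TriBO
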