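import Mathlib

/-!
# A group of transvections with one centre acting on an elementary abelian 2-group

`N` acts on the elementary abelian 2-group `U` with commutators in `{1, p}`. Then `C_U(C_N(B)) = B` for every
`C_U(N) ≤ B ≤ U`, and `|N : C_N(U)| = |U : C_U(N)|`.
-/

set_option autoImplicit false
set_option linter.unusedSectionVars false
set_option linter.unusedVariables false

namespace Cfsg.Agent.Classification.TitsFin.TriPair

open Subgroup

variable {G : Type*} [Group G]

/-- `N` acts on the elementary abelian group `U` with commutators in `{1, p}` -/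
structure Pairing (N U : Subgroup G) (p : G) : Prop where
  pp : p * p = 1
  pU : p ∈ U
  comm : ∀ u ∈ U, ∀ v ∈ U, u * v = v * u
  sq : ∀ u ∈ U, u * u = 1
  Np : ∀ n ∈ N, n * p = p * n
  act : ∀ n ∈ N, ∀ u ∈ U, n * u * n⁻¹ = u ∨ n * u * n⁻¹ = p * u

theorem conj_eq_iff {n u : G} : n * u * n⁻¹ = u ↔ n * u = u * n := mul_inv_eq_iff_eq_mul

/-- an element and a subgroup of index two -/
theorem relIndex_two {H K : Subgroup G} {a : G} (ha : a ∈ K) (ha' : a ∉ H)
    (h : ∀ k ∈ K, k ∈ H ∨ k * a ∈ H) : H.relIndex K = 2 := by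
  rw [Subgroup.relIndex, Subgroup.index_eq_two_iff]
  refine ⟨⟨a, ha⟩, fun b => ?_⟩
  rw [Subgroup.mem_subgroupOf, Subgroup.mem_subgroupOf]
  change Xor ((b : G) * a ∈ H) ((b : G) ∈ H)
  rcases h b b.2 with h1 | h1
  · right
    refine ⟨h1, fun h2 => ha' ?_⟩
    have := mul_mem (inv_mem h1) h2
    rwa [inv_mul_cancel_left] at this
  · left
    refine ⟨h1, fun h2 => ha' ?_⟩
    have := mul_mem (inv_mem h2) h1
    rwa [inv_mul_cancel_left] at this

theorem card_of_relIndex_two {H K : Subgroup G} (hHK : H ≤ K) (h : H.relIndex K = 2) :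
    Nat.card K = 2 * Nat.card H := by
  have h1 := Subgroup.relIndex_mul_relIndex ⊥ H K bot_le hHK
  rw [relIndex_bot_left, relIndex_bot_left, h] at h1
  rw [← h1, mul_comm]

namespace Pairing

variable {N U : Subgroup G} {p : G} (h : Pairing N U p)

include h

theorem mono {M : Subgroup G} (hM : M ≤ N) : Pairing M U p where
  pp := h.pp
  pU := h.pU
  comm := h.comm
  sq := h.sq
  Np := fun n hn => h.Np n (hM hn)
  act := fun n hn => h.act n (hM hn)

theorem mul_of {n m b : G} (hn : n ∈ N) (h1 : n * b * n⁻¹ = p * b)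
    (h2 : m * b * m⁻¹ = p * b) : m⁻¹ * n * b = b * (m⁻¹ * n) := by
  rw [← conj_eq_iff]
  have e2 : m⁻¹ * (p * b) * m = b := by rw [← h2]; group
  calc m⁻¹ * n * b * (m⁻¹ * n)⁻¹ = m⁻¹ * (n * b * n⁻¹) * m := by group
    _ = b := by rw [h1, e2]

/-- the double centraliser property -/
theorem dc_step {B : Subgroup G} (hB : ∀ e ∈ U, (∀ n ∈ N, (∀ b ∈ B, n * b = b * n) → n * e = e * n) → e ∈ B)
    {b : G} (hb : b ∈ U) : ∀ e ∈ U,
      (∀ n ∈ N, (∀ b' ∈ B ⊔ zpowers b, n * b' = b' * n) → n * e = e * n) → e ∈ B ⊔ zpowers b := by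
  intro e he hcon
  have hsup : ∀ n : G, (∀ b' ∈ B, n * b' = b' * n) → n * b = b * n →
      ∀ b' ∈ B ⊔ zpowers b, n * b' = b' * n := by
    intro n h1 h2 b' hb'
    have h3 : B ⊔ zpowers b ≤ centralizer ({n} : Set G) := by
      refine sup_le (fun x hx => mem_centralizer_singleton_iff.mpr (h1 x hx).symm) ?_
      rw [zpowers_le]
      exact mem_centralizer_singleton_iff.mpr h2.symm
    exact (mem_centralizer_singleton_iff.mp (h3 hb')).symm
  have hbB : b ∈ B ⊔ zpowers b := le_sup_right (α := Subgroup G) (mem_zpowers b)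
  by_cases hall : ∀ n ∈ N, (∀ b' ∈ B, n * b' = b' * n) → n * b = b * n
  · exact le_sup_left (α := Subgroup G) (hB e he fun n hn h1 => hcon n hn (hsup n h1 (hall n hn h1)))
  push Not at hall
  obtain ⟨m, hm, hmB, hmb⟩ := hall
  have hmb' : m * b * m⁻¹ = p * b := by
    rcases h.act m hm b hb with h1 | h1
    · exact absurd (conj_eq_iff.mp h1) hmb
    · exact h1
  -- every `n ∈ C_N(B)` commutes with `b` or `m⁻¹ n` does
  have key : ∀ n ∈ N, (∀ b' ∈ B, n * b' = b' * n) → n * b = b * n ∨ m⁻¹ * n * b = b * (m⁻¹ * n) := by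
    intro n hn h1
    rcases h.act n hn b hb with h2 | h2
    · left; exact conj_eq_iff.mp h2
    · right; exact h.mul_of hn h2 hmb'
  have key2 : ∀ n ∈ N, (∀ b' ∈ B, n * b' = b' * n) → n * b = b * n → n * e = e * n :=
    fun n hn h1 h2 => hcon n hn (hsup n h1 h2)
  have hinv : ∀ n : G, (∀ b' ∈ B, n * b' = b' * n) → ∀ b' ∈ B, m⁻¹ * n * b' = b' * (m⁻¹ * n) := by
    intro n h1 b' hb'
    have c1 : Commute m b' := hmB b' hb'
    have c2 : Commute n b' := h1 b' hb'
    exact (c1.inv_left.mul_left c2).eq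
  rcases h.act m hm e he with h1 | h1
  · -- `m` commutes with `e`
    have h1' := conj_eq_iff.mp h1
    refine le_sup_left (α := Subgroup G) (hB e he fun n hn h2 => ?_)
    rcases key n hn h2 with h3 | h3
    · exact key2 n hn h2 h3
    · have h4 := key2 (m⁻¹ * n) (mul_mem (inv_mem hm) hn) (hinv n h2) h3
      have c1 : Commute m e := h1'
      have c2 : Commute (m⁻¹ * n) e := h4
      have := (c1.mul_left c2).eq
      rwa [mul_inv_cancel_left] at this
  · -- `m` commutes with `e b`
    have h2 : m * (e * b) * m⁻¹ = e * b := by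
      calc m * (e * b) * m⁻¹ = (m * e * m⁻¹) * (m * b * m⁻¹) := by group
        _ = (p * e) * (p * b) := by rw [h1, hmb']
        _ = (p * e) * (b * p) := by rw [h.comm p h.pU b hb]
        _ = p * (e * b) * p := by group
        _ = (e * b) * p * p := by rw [h.comm p h.pU _ (mul_mem he hb)]
        _ = e * b := by rw [mul_assoc, h.pp, mul_one]
    have h3 : e * b ∈ B := by
      refine hB (e * b) (mul_mem he hb) fun n hn h4 => ?_
      rcases key n hn h4 with h5 | h5
      · have c1 : Commute n e := key2 n hn h4 h5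
        have c2 : Commute n b := h5
        exact (c1.mul_right c2).eq
      · have c1 : Commute (m⁻¹ * n) e := key2 (m⁻¹ * n) (mul_mem (inv_mem hm) hn) (hinv n h4) h5
        have c2 : Commute (m⁻¹ * n) b := h5
        have c3 : Commute m (e * b) := conj_eq_iff.mp h2
        have := (c3.mul_left (c1.mul_right c2)).eq
        rwa [mul_inv_cancel_left] at this
    have h4 : e = (e * b) * b := by rw [mul_assoc, h.sq b hb, mul_one]
    rw [h4]
    exact mul_mem (le_sup_left (α := Subgroup G) h3) hbB

/-- both properties together -/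
theorem dc_aux [Finite G] (s : Finset G) (hs : ∀ b ∈ s, b ∈ U) :
    (∀ e ∈ U, (∀ n ∈ N, (∀ b ∈ (U ⊓ centralizer (N : Set G)) ⊔ closure (s : Set G), n * b = b * n) → n * e = e * n) →
      e ∈ (U ⊓ centralizer (N : Set G)) ⊔ closure (s : Set G)) ∧
    Nat.card ↥(N ⊓ centralizer (((U ⊓ centralizer (N : Set G)) ⊔ closure (s : Set G) : Subgroup G) : Set G)) *
      Nat.card ↥((U ⊓ centralizer (N : Set G)) ⊔ closure (s : Set G)) =
      Nat.card N * Nat.card ↥(U ⊓ centralizer (N : Set G)) := by
  classical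
  induction s using Finset.induction_on with
  | empty =>
    rw [Finset.coe_empty, Subgroup.closure_empty, sup_bot_eq]
    constructor
    · intro e he h1
      refine ⟨he, mem_centralizer_iff.mpr fun n hn => h1 n hn fun b hb => ?_⟩
      exact mem_centralizer_iff.mp hb.2 n hn
    · congr 1
      have : N ⊓ centralizer ((U ⊓ centralizer (N : Set G) : Subgroup G) : Set G) = N := by
        rw [inf_eq_left]
        intro n hn
        exact mem_centralizer_iff.mpr fun b hb => (mem_centralizer_iff.mp hb.2 n hn).symm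
      rw [this]
  | insert b s hbs ih =>
    obtain ⟨ih1, ih2⟩ := ih fun b' hb' => hs b' (Finset.mem_insert_of_mem hb')
    have hb : b ∈ U := hs b (Finset.mem_insert_self b s)
    have hBU : (U ⊓ centralizer (N : Set G)) ⊔ closure (s : Set G) ≤ U :=
      sup_le inf_le_left ((closure_le _).mpr fun x hx => hs x (Finset.mem_insert_of_mem hx))
    have e1 : (U ⊓ centralizer (N : Set G)) ⊔ closure ((insert b s : Finset G) : Set G) =
        ((U ⊓ centralizer (N : Set G)) ⊔ closure (s : Set G)) ⊔ zpowers b := by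
      rw [Finset.coe_insert, ← Set.union_singleton, Subgroup.closure_union, zpowers_eq_closure, sup_assoc]
    rw [e1]
    generalize hBdef : (U ⊓ centralizer (N : Set G)) ⊔ closure (s : Set G) = B at *
    refine ⟨h.dc_step ih1 hb, ?_⟩
    by_cases hbB : b ∈ B
    · have e2 : B ⊔ zpowers b = B := by rw [sup_eq_left, zpowers_le]; exact hbB
      rw [e2]; exact ih2
    -- `|B⟨b⟩| = 2 |B|`
    have hb' : b ∈ B ⊔ zpowers b := le_sup_right (α := Subgroup G) (mem_zpowers b)
    have hcB : ∀ k ∈ B ⊔ zpowers b, k ∈ B ∨ k * b ∈ B := by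
      let B' : Subgroup G :=
        { carrier := {k | k ∈ U ∧ (k ∈ B ∨ k * b ∈ B)}
          one_mem' := ⟨one_mem _, Or.inl (one_mem _)⟩
          mul_mem' := by
            rintro x y ⟨hx, h1⟩ ⟨hy, h2⟩
            refine ⟨mul_mem hx hy, ?_⟩
            rcases h1 with h1 | h1 <;> rcases h2 with h2 | h2
            · left; exact mul_mem h1 h2
            · right; rw [mul_assoc]; exact mul_mem h1 h2
            · right
              rw [mul_assoc, h.comm y hy b hb, ← mul_assoc]; exact mul_mem h1 h2
            · left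
              have := mul_mem h1 h2
              have e : x * b * (y * b) = x * y := by
                rw [h.comm y hy b hb, mul_assoc, ← mul_assoc b b y, h.sq b hb, one_mul]
              rwa [e] at this
          inv_mem' := by
            rintro x ⟨hx, h1⟩
            have e : x⁻¹ = x := inv_eq_of_mul_eq_one_left (h.sq x hx)
            rw [e]; exact ⟨hx, h1⟩ }
      have h1 : B ⊔ zpowers b ≤ B' := by
        refine sup_le (fun x hx => ⟨hBU hx, Or.inl hx⟩) ?_
        rw [zpowers_le]
        exact ⟨hb, Or.inr (by rw [h.sq b hb]; exact one_mem _)⟩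
      exact fun k hk => (h1 hk).2
    have hcard1 := card_of_relIndex_two (le_sup_left (α := Subgroup G)) (relIndex_two hb' hbB hcB)
    -- `|C_N(B)| = 2 |C_N(B⟨b⟩)|`
    have hle : N ⊓ centralizer ((B ⊔ zpowers b : Subgroup G) : Set G) ≤ N ⊓ centralizer (B : Set G) :=
      inf_le_inf_left _ (centralizer_le (le_sup_left (α := Subgroup G)))
    have hmem : ∀ n : G, n ∈ N → (∀ b' ∈ B, n * b' = b' * n) → n * b = b * n →
        n ∈ N ⊓ centralizer ((B ⊔ zpowers b : Subgroup G) : Set G) := by
      intro n hn h1 h2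
      refine ⟨hn, mem_centralizer_iff.mpr fun b' hb' => ?_⟩
      have h3 : B ⊔ zpowers b ≤ centralizer ({n} : Set G) := by
        refine sup_le (fun x hx => mem_centralizer_singleton_iff.mpr (h1 x hx).symm) ?_
        rw [zpowers_le]
        exact mem_centralizer_singleton_iff.mpr h2.symm
      exact mem_centralizer_singleton_iff.mp (h3 hb')
    have hex : ∃ m ∈ N, (∀ b' ∈ B, m * b' = b' * m) ∧ m * b ≠ b * m := by
      by_contra hcon
      push Not at hcon
      exact hbB (ih1 b hb hcon)
    obtain ⟨m, hm, hmB, hmb⟩ := hex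
    have hmb' : m * b * m⁻¹ = p * b := by
      rcases h.act m hm b hb with h1 | h1
      · exact absurd (conj_eq_iff.mp h1) hmb
      · exact h1
    have hcard2 := card_of_relIndex_two hle (relIndex_two (a := m)
      ⟨hm, mem_centralizer_iff.mpr fun b' hb' => (hmB b' hb').symm⟩
      (fun hc => hmb (mem_centralizer_iff.mp hc.2 b hb').symm) (by
        rintro n ⟨hn, hn'⟩
        have hn2 : ∀ b' ∈ B, n * b' = b' * n := fun b' hb' => (mem_centralizer_iff.mp hn' b' hb').symm
        rcases h.act n hn b hb with h1 | h1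
        · left; exact hmem n hn hn2 (conj_eq_iff.mp h1)
        · right
          refine hmem _ (mul_mem hn hm) (fun b' hb' => ?_) ?_
          · have c1 : Commute m b' := hmB b' hb'
            have c2 : Commute n b' := hn2 b' hb'
            exact (c2.mul_left c1).eq
          · rw [← conj_eq_iff]
            calc n * m * b * (n * m)⁻¹ = n * (m * b * m⁻¹) * n⁻¹ := by group
              _ = n * (p * b) * n⁻¹ := by rw [hmb']
              _ = (n * p) * n⁻¹ * (n * b * n⁻¹) := by group
              _ = p * (p * b) := by rw [h.Np n hn, h1, mul_inv_cancel_right]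
              _ = b := by rw [← mul_assoc, h.pp, one_mul]))
    rw [hcard2] at ih2
    rw [hcard1, ← ih2]
    ring

theorem exists_closure [Finite G] {B : Subgroup G} (hB : U ⊓ centralizer (N : Set G) ≤ B) (hBU : B ≤ U) :
    ∃ s : Finset G, (∀ b ∈ s, b ∈ U) ∧ (U ⊓ centralizer (N : Set G)) ⊔ closure (s : Set G) = B := by
  classical
  refine ⟨(Set.toFinite (B : Set G)).toFinset, fun b hb => hBU (by simpa using hb), ?_⟩
  rw [Set.Finite.coe_toFinset, closure_eq]
  exact sup_eq_right.mpr hB

/-- **The double centraliser property.** -/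
theorem dc [Finite G] {B : Subgroup G} (hB : U ⊓ centralizer (N : Set G) ≤ B) (hBU : B ≤ U) {e : G} (he : e ∈ U)
    (heB : e ∉ B) : ∃ n ∈ N, (∀ b ∈ B, n * b = b * n) ∧ n * e * n⁻¹ = p * e := by
  obtain ⟨s, hs, hs2⟩ := h.exists_closure hB hBU
  have h1 := (h.dc_aux s hs).1
  rw [hs2] at h1
  by_contra hcon
  push Not at hcon
  refine heB (h1 e he fun n hn h2 => ?_)
  rcases h.act n hn e he with h3 | h3
  · exact conj_eq_iff.mp h3
  · exact absurd h3 (hcon n hn h2)

theorem card_eq' [Finite G] {B : Subgroup G} (hB : U ⊓ centralizer (N : Set G) ≤ B) (hBU : B ≤ U) :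
    Nat.card ↥(N ⊓ centralizer (B : Set G)) * Nat.card B =
      Nat.card N * Nat.card ↥(U ⊓ centralizer (N : Set G)) := by
  obtain ⟨s, hs, hs2⟩ := h.exists_closure hB hBU
  have h1 := (h.dc_aux s hs).2
  rwa [hs2] at h1

/-- `|N : C_N(U)| = |U : C_U(N)|` -/
theorem card_eq [Finite G] : Nat.card ↥(N ⊓ centralizer (U : Set G)) * Nat.card U =
    Nat.card N * Nat.card ↥(U ⊓ centralizer (N : Set G)) := h.card_eq' inf_le_left le_rfl

end Pairing

end Cfsg.Agent.Classification.TitsFin.TriPair
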