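import Mathlib
import Cfsg.Agent.Classification.TitsFin.TriAct
import Cfsg.Agent.Classification.TitsFin.TriPair
import Cfsg.Agent.MinSimple.Killing
import Cfsg.Agent.MinSimple.VModule
import Cfsg.Agent.Solvable.Glauberman

/-!
# Sections (A6)-(A9) of the blueprint `P21-FIN-helper531.md`

`Q_p / K_p` is the full group `Hom(U_p / ⟨p⟩, ⟨p⟩)`, `K_p`, `Q_p`, `C_G(V)` are 2-groups, `[K_p, X_p] ≤ U_p`, the
killing lemma (N) for `X_p`, `X_q`, and `|C_p / Q_p| = 20`.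
-/

set_option autoImplicit false
set_option linter.unusedSectionVars false
set_option linter.unusedVariables false

namespace Cfsg.Agent.Classification.TitsFin.TriQK

open Subgroup Cfsg Cfsg.Agent.ZN Cfsg.Agent.MinSimple.Geo
open Cfsg.Agent.Classification.TitsFin.Tri (Pt kst K Q)
open Cfsg.Agent.Classification.TitsFin.TriAct
open Cfsg.Agent.MinSimple.VModule (oddGen mem_oddGen oddGen_def oddGen_le le_normalizer_oddGen)
open Cfsg.Agent.ZN.Block (conj_mem_of_normalizer conj_mem_of_normalizer' le_normalizer_of_forall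
  mem_normalizer_of card_sup_mul_card_inf card_mul_relIndex' mul_mem_of_relIndex_two o2_le o2_conj o2_isPGroup
  le_o2 le_normalizer_o2)
open Cfsg.Agent.MinSimple.Killing (ncl conj_mem_ncl self_mem_ncl ncl_mono ncl_le ncl_le_of_conj
  conj_mem_of_mem_ncl killing killing_local)
open Cfsg.Agent.Classification.TitsFin.TriPair (Pairing)

universe u

variable {G : Type u} [Group G] [Finite G] {V : Subgroup G} {U C : G → Subgroup G} {p q : G}

theorem inf_mk {A B : Subgroup G} {x : G} (h1 : x ∈ A) (h2 : x ∈ B) : x ∈ A ⊓ B := ⟨h1, h2⟩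

/-! ### (A6) -/

theorem pairing (h : Tri V U C) (hp : Pt V p) : Pairing (Q U C p) (U p) p where
  pp := h.pp hp
  pU := h.p_mem hp hp
  comm := fun u hu v hv => h.commU hp hu hv
  sq := fun u hu => h.sqU p hp u hu
  Np := fun n hn => h.c_comm hp hn.1
  act := fun n hn u hu => ((h.mem_Q_iff hp).mp hn).2 u hu

/-- another point of `V` -/
theorem exists_other (h : Tri V U C) (hp : Pt V p) : ∃ q, Pt V q ∧ p ≠ q := by
  by_contra hcon
  push Not at hcon
  have h1 : V ≤ zpowers p := by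
    intro v hv
    by_cases hv1 : v = 1
    · rw [hv1]; exact one_mem _
    · rw [← hcon v ⟨hv, hv1⟩]; exact mem_zpowers p
  have h2 := Subgroup.card_le_of_le h1
  rw [h.cardV] at h2
  have h3 : Nat.card (zpowers p) ≤ 2 := by
    rw [Nat.card_zpowers]
    exact orderOf_le_of_pow_eq_one (by norm_num) (by rw [pow_two]; exact h.pp hp)
  omega

/-- `f`-invariant subgroups of `U_p` which contain `p` and are moved by something -/
theorem fixed_of_inv (h : Tri V U C) (hp : Pt V p) {f : G} (hf : IsF U C p f) {N : Subgroup G}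
    (hN : N ≤ C p) (hinv : ∀ b ∈ N, f * b * f⁻¹ ∈ N) {n v : G} (hn : n ∈ N) (hv : v ∈ U p)
    (hnv : n * v ≠ v * n) : ∀ u ∈ U p, (∀ n ∈ N, n * u = u * n) → u = 1 ∨ u = p := by
  -- `f` normalises `N`
  have hinv' : ∀ b ∈ N, f⁻¹ * b * f ∈ N := by
    intro b hb
    have e1 : cj f N ≤ N := by
      rintro _ ⟨b, hb, rfl⟩
      exact hinv b hb
    have e2 : cj f N = N := SetLike.coe_injective
      (Set.Finite.eq_of_subset_of_card_le (Set.toFinite (N : Set G)) e1 (by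
        have := card_cj f N
        exact this.ge))
    have e3 : b ∈ cj f N := by rw [e2]; exact hb
    exact mem_cj.mp e3
  let B : Subgroup G := U p ⊓ centralizer (N : Set G)
  have hB : ∀ b ∈ B, f * b * f⁻¹ ∈ B := by
    rintro b ⟨hb1, hb2⟩
    refine ⟨h.conj_memU hp hf.mem hb1, mem_centralizer_iff.mpr fun n hn => ?_⟩
    have e := mem_centralizer_iff.mp hb2 _ (hinv' n hn)
    calc n * (f * b * f⁻¹) = f * ((f⁻¹ * n * f) * b) * f⁻¹ := by group
      _ = f * (b * (f⁻¹ * n * f)) * f⁻¹ := by rw [e]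
      _ = f * b * f⁻¹ * n := by group
  have hpB : p ∈ B := ⟨h.p_mem hp hp, mem_centralizer_iff.mpr fun n hn => h.c_comm hp (hN hn)⟩
  rcases IsF.irred h hp hf inf_le_left hpB hB with h1 | h1
  · intro u hu hc
    exact h1 u ⟨hu, mem_centralizer_iff.mpr hc⟩
  · exfalso
    have h2 : v ∈ U p ⊓ centralizer (N : Set G) := by rw [h1]; exact hv
    exact hnv (mem_centralizer_iff.mp h2.2 n hn)

/-- a mover -/
theorem exists_mover' (h : Tri V U C) (hp : Pt V p) :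
    ∃ a ∈ Q U C p, ∃ b ∈ U p, a * b * a⁻¹ = p * b := by
  obtain ⟨q, hq, hpq⟩ := exists_other h hp
  obtain ⟨a, ha, b, hb, hab⟩ := exists_mover h hp hq hpq
  exact ⟨a, ha.2, b, hb, hab⟩

theorem ne_of_mover (hp : Pt V p) {a b : G} (hab : a * b * a⁻¹ = p * b) : a * b ≠ b * a := by
  intro e
  rw [e, mul_inv_cancel_right] at hab
  exact hp.2 (mul_eq_right.mp hab.symm)

/-- `C_{U_p}(Q_p) = ⟨p⟩` -/
theorem cent_Q (h : Tri V U C) (hp : Pt V p) : ∀ u ∈ U p, (∀ n ∈ Q U C p, n * u = u * n) → u = 1 ∨ u = p := by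
  obtain ⟨f, hf⟩ := exists_isF h hp
  obtain ⟨a, ha, b, hb, hab⟩ := exists_mover' h hp
  exact fixed_of_inv h hp hf (Tri.kst_le _ _ _) (fun b hb => conj_mem_of_normalizer (h.C_le_normQ hp) hf.mem hb)
    ha hb (ne_of_mover hp hab)

/-- the double centraliser property for `Q_p` on `U_p` -/
theorem dc (h : Tri V U C) (hp : Pt V p) {B : Subgroup G} (hpB : p ∈ B) (hB : B ≤ U p) {e : G} (he : e ∈ U p)
    (heB : e ∉ B) : ∃ n ∈ Q U C p, (∀ b ∈ B, n * b = b * n) ∧ n * e * n⁻¹ = p * e := by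
  refine (pairing h hp).dc ?_ hB he heB
  rintro u ⟨hu, hc⟩
  rcases cent_Q h hp u hu (mem_centralizer_iff.mp hc) with rfl | rfl
  · exact one_mem _
  · exact hpB

theorem mem_zpowers_p (h : Tri V U C) (hp : Pt V p) {u : G} : u ∈ zpowers p ↔ u = 1 ∨ u = p :=
  mem_zpowers_iff_of_mul_self (h.pp hp)

/-- (A6) (i) -/
theorem exists_move (h : Tri V U C) (hp : Pt V p) {u : G} (hu : u ∈ U p) (hu1 : u ≠ 1) (hup : u ≠ p) :
    ∃ c ∈ Q U C p, c * u * c⁻¹ = p * u := by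
  obtain ⟨n, hn, -, h2⟩ := dc h hp (B := zpowers p) (mem_zpowers p)
    (by rw [zpowers_le]; exact h.p_mem hp hp) hu (by
      rw [mem_zpowers_p h hp]; push Not; exact ⟨hu1, hup⟩)
  exact ⟨n, hn, h2⟩

/-- elements outside `V` are moved by elements of `Q_p ⊓ C_G(V)` -/
theorem exists_move_V (h : Tri V U C) (hp : Pt V p) {e : G} (he : e ∈ U p) (heV : e ∉ V) :
    ∃ c ∈ Q U C p, c ∈ centralizer (V : Set G) ∧ c * e * c⁻¹ = p * e := by
  obtain ⟨n, hn, h1, h2⟩ := dc h hp (B := V) hp.1 (h.V_le p hp) he heV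
  exact ⟨n, hn, mem_centralizer_iff.mpr fun v hv => (h1 v hv).symm, h2⟩

theorem exists_E (h : Tri V U C) (hp : Pt V p) (hq : Pt V q) (hpq : p ≠ q) : ∃ e ∈ U p ⊓ U q, e ∉ V := by
  by_contra hcon
  push Not at hcon
  have h1 : U p ⊓ U q ≤ V := hcon
  have h2 := Subgroup.card_le_of_le h1
  rw [card_E h hp hq hpq, h.cardV] at h2
  omega

/-- (A6) (ii) -/
theorem exists_move_E (h : Tri V U C) (hp : Pt V p) (hq : Pt V q) (hpq : p ≠ q) :
    ∃ c ∈ Q U C p, c ∈ centralizer (V : Set G) ∧ ∃ e ∈ U p ⊓ U q, c * e * c⁻¹ = p * e := by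
  obtain ⟨e, he, heV⟩ := exists_E h hp hq hpq
  obtain ⟨c, h1, h2, h3⟩ := exists_move_V h hp he.1 heV
  exact ⟨c, h1, h2, e, he, h3⟩

theorem card_aux (h : Tri V U C) (hp : Pt V p) {N : Subgroup G} (hN : N ≤ Q U C p) (hKN : K U p ≤ N)
    (hc : ∀ u ∈ U p, (∀ n ∈ N, n * u = u * n) → u = 1 ∨ u = p) : Nat.card N = 16 * Nat.card (K U p) := by
  have h1 := ((pairing h hp).mono hN).card_eq
  have h2 : U p ⊓ centralizer (N : Set G) = zpowers p := by
    apply le_antisymm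
    · rintro u ⟨hu, hu2⟩
      exact (mem_zpowers_p h hp).mpr (hc u hu (mem_centralizer_iff.mp hu2))
    · rw [zpowers_le]
      exact ⟨h.p_mem hp hp, mem_centralizer_iff.mpr fun n hn => h.c_comm hp (hN hn).1⟩
  have h3 : Nat.card (zpowers p) = 2 := by
    rw [Nat.card_zpowers]
    exact orderOf_eq_prime (by rw [pow_two]; exact h.pp hp) hp.2
  have h4 : N ⊓ centralizer (U p : Set G) = K U p := inf_eq_right.mpr hKN
  rw [h2, h3, h4, h.cardU p hp] at h1
  omega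

theorem card_Q (h : Tri V U C) (hp : Pt V p) : Nat.card (Q U C p) = 16 * Nat.card (K U p) :=
  card_aux h hp le_rfl (h.K_le_Q hp) (cent_Q h hp)

/-- (A6) (iii) -/
theorem relIndex_K (h : Tri V U C) (hp : Pt V p) : (K U p).relIndex (Q U C p) = 16 := by
  have h1 := card_mul_relIndex' (h.K_le_Q hp (C := C))
  rw [card_Q h hp, mul_comm] at h1
  exact Nat.eq_of_mul_eq_mul_right Nat.card_pos h1

/-- (A6) (iii) -/
theorem irred (h : Tri V U C) (hp : Pt V p) {f : G} (hf : IsF U C p f) {N : Subgroup G} (hKN : K U p ≤ N)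
    (hN : N ≤ Q U C p) (hinv : ∀ b ∈ N, f * b * f⁻¹ ∈ N) : N = K U p ∨ N = Q U C p := by
  by_cases hex : ∀ n ∈ N, ∀ v ∈ U p, n * v = v * n
  · left
    exact le_antisymm (fun n hn => mem_centralizer_iff.mpr fun v hv => (hex n hn v hv).symm) hKN
  · right
    push Not at hex
    obtain ⟨n, hn, v, hv, hnv⟩ := hex
    have h1 := card_aux h hp hN hKN (fixed_of_inv h hp hf (hN.trans (Tri.kst_le _ _ _)) hinv hn hv hnv)
    rw [← card_Q h hp] at h1
    exact SetLike.coe_injective (Set.Finite.eq_of_subset_of_card_le (Set.toFinite _) hN h1.ge)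


/-! ### (A7) -/

/-- `(y z)ⁿ ∈ N zⁿ` -/
theorem pow_mul_mem {N : Subgroup G} {y z : G} (hy : y ∈ N) (hz : ∀ n ∈ N, z * n * z⁻¹ ∈ N) (n : ℕ) :
    (y * z) ^ n * (z ^ n)⁻¹ ∈ N := by
  induction n with
  | zero => simp
  | succ n ih =>
    have e : (y * z) ^ (n + 1) * (z ^ (n + 1))⁻¹ = y * (z * ((y * z) ^ n * (z ^ n)⁻¹) * z⁻¹) := by
      rw [pow_succ', pow_succ']; group
    rw [e]
    exact mul_mem hy (hz _ ih)

theorem isF_of (h : Tri V U C) (hp : Pt V p) {f g : G} (hf : IsF U C p f) (hg : g ∈ C p)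
    (ho : Odd (orderOf g)) (hgQ : g ∉ Q U C p) : IsF U C p g := by
  refine ⟨hg, ho, hgQ, ?_⟩
  obtain ⟨k, -, hk⟩ := IsF.of_odd h hp hf hg ho
  have hfk : f ^ k ∈ C p := pow_mem hf.mem k
  have h1 := pow_mul_mem (N := Q U C p) (y := g * (f ^ k)⁻¹) (z := f ^ k) hk
    (fun n hn => conj_mem_of_normalizer (h.C_le_normQ hp) hfk hn) 5
  rw [inv_mul_cancel_right, ← pow_mul, mul_comm k 5, pow_mul] at h1
  have h3 := mul_mem h1 (pow_mem hf.pow k)
  rwa [inv_mul_cancel_right] at h3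

/-- elements of odd order of `Q_p` centralise `U_p` -/
theorem mem_K_of_odd (h : Tri V U C) (hp : Pt V p) {g : G} (hg : g ∈ Q U C p) (ho : Odd (orderOf g)) :
    g ∈ K U p := by
  have h1 : g ^ 2 ∈ K U p := by
    refine mem_centralizer_iff.mpr fun u hu => ?_
    have h2 := ((h.mem_Q_iff hp).mp hg).2
    have hc := h.c_comm hp hg.1
    have h3 : g ^ 2 * u * (g ^ 2)⁻¹ = u := by
      have e : g ^ 2 * u * (g ^ 2)⁻¹ = g * (g * u * g⁻¹) * g⁻¹ := by rw [pow_two]; group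
      rw [e]
      rcases h2 u hu with h4 | h4
      · rw [h4, h4]
      · rw [h4]
        calc g * (p * u) * g⁻¹ = (g * p) * g⁻¹ * (g * u * g⁻¹) := by group
          _ = p * (p * u) := by rw [hc, mul_inv_cancel_right, h4]
          _ = u := by rw [← mul_assoc, h.pp hp, one_mul]
    rw [mul_inv_eq_iff_eq_mul] at h3
    exact h3.symm
  obtain ⟨m, hm⟩ := exists_pow_eq_self_of_coprime (n := 2) (x := g)
    (Nat.coprime_two_left.mpr ho)
  rw [← hm]
  exact pow_mem h1 m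

/-- elements of odd order of `C_G(V)` lie in `K_p` -/
theorem mem_K_of_odd_centV (h : Tri V U C) (hp : Pt V p) {g : G} (hg : g ∈ centralizer (V : Set G))
    (ho : Odd (orderOf g)) : g ∈ K U p := by
  by_cases hgQ : g ∈ Q U C p
  · exact mem_K_of_odd h hp hgQ ho
  exfalso
  obtain ⟨f, hf⟩ := exists_isF h hp
  have h1 := isF_of h hp hf (h.centV_le hp hg) ho hgQ
  obtain ⟨q, hq, hpq⟩ := exists_other h hp
  rcases IsF.fixed h hp h1 (h.p_mem hq hp) (Or.inl (by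
    rw [← mem_centralizer_iff.mp hg q hq.1, mul_inv_cancel_right])) with h2 | h2
  · exact hq.2 h2
  · exact hpq h2.symm

theorem oddGen_eq (h : Tri V U C) (hp : Pt V p) : oddGen (centralizer (V : Set G)) = oddGen (K U p) := by
  apply le_antisymm
  · rw [oddGen_def, closure_le]
    rintro g ⟨hg, ho⟩
    exact mem_oddGen (mem_K_of_odd_centV h hp hg ho) ho
  · exact Cfsg.Agent.MinSimple.VModule.oddGen_mono (h.K_le_centV hp)

theorem C_le_normO (h : Tri V U C) (hp : Pt V p) :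
    C p ≤ normalizer (oddGen (centralizer (V : Set G)) : Set G) := by
  rw [oddGen_eq h hp]
  exact (h.C_le_normK hp).trans (Cfsg.Agent.MinSimple.VModule.normalizer_le_normalizer_oddGen _)

/-! the normal closure of a point -/

section ncl

variable {X : Subgroup G}

/-- `X ⊓ Q_p` does not centralise `U_p` -/
theorem exists_mem_X (h : Tri V U C) (hp : Pt V p) (hX : X ≤ C p) (hn : C p ≤ normalizer (X : Set G))
    {f : G} (hf : IsF U C p f) (hfX : f ∈ X) : ∃ x ∈ X ⊓ Q U C p, ∃ v ∈ U p, x * v ≠ v * x := by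
  by_contra hcon
  push Not at hcon
  have hXK : ∀ x ∈ X ⊓ Q U C p, ∀ v ∈ U p, x * v = v * x := hcon
  obtain ⟨y, hy, b, hb, hab⟩ := exists_mover' h hp
  have hyb := ne_of_mover hp hab
  let B : Subgroup G := U p ⊓ centralizer ({y} : Set G)
  have hpB : p ∈ B := ⟨h.p_mem hp hp, mem_centralizer_singleton_iff.mpr (h.c_comm hp hy.1).symm⟩
  have hk : y * f * y⁻¹ * f⁻¹ ∈ X ⊓ Q U C p := by
    refine inf_mk (mul_mem (conj_mem_of_normalizer hn hy.1 hfX) (inv_mem hfX)) ?_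
    have e : y * f * y⁻¹ * f⁻¹ = y * (f * y⁻¹ * f⁻¹) := by group
    rw [e]
    exact mul_mem hy (conj_mem_of_normalizer (h.C_le_normQ hp) hf.mem (inv_mem hy))
  have hB : ∀ b ∈ B, f * b * f⁻¹ ∈ B := by
    rintro u ⟨hu1, hu2⟩
    have hu3 : f * u * f⁻¹ ∈ U p := h.conj_memU hp hf.mem hu1
    have hu4 := mem_centralizer_singleton_iff.mp hu2
    refine ⟨hu3, mem_centralizer_singleton_iff.mpr ?_⟩
    have h1 := hXK _ hk _ hu3
    have h2 : y * (f * u * f⁻¹) * y⁻¹ = f * u * f⁻¹ := by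
      calc y * (f * u * f⁻¹) * y⁻¹ = (y * f * y⁻¹ * f⁻¹) * (f * (y * u) * y⁻¹ * f⁻¹) *
            (y * f * y⁻¹ * f⁻¹)⁻¹ := by group
        _ = (y * f * y⁻¹ * f⁻¹) * (f * (u * y) * y⁻¹ * f⁻¹) * (y * f * y⁻¹ * f⁻¹)⁻¹ := by rw [hu4]
        _ = ((y * f * y⁻¹ * f⁻¹) * (f * u * f⁻¹)) * (y * f * y⁻¹ * f⁻¹)⁻¹ := by group
        _ = f * u * f⁻¹ := by rw [h1, mul_inv_cancel_right]
    exact (mul_inv_eq_iff_eq_mul.mp h2).symm
  rcases IsF.irred h hp hf inf_le_left hpB hB with h1 | h1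
  · -- too many fixed elements
    obtain ⟨q, hq, hpq⟩ := exists_other h hp
    obtain ⟨e, he, heV⟩ := exists_E h hp hq hpq
    have hqU := h.p_mem hq hp
    have hno : ∀ u ∈ U p, u ≠ 1 → u ≠ p → y * u * y⁻¹ = p * u := by
      intro u hu h2 h3
      rcases ((h.mem_Q_iff hp).mp hy).2 u hu with h4 | h4
      · exfalso
        rcases h1 u ⟨hu, mem_centralizer_singleton_iff.mpr (mul_inv_eq_iff_eq_mul.mp h4).symm⟩ with h5 | h5
        · exact h2 h5
        · exact h3 h5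
      · exact h4
    have h2 := hno q hqU hq.2 hpq.symm
    have h3 := hno e he.1 (fun h5 => heV (by rw [h5]; exact one_mem _)) (fun h5 => heV (by rw [h5]; exact hp.1))
    have h4 : y * (q * e) * y⁻¹ = q * e := by
      calc y * (q * e) * y⁻¹ = (y * q * y⁻¹) * (y * e * y⁻¹) := by group
        _ = (p * q) * (p * e) := by rw [h2, h3]
        _ = (q * p) * (p * e) := by rw [h.commV hp hq]
        _ = q * (p * p) * e := by group
        _ = q * e := by rw [h.pp hp, mul_one]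
    have hqe : q * e ∉ V := fun h5 => heV (by
      have := mul_mem (inv_mem hq.1) h5
      rwa [inv_mul_cancel_left] at this)
    rcases h1 _ ⟨mul_mem hqU he.1, mem_centralizer_singleton_iff.mpr (mul_inv_eq_iff_eq_mul.mp h4).symm⟩ with h5 | h5
    · exact hqe (by rw [h5]; exact one_mem _)
    · exact hqe (by rw [h5]; exact hp.1)
  · have h2 : b ∈ U p ⊓ centralizer ({y} : Set G) := by rw [h1]; exact hb
    exact hyb (mem_centralizer_singleton_iff.mp h2.2).symm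

/-- a mover in `X ⊓ Q_p` -/
theorem exists_move_X (h : Tri V U C) (hp : Pt V p) (hX : X ≤ C p) (hn : C p ≤ normalizer (X : Set G))
    {f : G} (hf : IsF U C p f) (hfX : f ∈ X) {u : G} (hu : u ∈ U p) (hu1 : u ≠ 1) (hup : u ≠ p) :
    ∃ x ∈ X ⊓ Q U C p, x * u * x⁻¹ = p * u := by
  obtain ⟨x, hx, v, hv, hxv⟩ := exists_mem_X h hp hX hn hf hfX
  have h1 := fixed_of_inv h hp hf (N := X ⊓ Q U C p) (inf_le_left.trans hX) (fun b hb =>
    inf_mk (mul_mem (mul_mem hfX hb.1) (inv_mem hfX)) (conj_mem_of_normalizer (h.C_le_normQ hp) hf.mem hb.2))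
    hx hv hxv u hu
  by_contra hcon
  push Not at hcon
  refine absurd (h1 fun n hn => ?_) (by push Not; exact ⟨hu1, hup⟩)
  rcases ((h.mem_Q_iff hp).mp hn.2).2 u hu with h2 | h2
  · exact mul_inv_eq_iff_eq_mul.mp h2
  · exact absurd h2 (hcon n hn)

theorem eq_U_of_inv (h : Tri V U C) (hp : Pt V p) {f : G} (hf : IsF U C p f) {B : Subgroup G} (hB : B ≤ U p)
    (hpB : p ∈ B) (hinv : ∀ b ∈ B, f * b * f⁻¹ ∈ B) {u : G} (hu : u ∈ B) (hu1 : u ≠ 1) (hup : u ≠ p) :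
    B = U p := by
  rcases IsF.irred h hp hf hB hpB hinv with h1 | h1
  · rcases h1 u hu with h2 | h2
    · exact absurd h2 hu1
    · exact absurd h2 hup
  · exact h1

/-- `⟨u^X⟩ = U_p` -/
theorem U_le_ncl (h : Tri V U C) (hp : Pt V p) (hX : X ≤ C p) (hn : C p ≤ normalizer (X : Set G))
    {f : G} (hf : IsF U C p f) (hfX : f ∈ X) {u : G} (hu : u ∈ U p) (hu1 : u ≠ 1) (hup : u ≠ p) :
    U p ≤ ncl X u := by
  obtain ⟨x, hx, hxu⟩ := exists_move_X h hp hX hn hf hfX hu hu1 hup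
  have h1 : ncl X u ≤ U p := ncl_le_of_conj hu fun x hx k hk => h.conj_memU hp (hX hx) hk
  have h2 : p ∈ ncl X u := by
    have h3 := mul_mem (conj_mem_ncl (v := u) hx.1) (inv_mem (self_mem_ncl X u))
    rwa [hxu, mul_inv_cancel_right] at h3
  exact (eq_U_of_inv h hp hf h1 h2 (fun b hb => conj_mem_of_mem_ncl hfX hb) (self_mem_ncl X u) hu1 hup).ge

/-- `U_p ≤ X` -/
theorem U_le_X (h : Tri V U C) (hp : Pt V p) (hX : X ≤ C p) (hn : C p ≤ normalizer (X : Set G))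
    {f : G} (hf : IsF U C p f) (hfX : f ∈ X) : U p ≤ X := by
  obtain ⟨q, hq, hpq⟩ := exists_other h hp
  have hqU := h.p_mem hq hp
  obtain ⟨x, hx, hxu⟩ := exists_move_X h hp hX hn hf hfX hqU hq.2 hpq.symm
  have hpX : p ∈ X := by
    have h1 : x * (q * x⁻¹ * q⁻¹) ∈ X := mul_mem hx.1 (conj_mem_of_normalizer hn
      (h.U_le_C hp hp hqU) (inv_mem hx.1))
    have e : x * (q * x⁻¹ * q⁻¹) = (x * q * x⁻¹) * q⁻¹ := by group
    rwa [e, hxu, mul_inv_cancel_right] at h1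
  have hfq : f * q * f⁻¹ * q⁻¹ ∈ X ⊓ U p := by
    refine inf_mk ?_ (mul_mem (h.conj_memU hp hf.mem hqU) (inv_mem hqU))
    have e : f * q * f⁻¹ * q⁻¹ = f * (q * f⁻¹ * q⁻¹) := by group
    rw [e]
    exact mul_mem hfX (conj_mem_of_normalizer hn (h.U_le_C hp hp hqU) (inv_mem hfX))
  have h1 : X ⊓ U p = U p := by
    refine eq_U_of_inv h hp hf inf_le_right ⟨hpX, h.p_mem hp hp⟩ (fun b hb =>
      inf_mk (mul_mem (mul_mem hfX hb.1) (inv_mem hfX)) (h.conj_memU hp hf.mem hb.2)) hfq ?_ ?_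
    · intro e
      rcases IsF.fixed h hp hf hqU (Or.inl (mul_inv_eq_one.mp e)) with h2 | h2
      · exact hq.2 h2
      · exact hpq h2.symm
    · intro e
      rcases IsF.fixed h hp hf hqU (Or.inr (mul_inv_eq_iff_eq_mul.mp e)) with h2 | h2
      · exact hq.2 h2
      · exact hpq h2.symm
  rw [← h1]
  exact inf_le_left

end ncl

theorem p_mem_comm (h : Tri V U C) (hp : Pt V p) (hq : Pt V q) (hpq : p ≠ q) : p ∈ ⁅U p, U q⁆ := by
  obtain ⟨a, ha, b, hb, hab⟩ := exists_mover h hp hq hpq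
  rw [commutator_comm]
  have h1 := commutator_mem_commutator ha.1 hb
  rw [commutatorElement_def, hab, mul_inv_cancel_right] at h1
  exact h1

theorem third_mem_comm (h : Tri V U C) (hp : Pt V p) (hq : Pt V q) (hpq : p ≠ q) : p * q ∈ ⁅U p, U q⁆ := by
  refine mul_mem (p_mem_comm h hp hq hpq) ?_
  rw [commutator_comm]
  exact p_mem_comm h hq hp hpq.symm

/-- killing lemma in general form -/
theorem kill (h : Tri V U C) (hp : Pt V p) (hq : Pt V q) (hpq : p ≠ q) {X Y : Subgroup G} (hX : X ≤ C p)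
    (hXn : C p ≤ normalizer (X : Set G)) (hY : Y ≤ C q) (hYn : C q ≤ normalizer (Y : Set G)) {f g : G}
    (hf : IsF U C p f) (hfX : f ∈ X) (hg : IsF U C q g) (hgY : g ∈ Y) {R : Subgroup G} (hR : IsPGroup 2 R)
    (h1 : X ≤ normalizer (R : Set G)) (h2 : Y ≤ normalizer (R : Set G)) : R = ⊥ := by
  obtain ⟨h3, h4, h5⟩ := h.third hp hq hpq
  have hrp : p * q ∈ U p := h.p_mem h3 hp
  have hrq : p * q ∈ U q := h.p_mem h3 hq
  exact killing_local h.solv (U_le_X h hp hX hXn hf hfX hrp) h3.2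
    (U_le_ncl h hp hX hXn hf hfX hrp h3.2 h4) (U_le_ncl h hq hY hYn hg hgY hrq h3.2 h5)
    (third_mem_comm h hp hq hpq) hR h1 h2

theorem oddGen_centV (h : Tri V U C) (hp : Pt V p) : oddGen (centralizer (V : Set G)) = ⊥ := by
  obtain ⟨q, hq, hpq⟩ := exists_other h hp
  obtain ⟨f, hf⟩ := exists_isF h hp
  obtain ⟨g, hg⟩ := exists_isF h hq
  set O := oddGen (centralizer (V : Set G)) with hO
  have hOC : O ≤ C p := (oddGen_le _).trans (h.centV_le hp)
  have hcj : ∀ c ∈ normalizer (O : Set G), c ∈ normalizer (o2 O : Set G) := by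
    intro c hc
    rw [mem_normalizer_iff_cj, cj_o2, mem_normalizer_iff_cj.mp hc]
  have h1 : o2 O = ⊥ := kill h hp hq hpq le_rfl le_normalizer le_rfl le_normalizer hf hf.mem hg hg.mem
    (o2_isPGroup O) (fun c hc => hcj c (C_le_normO h hp hc)) (fun c hc => hcj c (C_le_normO h hq hc))
  have h2 : O ≤ centralizer (o2 (C p) : Set G) := by
    intro o ho
    refine mem_centralizer_iff.mpr fun w hw => ?_
    have h3 : O ⊓ o2 (C p) ≤ o2 O := by
      refine Block.le_o2 ((o2_isPGroup (C p)).to_le inf_le_right) inf_le_left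
        (le_normalizer_of_forall fun l hl m hm => inf_mk (mul_mem (mul_mem hl hm.1) (inv_mem hl))
          (o2_conj (hOC hl) hm.2))
    have h4 : o * w * o⁻¹ * w⁻¹ ∈ O ⊓ o2 (C p) := by
      refine inf_mk ?_ (mul_mem (o2_conj (hOC ho) hw) (inv_mem hw))
      have e : o * w * o⁻¹ * w⁻¹ = o * (w * o⁻¹ * w⁻¹) := by group
      rw [e]
      exact mul_mem ho (conj_mem_of_normalizer (C_le_normO h hp) (Block.o2_le _ hw) (inv_mem ho))
    have h5 := h3 h4
    rw [h1, mem_bot, mul_inv_eq_one, mul_inv_eq_iff_eq_mul] at h5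
    exact h5.symm
  have h3 : O ≤ o2 (C p) := fun o ho => h.char2 p hp ⟨hOC ho, h2 ho⟩
  have h4 : IsPGroup 2 O := (o2_isPGroup (C p)).to_le h3
  rw [hO, oddGen_def, closure_eq_bot_iff]
  rintro x ⟨hx, ho⟩
  have hxO : x ∈ O := mem_oddGen hx ho
  obtain ⟨k, hk⟩ := h4 ⟨x, hxO⟩
  have hk' : x ^ 2 ^ k = 1 := congrArg Subtype.val hk
  have h5 := orderOf_dvd_of_pow_eq_one hk'
  have h6 : orderOf x = 1 := Nat.Coprime.eq_one_of_dvd
    (Nat.Coprime.pow_right k (Nat.coprime_two_right.mpr ho)) h5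
  exact orderOf_eq_one_iff.mp h6

/-- (A7) -/
theorem isPGroup_centV (h : Tri V U C) (hp : Pt V p) : IsPGroup 2 ↥(centralizer (V : Set G)) := by
  rintro ⟨g, hg⟩
  obtain ⟨a, m, hm, ham⟩ := Nat.exists_eq_two_pow_mul_odd (n := orderOf g) (orderOf_pos g).ne'
  refine ⟨a, Subtype.ext ?_⟩
  change g ^ 2 ^ a = 1
  have h1 : orderOf (g ^ 2 ^ a) = m := by
    rw [orderOf_pow' g (by positivity), ham, Nat.gcd_eq_right (Dvd.intro m rfl),
      Nat.mul_div_cancel_left m (by positivity)]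
  have h2 : g ^ 2 ^ a ∈ oddGen (centralizer (V : Set G)) :=
    mem_oddGen (pow_mem hg _) (by rw [h1]; exact hm)
  rw [oddGen_centV h hp] at h2
  exact mem_bot.mp h2

theorem isPGroup_K (h : Tri V U C) (hp : Pt V p) : IsPGroup 2 ↥(K U p) :=
  (isPGroup_centV h hp).to_le (h.K_le_centV hp)

theorem sq_mem_K (h : Tri V U C) (hp : Pt V p) {g : G} (hg : g ∈ Q U C p) : g ^ 2 ∈ K U p := by
  refine mem_centralizer_iff.mpr fun u hu => ?_
  have h2 := ((h.mem_Q_iff hp).mp hg).2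
  have hc := h.c_comm hp hg.1
  have h3 : g ^ 2 * u * (g ^ 2)⁻¹ = u := by
    have e : g ^ 2 * u * (g ^ 2)⁻¹ = g * (g * u * g⁻¹) * g⁻¹ := by rw [pow_two]; group
    rw [e]
    rcases h2 u hu with h4 | h4
    · rw [h4, h4]
    · rw [h4]
      calc g * (p * u) * g⁻¹ = (g * p) * g⁻¹ * (g * u * g⁻¹) := by group
        _ = p * (p * u) := by rw [hc, mul_inv_cancel_right, h4]
        _ = u := by rw [← mul_assoc, h.pp hp, one_mul]
  rw [mul_inv_eq_iff_eq_mul] at h3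
  exact h3.symm

theorem isPGroup_Q (h : Tri V U C) (hp : Pt V p) : IsPGroup 2 ↥(Q U C p) := by
  rintro ⟨g, hg⟩
  obtain ⟨k, hk⟩ := isPGroup_K h hp ⟨g ^ 2, sq_mem_K h hp hg⟩
  refine ⟨k + 1, Subtype.ext ?_⟩
  have hk' : (g ^ 2) ^ 2 ^ k = 1 := congrArg Subtype.val hk
  change g ^ 2 ^ (k + 1) = 1
  rw [pow_succ', pow_mul, hk']

theorem exists_pow_of_mem_Q (h : Tri V U C) (hp : Pt V p) {g : G} (hg : g ∈ Q U C p) : ∃ n, g ^ 2 ^ n = 1 := by
  obtain ⟨k, hk⟩ := isPGroup_Q h hp ⟨g, hg⟩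
  exact ⟨k, congrArg Subtype.val hk⟩

theorem exists_pow_of_mem_centV (h : Tri V U C) (hp : Pt V p) {g : G} (hg : g ∈ centralizer (V : Set G)) :
    ∃ n, g ^ 2 ^ n = 1 := by
  obtain ⟨k, hk⟩ := isPGroup_centV h hp ⟨g, hg⟩
  exact ⟨k, congrArg Subtype.val hk⟩

theorem eq_one_of_odd {g : G} (ho : Odd (orderOf g)) {n : ℕ} (hn : g ^ 2 ^ n = 1) : g = 1 := by
  have h5 := orderOf_dvd_of_pow_eq_one hn
  have h6 : orderOf g = 1 := Nat.Coprime.eq_one_of_dvd
    (Nat.Coprime.pow_right n (Nat.coprime_two_right.mpr ho)) h5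
  exact orderOf_eq_one_iff.mp h6

theorem mem_of_pow_mem {D : Subgroup G} {g : G} (ho : Odd (orderOf g)) {n : ℕ} (hn : g ^ 2 ^ n ∈ D) : g ∈ D := by
  obtain ⟨m, hm⟩ := exists_pow_eq_self_of_coprime (n := 2 ^ n) (x := g)
    (Nat.Coprime.pow_left n (Nat.coprime_two_left.mpr ho))
  rw [← hm]
  exact pow_mem hn m

/-! ### (A8) -/

/-- (A8) `[K_p, U_q] ≤ E` -/
theorem comm_K_U (h : Tri V U C) (hp : Pt V p) (hq : Pt V q) (hpq : p ≠ q) {k u : G} (hk : k ∈ K U p) (hu : u ∈ U q) :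
    k * u * k⁻¹ * u⁻¹ ∈ U p ⊓ U q := by
  rw [← K_inf_U h hp hq hpq]
  refine inf_mk ?_ (mul_mem (h.conj_memU hq (h.K_le_C hq hp hk) hu) (inv_mem hu))
  have e : k * u * k⁻¹ * u⁻¹ = k * (u * k⁻¹ * u⁻¹) := by group
  rw [e]
  exact mul_mem hk (conj_mem_of_normalizer (h.C_le_normK hp) (h.U_le_C hp hq hu) (inv_mem hk))

/-- `{c ∈ C_p | [K_p, c] ≤ U_p}` -/
def dd (h : Tri V U C) (hp : Pt V p) : Subgroup G where
  carrier := {c | c ∈ C p ∧ ∀ k ∈ K U p, k * c * k⁻¹ * c⁻¹ ∈ U p}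
  one_mem' := ⟨one_mem _, fun k _ => by simp⟩
  mul_mem' := by
    rintro a b ⟨ha, ha2⟩ ⟨hb, hb2⟩
    refine ⟨mul_mem ha hb, fun k hk => ?_⟩
    have e : k * (a * b) * k⁻¹ * (a * b)⁻¹ = (k * a * k⁻¹ * a⁻¹) * (a * (k * b * k⁻¹ * b⁻¹) * a⁻¹) := by group
    rw [e]
    exact mul_mem (ha2 k hk) (h.conj_memU hp ha (hb2 k hk))
  inv_mem' := by
    rintro a ⟨ha, ha2⟩
    refine ⟨inv_mem ha, fun k hk => ?_⟩
    have e : k * a⁻¹ * k⁻¹ * a⁻¹⁻¹ = a⁻¹ * (a * k * a⁻¹ * k⁻¹) * a := by group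
    have e2 : a * k * a⁻¹ * k⁻¹ = (k * a * k⁻¹ * a⁻¹)⁻¹ := by group
    rw [e, e2]
    exact h.conj_memU' hp ha (inv_mem (ha2 k hk))

theorem mem_dd (h : Tri V U C) (hp : Pt V p) {c : G} :
    c ∈ dd h hp ↔ c ∈ C p ∧ ∀ k ∈ K U p, k * c * k⁻¹ * c⁻¹ ∈ U p := Iff.rfl

theorem C_le_norm_dd (h : Tri V U C) (hp : Pt V p) : C p ≤ normalizer (dd h hp : Set G) := by
  refine le_normalizer_of_forall fun c hc d hd => ?_
  rw [mem_dd] at hd ⊢
  refine ⟨mul_mem (mul_mem hc hd.1) (inv_mem hc), fun k hk => ?_⟩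
  have e : k * (c * d * c⁻¹) * k⁻¹ * (c * d * c⁻¹)⁻¹ =
      c * ((c⁻¹ * k * c) * d * (c⁻¹ * k * c)⁻¹ * d⁻¹) * c⁻¹ := by group
  rw [e]
  exact h.conj_memU hp hc (hd.2 _ (conj_mem_of_normalizer' (h.C_le_normK hp) hc hk))

theorem mem_of_mul (h : Tri V U C) (hp : Pt V p) {D : Subgroup G} (hD : C p ≤ normalizer (D : Set G))
    {y d : G} (hy : y ∈ Q U C p) (hd : d ∈ D) {m : ℕ} {g : G} (ho : Odd (orderOf g)) (hg : g ^ 2 ^ m = d * y) :
    g ∈ D := by
  obtain ⟨n, hn⟩ := exists_pow_of_mem_Q h hp hy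
  have h1 := pow_mul_mem (N := D) hd (z := y) (fun x hx => conj_mem_of_normalizer hD hy.1 hx) (2 ^ n)
  rw [hn, inv_one, mul_one, ← hg, ← pow_mul, ← pow_add] at h1
  exact mem_of_pow_mem ho h1

theorem isF_mem_dd (h : Tri V U C) (hp : Pt V p) {f : G} (hf : IsF U C p f) : f ∈ dd h hp := by
  obtain ⟨q, hq, hpq⟩ := exists_other h hp
  obtain ⟨t, ht, htQ⟩ := h.exists_t hp hq hpq
  have htC := h.U_le_C hp hq ht
  have htt : t * t ∈ Q U C p := by rw [h.sqU q hq t ht]; exact one_mem _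
  have h1 := IsF.inv_of_sq h hp hf htC htt htQ
  have htD : t ∈ dd h hp := by
    rw [mem_dd]
    exact ⟨htC, fun k hk => (comm_K_U h hp hq hpq hk ht).1⟩
  -- `d = t f⁻¹ t⁻¹ f ∈ D` and `f² = d y`
  have hd : t * (f⁻¹ * t⁻¹ * f) ∈ dd h hp :=
    mul_mem htD (conj_mem_of_normalizer' (C_le_norm_dd h hp) hf.mem (inv_mem htD))
  have hy : f⁻¹ * (t * f * t⁻¹ * f) * f ∈ Q U C p :=
    conj_mem_of_normalizer' (h.C_le_normQ hp) hf.mem h1
  refine mem_of_mul h hp (C_le_norm_dd h hp) hy hd (m := 1) hf.odd ?_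
  rw [pow_one, pow_two]
  group

theorem odd_mem_dd (h : Tri V U C) (hp : Pt V p) {g : G} (hg : g ∈ C p) (ho : Odd (orderOf g)) :
    g ∈ dd h hp := by
  by_cases hgQ : g ∈ Q U C p
  · obtain ⟨n, hn⟩ := exists_pow_of_mem_Q h hp hgQ
    rw [eq_one_of_odd ho hn]
    exact one_mem _
  · obtain ⟨f, hf⟩ := exists_isF h hp
    exact isF_mem_dd h hp (isF_of h hp hf hg ho hgQ)

/-- (A8) `[K_p, X_p] ≤ U_p`, `X_p = oddGen (C p)` -/
theorem comm_K_X (h : Tri V U C) (hp : Pt V p) {k x : G} (hk : k ∈ K U p) (hx : x ∈ oddGen (C p)) :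
    k * x * k⁻¹ * x⁻¹ ∈ U p := by
  have h1 : oddGen (C p) ≤ dd h hp := by
    rw [oddGen_def, closure_le]
    rintro g ⟨hg, ho⟩
    exact odd_mem_dd h hp hg ho
  exact ((mem_dd h hp).mp (h1 hx)).2 k hk

theorem U_le_oddGen (h : Tri V U C) (hp : Pt V p) : U p ≤ oddGen (C p) := by
  obtain ⟨f, hf⟩ := exists_isF h hp
  exact U_le_X h hp (oddGen_le _) (le_normalizer_oddGen _) hf (mem_oddGen hf.mem hf.odd)

/-- (A8) = (N) -/
theorem killX (h : Tri V U C) (hp : Pt V p) (hq : Pt V q) (hpq : p ≠ q) {R : Subgroup G} (hR : IsPGroup 2 R)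
    (h1 : oddGen (C p) ≤ normalizer (R : Set G)) (h2 : oddGen (C q) ≤ normalizer (R : Set G)) : R = ⊥ := by
  obtain ⟨f, hf⟩ := exists_isF h hp
  obtain ⟨g, hg⟩ := exists_isF h hq
  exact kill h hp hq hpq (oddGen_le _) (le_normalizer_oddGen _) (oddGen_le _) (le_normalizer_oddGen _) hf
    (mem_oddGen hf.mem hf.odd) hg (mem_oddGen hg.mem hg.odd) hR h1 h2

/-- `Q_p = (Q_p ⊓ X_p) K_p` -/
theorem Q_eq_sup (h : Tri V U C) (hp : Pt V p) : Q U C p = (oddGen (C p) ⊓ Q U C p) ⊔ K U p := by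
  obtain ⟨f, hf⟩ := exists_isF h hp
  have hfX : f ∈ oddGen (C p) := mem_oddGen hf.mem hf.odd
  have h2 : C p ≤ normalizer (((oddGen (C p) ⊓ Q U C p) ⊔ K U p : Subgroup G) : Set G) := by
    refine le_normalizer_of_forall fun c hc x hx => ?_
    have h3 : cj c ((oddGen (C p) ⊓ Q U C p) ⊔ K U p) ≤ (oddGen (C p) ⊓ Q U C p) ⊔ K U p := by
      have e : cj c ((oddGen (C p) ⊓ Q U C p) ⊔ K U p) = cj c (oddGen (C p) ⊓ Q U C p) ⊔ cj c (K U p) :=
        Subgroup.map_sup _ _ _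
      rw [e, cj_inf]
      refine sup_le_sup (inf_le_inf ?_ ?_) ?_
      · exact (cj_eq_of_mem_normalizer (le_normalizer_oddGen _ hc)).le
      · exact (cj_eq_of_mem_normalizer (h.C_le_normQ hp hc)).le
      · exact (cj_eq_of_mem_normalizer (h.C_le_normK hp hc)).le
    exact h3 (conj_mem_cj hx)
  rcases irred h hp hf le_sup_right (sup_le inf_le_right (h.K_le_Q hp))
    (fun b hb => conj_mem_of_normalizer h2 hf.mem hb) with h1 | h1
  · exfalso
    obtain ⟨x, hx, v, hv, hxv⟩ := exists_mem_X h hp (oddGen_le _) (le_normalizer_oddGen _) hf hfX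
    have h3 : x ∈ K U p := by rw [← h1]; exact le_sup_left (α := Subgroup G) hx
    exact hxv (mem_centralizer_iff.mp h3 v hv).symm
  · exact h1.symm

/-- every element of `Q_p` is `x k`, `x ∈ X_p ⊓ Q_p`, `k ∈ K_p` -/
theorem exists_mul_of_mem_Q (h : Tri V U C) (hp : Pt V p) {y : G} (hy : y ∈ Q U C p) :
    ∃ x ∈ oddGen (C p) ⊓ Q U C p, ∃ k ∈ K U p, y = x * k := by
  rw [Q_eq_sup h hp] at hy
  have hn : oddGen (C p) ⊓ Q U C p ≤ normalizer (K U p : Set G) :=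
    inf_le_left.trans ((oddGen_le _).trans (h.C_le_normK hp))
  rw [← SetLike.mem_coe, coe_mul_of_left_le_normalizer_right _ _ hn] at hy
  obtain ⟨x, hx, k, hk, e⟩ := Set.mem_mul.mp hy
  exact ⟨x, hx, k, hk, e.symm⟩

/-- `G` with the conjugation action -/
@[ext] structure CX (G : Type u) where
  /-- the element -/
  val : G

instance : MulAction G (CX G) where
  smul g x := ⟨g * x.val * g⁻¹⟩
  one_smul x := by
    ext
    change 1 * x.val * 1⁻¹ = x.val
    simp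
  mul_smul a b x := by
    ext
    change a * b * x.val * (a * b)⁻¹ = a * (b * x.val * b⁻¹) * a⁻¹
    group

theorem smul_cx (g : G) (x : CX G) : g • x = ⟨g * x.val * g⁻¹⟩ := rfl

/-- (A8) all elements of odd order of `C_p` are `Q_p`-conjugate to powers of `f` (which has order 5) -/
theorem exists_conj_of_odd (h : Tri V U C) (hp : Pt V p) {f g : G} (hf : IsF U C p f) (hg : g ∈ C p)
    (ho : Odd (orderOf g)) : ∃ x ∈ Q U C p, ∃ k : ℕ, g = x * f ^ k * x⁻¹ := by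
  obtain ⟨k, -, hk⟩ := IsF.of_odd h hp hf hg ho
  set d := f ^ k with hd
  have hdC : d ∈ C p := pow_mem hf.mem k
  have hcop : (Nat.card (zpowers g)).Coprime (Nat.card (Q U C p)) := by
    obtain ⟨n, hn⟩ := IsPGroup.iff_card.mp (isPGroup_Q h hp)
    rw [hn, Nat.card_zpowers]
    exact Nat.Coprime.pow_right n (Nat.coprime_two_right.mpr ho)
  have hnorm : ∀ c ∈ C p, ∀ n ∈ Q U C p, c * n * c⁻¹ ∈ Q U C p := fun c hc n hn =>
    conj_mem_of_normalizer (h.C_le_normQ hp) hc hn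
  have hsol : Group.IsSolvable ↥(zpowers g) := by infer_instance
  obtain ⟨x, hx, hfix⟩ := Cfsg.Agent.Solvable.Glauberman.exists_smul_fixed (zpowers g) (Q U C p)
    ((zpowers_le.mpr hg).trans (h.C_le_normQ hp)) hcop (Or.inl hsol) (X := CX G) ⟨d⟩ (by
      intro a ha
      obtain ⟨i, rfl⟩ := mem_zpowers_iff.mp ha
      -- `gⁱ d⁻ⁱ ∈ Q`
      have h1 : ∀ n : ℕ, g ^ n * (d ^ n)⁻¹ ∈ Q U C p := by
        intro n
        have h2 := pow_mul_mem (N := Q U C p) (y := g * d⁻¹) (z := d) hk (fun n hn => hnorm d hdC n hn) n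
        rwa [inv_mul_cancel_right] at h2
      obtain ⟨n, hn⟩ : ∃ n : ℕ, g ^ i = g ^ n := by
        have := (mem_powers_iff_mem_zpowers (x := g) (y := g ^ i)).mpr ⟨i, rfl⟩
        obtain ⟨n, hn⟩ := this
        exact ⟨n, hn.symm⟩
      refine ⟨g ^ n * (d ^ n)⁻¹, h1 n, ?_⟩
      rw [hn, smul_cx, smul_cx]
      refine CX.ext ?_
      change g ^ n * d * (g ^ n)⁻¹ = g ^ n * (d ^ n)⁻¹ * d * (g ^ n * (d ^ n)⁻¹)⁻¹
      have e : g ^ n * (d ^ n)⁻¹ * d * (g ^ n * (d ^ n)⁻¹)⁻¹ = g ^ n * ((d ^ n)⁻¹ * d * d ^ n) * (g ^ n)⁻¹ := by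
        group
      have e2 : (d ^ n)⁻¹ * d * d ^ n = d := by
        rw [mul_assoc, (Commute.self_pow d n).eq, inv_mul_cancel_left]
      rw [e, e2])
  refine ⟨x, hx, k, ?_⟩
  have h1 : g * (x * d * x⁻¹) * g⁻¹ = x * d * x⁻¹ := congrArg CX.val (hfix g (mem_zpowers g))
  set e := x * d * x⁻¹ with he
  have hcomm : Commute g e := mul_inv_eq_iff_eq_mul.mp h1
  -- `g e⁻¹ ∈ Q`
  have h2 : g * e⁻¹ ∈ Q U C p := by
    have h3 : e * d⁻¹ ∈ Q U C p := by
      rw [he, show x * d * x⁻¹ * d⁻¹ = x * (d * x⁻¹ * d⁻¹) by group]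
      exact mul_mem hx (hnorm d hdC _ (inv_mem hx))
    have h4 := mul_mem hk (inv_mem h3)
    have e5 : g * d⁻¹ * (e * d⁻¹)⁻¹ = g * e⁻¹ := by group
    rwa [e5] at h4
  obtain ⟨n, hn⟩ := exists_pow_of_mem_Q h hp h2
  have h5 : Odd (orderOf (g * e⁻¹)) := by
    have h6 : orderOf (g * e⁻¹) ∣ (orderOf g).lcm (orderOf e⁻¹) := (hcomm.inv_right).orderOf_mul_dvd_lcm
    have h7 : Odd (orderOf e⁻¹) := by
      rw [orderOf_inv]
      have h8 : orderOf e = orderOf d := by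
        have := orderOf_injective (MulAut.conj x).toMonoidHom (MulAut.conj x).injective d
        simpa [he] using this
      rw [h8]
      exact Odd.of_dvd_nat hf.odd (orderOf_pow_dvd k)
    refine Odd.of_dvd_nat (Odd.mul ho h7) (h6.trans (Nat.lcm_dvd_mul _ _))
  have h6 := eq_one_of_odd h5 hn
  rw [mul_inv_eq_one] at h6
  exact h6

/-! ### (A9) -/

/-- (A9) in strong form -/
theorem exists_four (h : Tri V U C) (hp : Pt V p) (hq : Pt V q) (hpq : p ≠ q) :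
    ∃ c ∈ centralizer (V : Set G), c * c ∉ Q U C p := by
  by_contra hcon
  push Not at hcon
  -- the same for `q`
  have key : ∀ p q : G, Pt V p → Pt V q → p ≠ q → (∀ c ∈ centralizer (V : Set G), c * c ∈ Q U C p) →
      ∀ c ∈ centralizer (V : Set G), ∀ e ∈ U p ⊓ U q, c * e * c⁻¹ = e ∨ c * e * c⁻¹ = p * e := by
    intro p q hp hq hpq hcon c hc e he
    obtain ⟨t, ht, htQ⟩ := h.exists_t hp hq hpq
    have htV := h.U_le_centV hq ht
    have htC := h.centV_le hp htV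
    have hcC := h.centV_le hp hc
    by_cases hcQ : c ∈ Q U C p
    · exact ((h.mem_Q_iff hp).mp hcQ).2 e he.1
    · obtain ⟨n, hn⟩ := exists_pow_of_mem_centV h hp (mul_mem hc htV)
      have h1 := mul_mem_Q h hp hcC htC (hcon c hc) (by rw [h.sqU q hq t ht]; exact one_mem _) hcQ htQ
        (n := n) (by rw [hn]; exact one_mem _)
      have h2 : c * t * e * (c * t)⁻¹ = c * e * c⁻¹ := by
        have h3 : t * e = e * t := h.commU hq ht he.2
        calc c * t * e * (c * t)⁻¹ = c * (t * e) * t⁻¹ * c⁻¹ := by group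
          _ = c * e * c⁻¹ := by rw [h3]; group
      rw [← h2]
      exact ((h.mem_Q_iff hp).mp h1).2 e he.1
  have hcon' : ∀ c ∈ centralizer (V : Set G), c * c ∈ Q U C q := by
    obtain ⟨n, hn, h1, h2, h3, h4, h5, h6⟩ := h.exists_swap hp hq hpq
    intro c hc
    have h7 : n⁻¹ * c * n ∈ centralizer (V : Set G) := by
      refine mem_centralizer_iff.mpr fun v hv => ?_
      have h8 := mem_centralizer_iff.mp hc (n * v * n⁻¹) ((mem_normalizer_iff.mp hn v).mp hv)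
      calc v * (n⁻¹ * c * n) = n⁻¹ * ((n * v * n⁻¹) * c) * n := by group
        _ = n⁻¹ * (c * (n * v * n⁻¹)) * n := by rw [h8]
        _ = n⁻¹ * c * n * v := by group
    have h8 := conj_mem_cj (g := n) (hcon _ h7)
    have h9 : cj n (Q U C p) = Q U C q := by
      change cj n (kst (C p) (U p) p) = kst (C q) (U q) q
      rw [Tri.cj_kst, h5, h3, h1]
    rw [h9] at h8
    have e : n * (n⁻¹ * c * n * (n⁻¹ * c * n)) * n⁻¹ = c * c := by group
    rwa [e] at h8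
  obtain ⟨c, -, hc, e, he, hce⟩ := exists_move_E h hp hq hpq
  rcases key q p hq hp hpq.symm hcon' c hc e ⟨he.2, he.1⟩ with h1 | h1
  · rw [h1] at hce
    exact hp.2 (mul_eq_right.mp hce.symm)
  · rw [h1] at hce
    exact hpq (mul_right_cancel hce).symm

theorem relIndex_Q (h : Tri V U C) (hp : Pt V p) : (Q U C p).relIndex (C p) = 20 := by
  rcases h.idx p hp with h1 | h1
  · exfalso
    obtain ⟨q, hq, hpq⟩ := exists_other h hp
    obtain ⟨c, hc, hcc⟩ := exists_four h hp hq hpq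
    have hn : ((Q U C p).subgroupOf (C p)).Normal := by
      refine ⟨fun x hx l => ?_⟩
      rw [mem_subgroupOf] at hx ⊢
      exact conj_mem_of_normalizer (h.C_le_normQ hp) l.2 hx
    have h2 := Subgroup.pow_index_mem ((Q U C p).subgroupOf (C p)) (⟨c, h.centV_le hp hc⟩ : C p)
    rw [← Subgroup.relIndex, h1, mem_subgroupOf] at h2
    change c ^ 10 ∈ Q U C p at h2
    obtain ⟨n, hn⟩ := exists_pow_of_mem_centV h hp hc
    -- `c² ∈ ⟨c¹⁰⟩`
    have h3 : c ^ 2 ∈ Q U C p := by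
      have h4 : (c ^ 2) ^ 5 ∈ Q U C p := by rw [← pow_mul]; exact h2
      have h5 : Nat.Coprime 5 (orderOf (c ^ 2)) := by
        have h6 : orderOf (c ^ 2) ∣ 2 ^ n := (orderOf_pow_dvd 2).trans (orderOf_dvd_of_pow_eq_one hn)
        exact Nat.Coprime.coprime_dvd_right h6 (Nat.Coprime.pow_right n (by norm_num))
      obtain ⟨m, hm⟩ := exists_pow_eq_self_of_coprime h5
      rw [← hm]
      exact pow_mem h4 m
    rw [pow_two] at h3
    exact hcc h3
  · exact h1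

end Cfsg.Agent.Classification.TitsFin.TriQK
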