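import Mathlib

/-!
# A parity (transfer) lemma for an element of order dividing 4

`G` is a finite group without subgroup of index 2, `N` a subgroup of index 2 of `C_G(p)`. For a conjugate `x` of `p` and
`g ∈ C_G(x)` call `(x, g)` bad if `g ∉ N ^ x` (the subgroup of `C_G(x)` corresponding to `N`). If `k ^ 4 = 1` then
`2 * #{x : (x, k) bad} ≡ #{x : x commutes with k², (x, k²) bad}` modulo 4.
-/

set_option autoImplicit false

namespace Cfsg.Agent.Classification.TitsFin.TransferCount

open Equiv Equiv.Perm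

/-! ### permutations `σ` with `σ ^ 4 = 1` -/

section perm

variable {Y : Type*} [Fintype Y] [DecidableEq Y]

theorem card_support_of_mem {σ : Perm Y} (h4 : σ ^ 4 = 1) {c : Perm Y} (hc : c ∈ σ.cycleFactorsFinset) :
    c.support.card = 2 ∨ c.support.card = 4 := by
  have h1 : c.support.card ∈ σ.cycleType := by
    rw [cycleType_def]
    exact Multiset.mem_map_of_mem _ hc
  have h2 : c.support.card ∣ 4 := (dvd_of_mem_cycleType h1).trans (orderOf_dvd_of_pow_eq_one h4)
  have h3 : 2 ≤ c.support.card := two_le_of_mem_cycleType h1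
  have h5 : c.support.card ≤ 4 := Nat.le_of_dvd (by norm_num) h2
  interval_cases h : c.support.card
  · exact Or.inl rfl
  · norm_num at h2
  · exact Or.inr rfl

theorem exists_counts {σ : Perm Y} (h4 : σ ^ 4 = 1) :
    ∃ a b : ℕ, σ.support.card = 2 * a + 4 * b ∧ (σ ^ 2).support.card = 4 * b ∧
      (sign σ = 1 → Even (a + b)) := by
  classical
  set A := σ.cycleFactorsFinset with hA
  set A2 := A.filter (fun c => c.support.card = 2) with hA2
  set A4 := A.filter (fun c => c.support.card = 4) with hA4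
  have hdis : Disjoint A2 A4 := by
    rw [Finset.disjoint_left]
    intro c h1 h2
    rw [hA2, Finset.mem_filter] at h1
    rw [hA4, Finset.mem_filter] at h2
    omega
  have hun : A = A2 ∪ A4 := by
    ext c
    rw [Finset.mem_union, hA2, hA4, Finset.mem_filter, Finset.mem_filter]
    constructor
    · intro h
      rcases card_support_of_mem h4 h with h' | h'
      · exact Or.inl ⟨h, h'⟩
      · exact Or.inr ⟨h, h'⟩
    · rintro (h | h) <;> exact h.1
  have hsum : σ.cycleType.sum = 2 * A2.card + 4 * A4.card := by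
    rw [cycleType_def]
    change (∑ c ∈ A, c.support.card) = _
    rw [hun, Finset.sum_union hdis]
    have e2 : ∑ c ∈ A2, c.support.card = 2 * A2.card := by
      rw [Finset.sum_congr rfl (fun c hc => (Finset.mem_filter.mp hc).2), Finset.sum_const, smul_eq_mul,
        mul_comm]
    have e4 : ∑ c ∈ A4, c.support.card = 4 * A4.card := by
      rw [Finset.sum_congr rfl (fun c hc => (Finset.mem_filter.mp hc).2), Finset.sum_const, smul_eq_mul,
        mul_comm]
    rw [e2, e4]
  have hcard : Multiset.card σ.cycleType = A2.card + A4.card := by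
    rw [cycleType_def, Multiset.card_map]
    change A.card = _
    rw [hun, Finset.card_union_of_disjoint hdis]
  have hsupp : (σ ^ 2).support = A4.biUnion (fun c => c.support) := by
    ext y
    rw [mem_support, Finset.mem_biUnion]
    constructor
    · intro hy
      have hy1 : σ y ≠ y := by
        intro h
        apply hy
        rw [pow_two, mul_apply, h, h]
      have hc : σ.cycleOf y ∈ A := by
        rw [hA, cycleOf_mem_cycleFactorsFinset_iff, mem_support]
        exact hy1
      refine ⟨σ.cycleOf y, ?_, ?_⟩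
      · rw [hA4, Finset.mem_filter]
        refine ⟨hc, ?_⟩
        rcases card_support_of_mem h4 hc with h | h
        · exfalso
          have hcy : (σ.cycleOf y).IsCycle := isCycle_cycleOf σ hy1
          have h5 : (σ.cycleOf y) ^ 2 = 1 := by
            rw [← h, ← hcy.orderOf]
            exact pow_orderOf_eq_one _
          apply hy
          rw [← cycleOf_pow_apply_self, h5, one_apply]
        · exact h
      · rw [mem_support, cycleOf_apply_self]
        exact hy1
    · rintro ⟨c, hc, hyc⟩ h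
      rw [hA4, Finset.mem_filter] at hc
      have hcy : c.IsCycle := (mem_cycleFactorsFinset_iff.mp hc.1).1
      have hcc : c = σ.cycleOf y := by
        exact (cycle_is_cycleOf hyc hc.1)
      have h5 : (c ^ 2) y = y := by
        rw [hcc, cycleOf_pow_apply_self]
        exact h
      have h6 : c ^ 2 = 1 := hcy.pow_eq_one_iff.mpr ⟨y, mem_support.mp hyc, h5⟩
      have h7 := orderOf_dvd_of_pow_eq_one h6
      rw [hcy.orderOf, hc.2] at h7
      norm_num at h7
  refine ⟨A2.card, A4.card, ?_, ?_, ?_⟩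
  · rw [← sum_cycleType, hsum]
  · rw [hsupp, Finset.card_biUnion]
    · rw [Finset.sum_congr rfl (fun c hc => (Finset.mem_filter.mp hc).2), Finset.sum_const, smul_eq_mul,
        mul_comm]
    · intro c hc d hd hcd
      have h1 := cycleFactorsFinset_pairwise_disjoint σ (Finset.mem_filter.mp hc).1
        (Finset.mem_filter.mp hd).1 hcd
      exact disjoint_iff_disjoint_support.mp h1
  · intro hs
    rw [sign_of_cycleType, hsum, hcard] at hs
    have h1 : Even (2 * A2.card + 4 * A4.card + (A2.card + A4.card)) := by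
      by_contra hodd
      rw [Nat.not_even_iff_odd] at hodd
      rw [hodd.neg_one_pow] at hs
      exact absurd hs (by decide)
    rw [Nat.even_iff] at h1 ⊢
    omega

end perm

/-! ### points and bad pairs -/

variable {G : Type*} [Group G]

open Subgroup

/-- `x` is a conjugate of `p` -/
abbrev Pt (p : G) : Set G := {x | ∃ g : G, g * p * g⁻¹ = x}

/-- the element `g` of `C_G(x)` is not in the subgroup corresponding to `N ≤ C_G(p)` -/
def Bad (N : Subgroup G) (p x g : G) : Prop := ∃ h : G, h * p * h⁻¹ = x ∧ h⁻¹ * g * h ∉ N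

/-- the element `g` is in the subgroup of `C_G(x)` corresponding to `N ≤ C_G(p)` -/
def Good (N : Subgroup G) (p x g : G) : Prop := ∃ h : G, h * p * h⁻¹ = x ∧ h⁻¹ * g * h ∈ N

theorem conj_eq_iff {p g h : G} : g * p * g⁻¹ = h * p * h⁻¹ ↔ h⁻¹ * g ∈ centralizer ({p} : Set G) := by
  rw [mem_centralizer_singleton_iff]
  constructor
  · intro e
    calc h⁻¹ * g * p = h⁻¹ * (g * p * g⁻¹) * g := by group
      _ = p * (h⁻¹ * g) := by rw [e]; group
  · intro e
    calc g * p * g⁻¹ = h * (h⁻¹ * g * p) * g⁻¹ := by group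
      _ = h * p * h⁻¹ := by rw [e]; group

theorem mem_centralizer_of_conj {p x h g : G} (hx : h * p * h⁻¹ = x) :
    h⁻¹ * g * h ∈ centralizer ({p} : Set G) ↔ g * x = x * g := by
  rw [mem_centralizer_singleton_iff, ← hx]
  constructor
  · intro e
    calc g * (h * p * h⁻¹) = h * (h⁻¹ * g * h * p) * h⁻¹ := by group
      _ = h * p * h⁻¹ * g := by rw [e]; group
  · intro e
    calc h⁻¹ * g * h * p = h⁻¹ * (g * (h * p * h⁻¹)) * h := by group
      _ = p * (h⁻¹ * g * h) := by rw [e]; group

/-- `N` is a subgroup of index 2 of `C_G(p)` -/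
structure IsHalf (N : Subgroup G) (p : G) : Prop where
  le : N ≤ centralizer ({p} : Set G)
  index : N.relIndex (centralizer ({p} : Set G)) = 2

namespace IsHalf

variable {N : Subgroup G} {p : G}

theorem mul_mem_iff (h : IsHalf N p) {a b : G} (ha : a ∈ centralizer ({p} : Set G))
    (hb : b ∈ centralizer ({p} : Set G)) : a * b ∈ N ↔ (a ∈ N ↔ b ∈ N) := by
  have h1 := mul_mem_iff_of_index_two (H := N.subgroupOf (centralizer ({p} : Set G))) h.index
    (a := ⟨a, ha⟩) (b := ⟨b, hb⟩)
  simpa [mem_subgroupOf] using h1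

theorem conj_mem_iff (h : IsHalf N p) {a c : G} (ha : a ∈ centralizer ({p} : Set G))
    (hc : c ∈ centralizer ({p} : Set G)) : c⁻¹ * a * c ∈ N ↔ a ∈ N := by
  rw [h.mul_mem_iff (mul_mem (inv_mem hc) ha) hc, h.mul_mem_iff (inv_mem hc) ha, inv_mem_iff]
  tauto

theorem good_iff (h : IsHalf N p) {x g t : G} (hx : t * p * t⁻¹ = x) (hg : g * x = x * g) :
    Good N p x g ↔ t⁻¹ * g * t ∈ N := by
  constructor
  · rintro ⟨s, hs, hsN⟩
    have h1 : s⁻¹ * t ∈ centralizer ({p} : Set G) := conj_eq_iff.mp (hx.trans hs.symm)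
    have h2 := (h.conj_mem_iff ((mem_centralizer_of_conj hs).mpr hg) h1).mpr hsN
    have e : (s⁻¹ * t)⁻¹ * (s⁻¹ * g * s) * (s⁻¹ * t) = t⁻¹ * g * t := by group
    rwa [e] at h2
  · intro h1
    exact ⟨t, hx, h1⟩

theorem bad_iff (h : IsHalf N p) {x g t : G} (hx : t * p * t⁻¹ = x) (hg : g * x = x * g) :
    Bad N p x g ↔ t⁻¹ * g * t ∉ N := by
  constructor
  · rintro ⟨s, hs, hsN⟩ hcon
    exact hsN ((h.good_iff hs hg).mp ((h.good_iff hx hg).mpr hcon))
  · intro h1
    exact ⟨t, hx, h1⟩

theorem bad_iff_not_good (h : IsHalf N p) {x g : G} (hx : x ∈ Pt p) (hg : g * x = x * g) :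
    Bad N p x g ↔ ¬ Good N p x g := by
  obtain ⟨t, ht⟩ := hx
  rw [h.bad_iff ht hg, h.good_iff ht hg]

theorem commute_of_good (h : IsHalf N p) {x g : G} (hg : Good N p x g) : g * x = x * g := by
  obtain ⟨t, ht, h1⟩ := hg
  exact (mem_centralizer_of_conj ht).mp (h.le h1)

/-- the relation `(ab bad) ↔ (a bad xor b bad)` -/
theorem bad_mul_iff (h : IsHalf N p) {x a b : G} (hx : x ∈ Pt p) (ha : a * x = x * a) (hb : b * x = x * b) :
    Bad N p x (a * b) ↔ ¬ (Bad N p x a ↔ Bad N p x b) := by
  obtain ⟨t, ht⟩ := hx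
  have hab : a * b * x = x * (a * b) := by rw [mul_assoc, hb, ← mul_assoc, ha, mul_assoc]
  rw [h.bad_iff ht hab, h.bad_iff ht ha, h.bad_iff ht hb]
  have e : t⁻¹ * (a * b) * t = (t⁻¹ * a * t) * (t⁻¹ * b * t) := by group
  rw [e, h.mul_mem_iff ((mem_centralizer_of_conj ht).mpr ha) ((mem_centralizer_of_conj ht).mpr hb)]
  tauto

theorem not_bad_sq (h : IsHalf N p) {x a : G} (ha : a * x = x * a) : ¬ Bad N p x (a ^ 2) := by
  rintro ⟨t, ht, h1⟩
  apply h1
  have e : t⁻¹ * a ^ 2 * t = (t⁻¹ * a * t) * (t⁻¹ * a * t) := by rw [pow_two]; group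
  rw [e, h.mul_mem_iff ((mem_centralizer_of_conj ht).mpr ha) ((mem_centralizer_of_conj ht).mpr ha)]

/-- conjugation -/
theorem bad_conj_iff {x g c : G} : Bad N p (c * x * c⁻¹) (c * g * c⁻¹) ↔ Bad N p x g := by
  have key : ∀ {x g c : G}, Bad N p x g → Bad N p (c * x * c⁻¹) (c * g * c⁻¹) := by
    rintro x g c ⟨t, ht, h1⟩
    refine ⟨c * t, ?_, ?_⟩
    · rw [← ht]; group
    · have e : (c * t)⁻¹ * (c * g * c⁻¹) * (c * t) = t⁻¹ * g * t := by group
      rwa [e]
  constructor
  · intro h1
    have h2 := key (c := c⁻¹) h1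
    have e1 : c⁻¹ * (c * x * c⁻¹) * c⁻¹⁻¹ = x := by group
    have e2 : c⁻¹ * (c * g * c⁻¹) * c⁻¹⁻¹ = g := by group
    rwa [e1, e2] at h2
  · exact key

end IsHalf

/-! ### counting -/

theorem ncard_preimage {A B : Type*} [Finite A] (f : A → B) (T : Set B) (hT : T.Finite) (m : ℕ)
    (hm : ∀ b ∈ T, Set.ncard {a | f a = b} = m) : Set.ncard {a | f a ∈ T} = m * T.ncard := by
  classical
  have := Fintype.ofFinite A
  have e1 : Set.ncard {a | f a ∈ T} = (Finset.univ.filter (fun a => f a ∈ T)).card := by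
    rw [Set.ncard_eq_toFinset_card']
    congr 1
    ext a
    simp
  rw [e1, Finset.card_eq_sum_card_fiberwise (f := f) (t := hT.toFinset) (by
    intro a ha
    simpa using ha)]
  rw [Finset.sum_congr rfl (g := fun _ => m) ?_, Finset.sum_const, smul_eq_mul, mul_comm,
    Set.ncard_eq_toFinset_card T hT]
  intro b hb
  rw [Set.Finite.mem_toFinset] at hb
  rw [← hm b hb, Set.ncard_eq_toFinset_card']
  congr 1
  ext a
  simp only [Finset.mem_filter, Finset.mem_univ, true_and, Set.mem_toFinset, Set.mem_ofPred_eq]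
  constructor
  · rintro ⟨_, h⟩
    exact h
  · intro h
    exact ⟨h ▸ hb, h⟩

theorem ncard_fibre_pt [Finite G] {p x : G} (hx : x ∈ Pt p) :
    Set.ncard {g : G | g * p * g⁻¹ = x} = Nat.card (centralizer ({p} : Set G)) := by
  obtain ⟨t, ht⟩ := hx
  have e : {g : G | g * p * g⁻¹ = x} = (fun c => t * c) '' (centralizer ({p} : Set G) : Set G) := by
    ext g
    rw [Set.mem_ofPred_eq, Set.mem_image, ← ht, conj_eq_iff]
    constructor
    · intro h
      exact ⟨_, h, by group⟩
    · rintro ⟨c, hc, rfl⟩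
      have : t⁻¹ * (t * c) = c := by group
      rwa [this]
  rw [e, Set.ncard_image_of_injective _ (mul_right_injective t)]
  rfl

theorem ncard_fibre_quot [Finite G] (N : Subgroup G) (y : G ⧸ N) :
    Set.ncard {g : G | (g : G ⧸ N) = y} = Nat.card N := by
  obtain ⟨t, rfl⟩ := QuotientGroup.mk_surjective y
  have e : {g : G | (g : G ⧸ N) = (t : G ⧸ N)} = (fun c => t * c) '' (N : Set G) := by
    ext g
    rw [Set.mem_ofPred_eq, Set.mem_image, eq_comm, QuotientGroup.eq]
    constructor
    · intro h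
      exact ⟨_, h, by group⟩
    · rintro ⟨c, hc, rfl⟩
      have : t⁻¹ * (t * c) = c := by group
      rwa [this]
  rw [e, Set.ncard_image_of_injective _ (mul_right_injective t)]
  rfl

theorem IsHalf.card_eq {N : Subgroup G} {p : G} [Finite G] (h : IsHalf N p) :
    Nat.card (centralizer ({p} : Set G)) = 2 * Nat.card N := by
  have h1 := h.index
  have h2 := card_mul_index (N.subgroupOf (centralizer ({p} : Set G)))
  have h3 : Nat.card (N.subgroupOf (centralizer ({p} : Set G))) = Nat.card N :=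
    Nat.card_congr (subgroupOfEquivOfLe h.le).toEquiv
  rw [← h2, h3]
  have h4 : (N.subgroupOf (centralizer ({p} : Set G))).index = 2 := h1
  rw [h4, mul_comm]

/-- the number of fixed points of `g₀` on `G ⧸ N` -/
theorem IsHalf.ncard_fixed {N : Subgroup G} {p : G} [Finite G] (h : IsHalf N p) (g₀ : G) :
    Set.ncard {y : G ⧸ N | g₀ • y = y} = 2 * Set.ncard {x | Good N p x g₀} := by
  have h1 : Set.ncard {g : G | (g : G ⧸ N) ∈ {y : G ⧸ N | g₀ • y = y}} =
      Nat.card N * Set.ncard {y : G ⧸ N | g₀ • y = y} :=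
    ncard_preimage _ _ (Set.toFinite _) _ fun b _ => ncard_fibre_quot N b
  have h2 : Set.ncard {g : G | g * p * g⁻¹ ∈ {x | Good N p x g₀}} =
      Nat.card (centralizer ({p} : Set G)) * Set.ncard {x | Good N p x g₀} :=
    ncard_preimage _ _ (Set.toFinite _) _ fun b hb => ncard_fibre_pt (by
      obtain ⟨t, ht, _⟩ := hb
      exact ⟨t, ht⟩)
  have e : {g : G | (g : G ⧸ N) ∈ {y : G ⧸ N | g₀ • y = y}} =
      {g : G | g * p * g⁻¹ ∈ {x | Good N p x g₀}} := by
    ext g
    rw [Set.mem_ofPred_eq, Set.mem_ofPred_eq, Set.mem_ofPred_eq, Set.mem_ofPred_eq]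
    have e1 : g₀ • (g : G ⧸ N) = ((g₀ * g : G) : G ⧸ N) := rfl
    rw [e1, eq_comm, QuotientGroup.eq]
    have e2 : g⁻¹ * (g₀ * g) = g⁻¹ * g₀ * g := by group
    rw [e2]
    constructor
    · intro h3
      exact ⟨g, rfl, h3⟩
    · intro h3
      exact (h.good_iff rfl (h.commute_of_good h3)).mp h3
  rw [e, h2, h.card_eq] at h1
  have hN : 0 < Nat.card N := Nat.card_pos
  have h4 : Nat.card N * Set.ncard {y : G ⧸ N | g₀ • y = y} =
      Nat.card N * (2 * Set.ncard {x | Good N p x g₀}) := by
    rw [← h1]; ring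
  exact Nat.eq_of_mul_eq_mul_left hN h4

/-- a finite group without subgroups of index 2 acts by even permutations -/
theorem sign_eq_one (hG : ∀ M : Subgroup G, M.index ≠ 2) {Y : Type*} [Fintype Y] [DecidableEq Y]
    [MulAction G Y] (g : G) : sign (MulAction.toPerm g : Perm Y) = 1 := by
  let f : G →* ℤˣ := sign.comp (MulAction.toPermHom G Y)
  by_contra hne
  have hne' : f g ≠ 1 := hne
  have hg1 : f g = -1 := (Int.units_eq_one_or (f g)).resolve_left hne'
  apply hG f.ker
  rw [index_ker]
  have : f.range = ⊤ := by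
    rw [MonoidHom.range_eq_top]
    intro u
    rcases Int.units_eq_one_or u with rfl | rfl
    · exact ⟨1, map_one f⟩
    · exact ⟨g, hg1⟩
  rw [this, Subgroup.card_top]
  simp [Nat.card_eq_fintype_card]

/-- conjugation by `k` on the points -/
def ptPerm (p k : G) : Perm (Pt p) where
  toFun x := ⟨k * x * k⁻¹, by
    obtain ⟨t, ht⟩ := x.2
    exact ⟨k * t, by rw [← ht]; group⟩⟩
  invFun x := ⟨k⁻¹ * x * k, by
    obtain ⟨t, ht⟩ := x.2
    exact ⟨k⁻¹ * t, by rw [← ht]; group⟩⟩
  left_inv x := Subtype.ext (by simp [mul_assoc])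
  right_inv x := Subtype.ext (by simp [mul_assoc])

theorem ptPerm_apply (p k : G) (x : Pt p) : ((ptPerm p k x : Pt p) : G) = k * x * k⁻¹ := rfl

theorem ptPerm_mul (p a b : G) : ptPerm p (a * b) = ptPerm p a * ptPerm p b := by
  ext x
  rw [mul_apply, ptPerm_apply, ptPerm_apply, ptPerm_apply]
  group

theorem ptPerm_one (p : G) : ptPerm p 1 = 1 := by
  ext x
  rw [ptPerm_apply]
  simp

theorem ptPerm_pow (p a : G) (n : ℕ) : ptPerm p (a ^ n) = ptPerm p a ^ n := by
  induction n with
  | zero => rw [pow_zero, pow_zero, ptPerm_one]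
  | succ n ih => rw [pow_succ, pow_succ, ptPerm_mul, ih]

theorem card_support_ptPerm [Finite G] (p k : G) [Fintype (Pt p)] [DecidableEq (Pt p)] :
    (ptPerm p k).support.card + Set.ncard {x | x ∈ Pt p ∧ k * x = x * k} = Set.ncard (Pt p) := by
  classical
  have h1 : Set.ncard {x | x ∈ Pt p ∧ k * x = x * k} =
      (Finset.univ.filter (fun x : Pt p => ptPerm p k x = x)).card := by
    have e : {x | x ∈ Pt p ∧ k * x = x * k} = Subtype.val '' {x : Pt p | ptPerm p k x = x} := by
      ext x
      constructor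
      · rintro ⟨hx, hk⟩
        refine ⟨⟨x, hx⟩, Subtype.ext ?_, rfl⟩
        rw [ptPerm_apply]
        change k * x * k⁻¹ = x
        rw [hk, mul_inv_cancel_right]
      · rintro ⟨y, hy, rfl⟩
        refine ⟨y.2, ?_⟩
        have := congrArg Subtype.val hy
        rw [ptPerm_apply] at this
        calc k * (y : G) = k * y * k⁻¹ * k := by group
          _ = y * k := by rw [this]
    rw [e, Set.ncard_image_of_injective _ Subtype.val_injective, Set.ncard_eq_toFinset_card']
    congr 1
    ext x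
    rw [Set.mem_toFinset, Finset.mem_filter]
    exact ⟨fun hx => ⟨Finset.mem_univ _, hx⟩, fun hx => hx.2⟩
  have h2 : Set.ncard (Pt p) = (Finset.univ : Finset (Pt p)).card := by
    rw [Finset.card_univ, ← Nat.card_eq_fintype_card]
    rfl
  rw [h1, h2, ← Finset.card_filter_add_card_filter_not (s := (Finset.univ : Finset (Pt p)))
    (fun x : Pt p => ptPerm p k x ≠ x)]
  congr 1
  congr 1
  ext x
  simp

/-- **Parity theorem.** -/
theorem IsHalf.parity {N : Subgroup G} {p : G} [Finite G] (h : IsHalf N p) (hG : ∀ M : Subgroup G, M.index ≠ 2)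
    {k : G} (hk : k ^ 4 = 1) :
    4 ∣ (2 * Set.ncard {x | x ∈ Pt p ∧ k * x = x * k ∧ Bad N p x k} +
      Set.ncard {x | x ∈ Pt p ∧ k ^ 2 * x = x * k ^ 2 ∧ Bad N p x (k ^ 2)}) := by
  classical
  have := Fintype.ofFinite (G ⧸ N)
  have := Fintype.ofFinite (Pt p)
  -- the action on `G ⧸ N`
  set σ : Perm (G ⧸ N) := MulAction.toPerm k with hσ
  have hσ' : σ = MulAction.toPermHom G (G ⧸ N) k := rfl
  have hσ4 : σ ^ 4 = 1 := by rw [hσ', ← map_pow, hk, map_one]
  have hσ2 : σ ^ 2 = MulAction.toPerm (k ^ 2) := by rw [hσ', ← map_pow]; rfl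
  obtain ⟨a, b, h1, h2, h3⟩ := exists_counts hσ4
  have h4 := h3 (sign_eq_one hG k)
  -- the action on the points
  have hτ4 : ptPerm p k ^ 4 = 1 := by rw [← ptPerm_pow, hk, ptPerm_one]
  obtain ⟨a', b', h1', h2', -⟩ := exists_counts hτ4
  rw [← ptPerm_pow] at h2'
  have e1 := card_support_ptPerm p k
  have e2 := card_support_ptPerm p (k ^ 2)
  -- fixed points on `G ⧸ N`
  have hfix : ∀ g : G, (MulAction.toPerm g : Perm (G ⧸ N)).support.card + 2 * Set.ncard {x | Good N p x g} =
      Nat.card (G ⧸ N) := by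
    intro g
    rw [← h.ncard_fixed g, Nat.card_eq_fintype_card, ← Finset.card_univ,
      ← Finset.card_filter_add_card_filter_not (s := (Finset.univ : Finset (G ⧸ N)))
      (fun y : G ⧸ N => g • y ≠ y)]
    have a1 : (MulAction.toPerm g : Perm (G ⧸ N)).support = Finset.univ.filter (fun y : G ⧸ N => g • y ≠ y) := by
      ext x
      rw [mem_support, Finset.mem_filter]
      exact ⟨fun hx => ⟨Finset.mem_univ _, hx⟩, fun hx => hx.2⟩
    have a2 : Set.ncard {y : G ⧸ N | g • y = y} =
        (Finset.univ.filter (fun y : G ⧸ N => ¬ g • y ≠ y)).card := by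
      rw [Set.ncard_eq_toFinset_card']
      congr 1
      ext x
      rw [Set.mem_toFinset, Finset.mem_filter, not_not]
      exact ⟨fun hx => ⟨Finset.mem_univ _, hx⟩, fun hx => hx.2⟩
    rw [a1, a2]
  have htot : Nat.card (G ⧸ N) = 2 * Set.ncard (Pt p) := by
    have h5 := hfix 1
    have h6 : (MulAction.toPerm (1 : G) : Perm (G ⧸ N)).support.card = 0 := by
      rw [Finset.card_eq_zero, Finset.eq_empty_iff_forall_notMem]
      intro x hx
      rw [mem_support] at hx
      exact hx (one_smul G x)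
    have h7 : {x | Good N p x 1} = Pt p := by
      ext x
      constructor
      · rintro ⟨t, ht, -⟩
        exact ⟨t, ht⟩
      · rintro ⟨t, ht⟩
        exact ⟨t, ht, by simp [one_mem]⟩
    rw [h6, h7, zero_add] at h5
    exact h5.symm
  have hgb : ∀ g : G, Set.ncard {x | x ∈ Pt p ∧ g * x = x * g} =
      Set.ncard {x | Good N p x g} + Set.ncard {x | x ∈ Pt p ∧ g * x = x * g ∧ Bad N p x g} := by
    intro g
    rw [← Set.ncard_union_eq]
    · congr 1
      ext x
      constructor
      · rintro ⟨hx, hg⟩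
        by_cases hb : Bad N p x g
        · exact Or.inr ⟨hx, hg, hb⟩
        · left
          by_contra hcon
          exact hb ((h.bad_iff_not_good hx hg).mpr hcon)
      · rintro (hx | hx)
        · refine ⟨?_, h.commute_of_good hx⟩
          obtain ⟨t, ht, -⟩ := hx
          exact ⟨t, ht⟩
        · exact ⟨hx.1, hx.2.1⟩
    · rw [Set.disjoint_left]
      rintro x hx ⟨hx1, hx2, hx3⟩
      exact (h.bad_iff_not_good hx1 hx2).mp hx3 hx
  have f1 := hfix k
  have f2 := hfix (k ^ 2)
  rw [← hσ, h1] at f1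
  rw [← hσ2, h2] at f2
  have g1 := hgb k
  have g2 := hgb (k ^ 2)
  rw [h1'] at e1
  rw [h2'] at e2
  rw [htot] at f1 f2
  obtain ⟨m, hm⟩ := h4
  rw [Nat.dvd_iff_mod_eq_zero]
  omega

end Cfsg.Agent.Classification.TitsFin.TransferCount
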