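import Mathlib
import Cfsg.Agent.Classification.TitsFin.TransferCount

/-!
# The end of the case `|C_G(U_z)| = 64` (groups of `²F₄(2)` type)

`TwoFEnd.false_of`: a transfer argument. `N` is a subgroup of index 2 of `C_G(z)`, `K` an abelian 2-group with
`C_G(K) ≤ K`, `K ∩ N = U` elementary abelian, `[K, Q] ≤ U`, `[U, Q] ≤ ⟨z⟩`.
-/

set_option autoImplicit false

namespace Cfsg.Agent.Classification.TitsFin.TwoFEnd

open Subgroup TransferCount

variable {G : Type*}

/-- a set with a fixed point free involution has even cardinality -/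
theorem even_of_involution [Finite G] {S : Set G} (f : G → G) (hf : ∀ x ∈ S, f x ∈ S)
    (hff : ∀ x ∈ S, f (f x) = x) (hne : ∀ x ∈ S, f x ≠ x) : Even S.ncard := by
  classical
  have := Fintype.ofFinite G
  rw [Set.ncard_eq_toFinset_card', even_iff_two_dvd, ← CharP.cast_eq_zero_iff (ZMod 2) 2,
    Finset.card_eq_sum_ones, Nat.cast_sum]
  refine Finset.sum_involution (fun x _ => f x) ?_ ?_ ?_ ?_
  · intro x _
    decide
  · intro x hx _
    exact hne x (by simpa using hx)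
  · intro x hx
    have := hf x (by simpa using hx)
    simpa using this
  · intro x hx
    exact hff x (by simpa using hx)

variable [Group G]

/-! ### orbits of a subgroup under conjugation -/

/-- the `K`-conjugates of `x` -/
def orb (K : Subgroup G) (x : G) : Set G := {y | ∃ k ∈ K, k * x * k⁻¹ = y}

theorem self_mem_orb (K : Subgroup G) (x : G) : x ∈ orb K x := ⟨1, K.one_mem, by simp⟩

theorem orb_eq_of_mem {K : Subgroup G} {x y : G} (h : y ∈ orb K x) : orb K y = orb K x := by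
  obtain ⟨k, hk, rfl⟩ := h
  ext w
  constructor
  · rintro ⟨l, hl, rfl⟩
    exact ⟨l * k, K.mul_mem hl hk, by group⟩
  · rintro ⟨l, hl, rfl⟩
    exact ⟨l * k⁻¹, K.mul_mem hl (K.inv_mem hk), by group⟩

theorem ncard_orb [Finite G] (K : Subgroup G) (x : G) :
    Set.ncard (orb K x) = (centralizer ({x} : Set G)).relIndex K := by
  have h1 : Set.ncard {k : K | (k : G) * x * (k : G)⁻¹ ∈ orb K x} =
      Nat.card (K ⊓ centralizer ({x} : Set G) : Subgroup G) * Set.ncard (orb K x) := by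
    refine ncard_preimage (fun k : K => (k : G) * x * (k : G)⁻¹) (orb K x) (Set.toFinite _) _ ?_
    rintro _ ⟨t, ht, rfl⟩
    have e : Subtype.val '' {k : K | (k : G) * x * (k : G)⁻¹ = t * x * t⁻¹} =
        (fun c => t * c) '' ((K ⊓ centralizer ({x} : Set G) : Subgroup G) : Set G) := by
      ext g
      constructor
      · rintro ⟨k, hk, rfl⟩
        refine ⟨t⁻¹ * k, ⟨K.mul_mem (K.inv_mem ht) k.2, ?_⟩, by simp⟩
        exact conj_eq_iff.mp hk
      · rintro ⟨c, ⟨hc1, hc2⟩, rfl⟩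
        refine ⟨⟨t * c, K.mul_mem ht hc1⟩, ?_, rfl⟩
        change t * c * x * (t * c)⁻¹ = t * x * t⁻¹
        rw [conj_eq_iff]
        have : t⁻¹ * (t * c) = c := by group
        rwa [this]
    rw [← Set.ncard_image_of_injective _ Subtype.val_injective, e,
      Set.ncard_image_of_injective _ (mul_right_injective t)]
    rfl
  have h2 : {k : K | (k : G) * x * (k : G)⁻¹ ∈ orb K x} = Set.univ := by
    ext k
    simp only [Set.mem_ofPred_eq, Set.mem_univ, iff_true]
    exact ⟨k, k.2, rfl⟩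
  rw [h2, Set.ncard_univ] at h1
  have h3 := card_mul_index ((centralizer ({x} : Set G)).subgroupOf K)
  have h4 : Nat.card ((centralizer ({x} : Set G)).subgroupOf K) =
      Nat.card (K ⊓ centralizer ({x} : Set G) : Subgroup G) := by
    rw [← inf_subgroupOf_left]
    exact Nat.card_congr (subgroupOfEquivOfLe inf_le_left).toEquiv
  rw [h4] at h3
  have hpos : 0 < Nat.card (K ⊓ centralizer ({x} : Set G) : Subgroup G) := Nat.card_pos
  have h5 := h3.trans h1
  exact (Nat.eq_of_mul_eq_mul_left hpos h5).symm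

/-- a conjugation invariant set all of whose orbits have length divisible by `m` -/
theorem dvd_ncard [Finite G] {K : Subgroup G} {S : Set G} {m : ℕ}
    (hS : ∀ x ∈ S, ∀ k ∈ K, k * x * k⁻¹ ∈ S) (hm : ∀ x ∈ S, m ∣ (centralizer ({x} : Set G)).relIndex K) :
    m ∣ S.ncard := by
  classical
  have := Fintype.ofFinite G
  rw [Set.ncard_eq_toFinset_card', Finset.card_eq_sum_card_image (orb K)]
  refine Finset.dvd_sum fun o ho => ?_
  rw [Finset.mem_image] at ho
  obtain ⟨x, hx, rfl⟩ := ho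
  rw [Set.mem_toFinset] at hx
  have e : (S.toFinset.filter (fun a => orb K a = orb K x)).card = Set.ncard (orb K x) := by
    rw [Set.ncard_eq_toFinset_card']
    congr 1
    ext y
    rw [Finset.mem_filter, Set.mem_toFinset, Set.mem_toFinset]
    constructor
    · rintro ⟨_, h⟩
      rw [← h]
      exact self_mem_orb K y
    · intro h
      refine ⟨?_, orb_eq_of_mem h⟩
      obtain ⟨k, hk, rfl⟩ := h
      exact hS x hx k hk
  rw [e, ncard_orb]
  exact hm x hx

/-- modulo 2 only the elements centralized by the 2-group `K` count -/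
theorem even_iff_of_pGroup [Finite G] {K : Subgroup G} (hK : IsPGroup 2 K) {S : Set G}
    (hS : ∀ x ∈ S, ∀ k ∈ K, k * x * k⁻¹ ∈ S) :
    Even S.ncard ↔ Even (S ∩ (centralizer (K : Set G) : Set G)).ncard := by
  have h1 : 2 ∣ (S \ (centralizer (K : Set G) : Set G)).ncard := by
    refine dvd_ncard (K := K) ?_ ?_
    · rintro x ⟨hx, hx2⟩ k hk
      refine ⟨hS x hx k hk, fun hc => hx2 ?_⟩
      rw [SetLike.mem_coe, mem_centralizer_iff] at hc ⊢
      intro l hl
      have h2 := hc (k * l * k⁻¹) (K.mul_mem (K.mul_mem hk hl) (K.inv_mem hk))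
      calc l * x = k⁻¹ * (k * l * k⁻¹ * (k * x * k⁻¹)) * k := by group
        _ = x * l := by rw [h2]; group
    · rintro x ⟨hx, hx2⟩
      obtain ⟨n, hn⟩ := IsPGroup.iff_card.mp hK
      have h2 : (centralizer ({x} : Set G)).relIndex K ∣ 2 ^ n := by
        rw [← hn]; exact relIndex_dvd_card _ _
      obtain ⟨j, -, hj⟩ := (Nat.dvd_prime_pow Nat.prime_two).mp h2
      rw [hj]
      rcases Nat.eq_zero_or_pos j with rfl | hj0
      · exfalso
        rw [pow_zero, relIndex_eq_one] at hj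
        apply hx2
        rw [SetLike.mem_coe, mem_centralizer_iff]
        intro k hk
        exact mem_centralizer_singleton_iff.mp (hj hk)
      · exact dvd_pow_self 2 hj0.ne'
  have h3 := Set.ncard_inter_add_ncard_sdiff_eq_ncard S (centralizer (K : Set G) : Set G) (Set.toFinite _)
  rw [← h3, Nat.even_add]
  have h4 : Even (S \ (centralizer (K : Set G) : Set G)).ncard := even_iff_two_dvd.mpr h1
  tauto

/-- The situation. -/
structure Data (z : G) (N K U Q : Subgroup G) : Prop where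
  half : IsHalf N z
  z_sq : z * z = 1
  z_ne : z ≠ 1
  z_mem : z ∈ U
  U_le : U ≤ K
  K_comm : ∀ a ∈ K, ∀ b ∈ K, a * b = b * a
  K_two : IsPGroup 2 K
  K_cent : centralizer (K : Set G) ≤ K
  K_sq : ∀ k ∈ K, k * k = 1 ∨ k * k = z
  U_sq : ∀ u ∈ U, u * u = 1
  K_N : ∀ k ∈ K, k ∈ N ↔ k ∈ U
  exists_k : ∃ k ∈ K, k ∉ U
  K_le : K ≤ Q
  Q_le : Q ≤ centralizer ({z} : Set G)
  KQ : ∀ y ∈ Q, ∀ k ∈ K, y⁻¹ * k * y * k⁻¹ ∈ U
  UQ : ∀ y ∈ Q, ∀ u ∈ U, y⁻¹ * u * y = u ∨ y⁻¹ * u * y = u * z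
  rho : ∀ y ∈ Q, ∀ k ∈ K, k ∉ U → y⁻¹ * k * y = k → y ∈ K
  Q_sq : ∀ y ∈ Q, y * y ∈ K
  Q_big : 8 ∣ K.relIndex Q
  pt_swap : ∀ x ∈ Pt z, x ∈ U → x ≠ z → ∃ y ∈ Q, y * x * y⁻¹ = x * z
  pt_good : ∀ x ∈ Pt z, x ∈ U → x ≠ z → ∀ u ∈ U, ¬ Bad N z x u
  pt_orb : (∃ k ∈ K, k * k = z) → ∀ x ∈ Pt z, z * x = x * z → x ∉ K →
    2 < (centralizer ({x} : Set G)).relIndex K

namespace Data

variable {z : G} {N K U Q : Subgroup G}

theorem conj_mem_K (h : Data z N K U Q) {y k : G} (hy : y ∈ Q) (hk : k ∈ K) : y⁻¹ * k * y ∈ K := by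
  have h1 := K.mul_mem (h.U_le (h.KQ y hy k hk)) hk
  have e : y⁻¹ * k * y * k⁻¹ * k = y⁻¹ * k * y := by group
  rwa [e] at h1

theorem conj_mem_K' (h : Data z N K U Q) {y k : G} (hy : y ∈ Q) (hk : k ∈ K) : y * k * y⁻¹ ∈ K := by
  have h1 := h.conj_mem_K (Q.inv_mem hy) hk
  rwa [inv_inv] at h1

theorem conj_mem_U_iff (h : Data z N K U Q) {y k : G} (hy : y ∈ Q) (hk : k ∈ K) :
    y * k * y⁻¹ ∈ U ↔ k ∈ U := by
  have h1 := h.KQ y⁻¹ (Q.inv_mem hy) k hk
  rw [inv_inv] at h1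
  constructor
  · intro h2
    have h3 := U.mul_mem (U.inv_mem h1) h2
    have e : (y * k * y⁻¹ * k⁻¹)⁻¹ * (y * k * y⁻¹) = k := by group
    rwa [e] at h3
  · intro h2
    have h3 := U.mul_mem h1 h2
    have e : y * k * y⁻¹ * k⁻¹ * k = y * k * y⁻¹ := by group
    rwa [e] at h3

theorem pt_conj {z x y : G} (hx : x ∈ Pt z) : y * x * y⁻¹ ∈ Pt z := by
  obtain ⟨t, rfl⟩ := hx
  exact ⟨y * t, by group⟩

/-- `(y x y⁻¹, k)` and `(x, y⁻¹ k y)` -/
theorem bad_conj {N : Subgroup G} {z x y k : G} :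
    Bad N z (y * x * y⁻¹) k ↔ Bad N z x (y⁻¹ * k * y) := by
  rw [← IsHalf.bad_conj_iff (N := N) (p := z) (x := x) (g := y⁻¹ * k * y) (c := y)]
  have e : y * (y⁻¹ * k * y) * y⁻¹ = k := by group
  rw [e]

section

variable [Finite G]

/-- the points of `U` contribute an odd number -/
theorem odd_U (h : Data z N K U Q) {k : G} (hk : k ∈ K) (hkU : k ∉ U) :
    ¬ Even (Set.ncard {x | x ∈ Pt z ∧ x ∈ U ∧ Bad N z x k}) := by
  set S : Set G := {x | x ∈ Pt z ∧ x ∈ U ∧ x ≠ z ∧ Bad N z x k} with hS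
  have hcomm : ∀ x ∈ U, k * x = x * k := fun x hx => h.K_comm k hk x (h.U_le hx)
  have hz : z ∈ Pt z := ⟨1, by simp⟩
  have hbz : Bad N z z k := by
    rw [h.half.bad_iff (t := 1) (by simp) (hcomm z h.z_mem)]
    simp only [inv_one, one_mul, mul_one]
    rw [h.K_N k hk]
    exact hkU
  have e : {x | x ∈ Pt z ∧ x ∈ U ∧ Bad N z x k} = insert z S := by
    ext x
    rw [Set.mem_insert_iff]
    constructor
    · rintro ⟨h1, h2, h3⟩
      by_cases hx : x = z
      · exact Or.inl hx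
      · exact Or.inr ⟨h1, h2, hx, h3⟩
    · rintro (rfl | ⟨h1, h2, h3, h4⟩)
      · exact ⟨hz, h.z_mem, hbz⟩
      · exact ⟨h1, h2, h4⟩
  have hev : Even S.ncard := by
    refine even_of_involution (fun x => x * z) ?_ ?_ ?_
    · rintro x ⟨h1, h2, h3, h4⟩
      obtain ⟨y, hy, hyx⟩ := h.pt_swap x h1 h2 h3
      refine ⟨hyx ▸ pt_conj h1, U.mul_mem h2 h.z_mem, fun e => ?_, ?_⟩
      · have hx1 : x = 1 := by simpa using e
        obtain ⟨t, ht⟩ := h1
        apply h.z_ne
        have : z = t⁻¹ * (t * z * t⁻¹) * t := by group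
        rw [this, ht, hx1]; group
      · have h5 : k * x = x * k := hcomm x h2
        have h6 := h.KQ y hy k hk
        have h7 := h.pt_good x h1 h2 h3 _ h6
        change Bad N z (x * z) k
        rw [← hyx, bad_conj]
        have e2 : y⁻¹ * k * y = (y⁻¹ * k * y * k⁻¹) * k := by group
        rw [e2, h.half.bad_mul_iff h1 (h.K_comm _ (h.U_le h6) _ (h.U_le h2)) h5]
        tauto
    · rintro x -
      rw [mul_assoc, h.z_sq, mul_one]
    · rintro x - e
      exact h.z_ne (by simpa using e)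
  rw [e, Set.ncard_insert_of_notMem (fun hz' => hz'.2.2.1 rfl)]
  intro h1
  rw [Nat.even_add_one] at h1
  exact h1 hev

/-- the points of `K` outside `U` contribute an even number -/
theorem even_K (h : Data z N K U Q) {k : G} (hk : k ∈ K) :
    Even (Set.ncard {x | x ∈ Pt z ∧ x ∈ K ∧ x ∉ U ∧ Bad N z x k}) := by
  -- an element of `Q - K`
  obtain ⟨y, hy, hyK⟩ : ∃ y ∈ Q, y ∉ K := by
    by_contra hcon
    push Not at hcon
    have : K.relIndex Q = 1 := relIndex_eq_one.mpr hcon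
    have h2 := h.Q_big
    rw [this] at h2
    norm_num at h2
  set u := y⁻¹ * k * y * k⁻¹ with hu
  have huU : u ∈ U := h.KQ y hy k hk
  have hyk : y⁻¹ * k * y = u * k := by rw [hu]; group
  -- `y` commutes with `u`
  have hyu : y⁻¹ * u * y = u := by
    have h1 : (y * y)⁻¹ * k * (y * y) = k := by
      rw [h.K_comm _ (K.inv_mem (h.Q_sq y hy)) k hk]; group
    have h2 : (y⁻¹ * u * y) * (u * k) = k := by
      calc (y⁻¹ * u * y) * (u * k) = (y⁻¹ * u * y) * (y⁻¹ * k * y) := by rw [hyk]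
        _ = y⁻¹ * (u * k) * y := by group
        _ = y⁻¹ * (y⁻¹ * k * y) * y := by rw [hyk]
        _ = (y * y)⁻¹ * k * (y * y) := by group
        _ = k := h1
    have h3 : (y⁻¹ * u * y) * u = 1 := by
      have : (y⁻¹ * u * y) * u * k = 1 * k := by rw [mul_assoc, h2, one_mul]
      exact mul_right_cancel this
    rw [mul_eq_one_iff_eq_inv.mp h3, inv_eq_of_mul_eq_one_left (h.U_sq u huU)]
  set X : Set G := {x | x ∈ Pt z ∧ x ∈ K ∧ x ∉ U} with hX
  have hXc : ∀ w ∈ Q, ∀ x ∈ X, w * x * w⁻¹ ∈ X := by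
    rintro w hw x ⟨h1, h2, h3⟩
    exact ⟨pt_conj h1, h.conj_mem_K' hw h2, fun h4 => h3 ((h.conj_mem_U_iff hw h2).mp h4)⟩
  have hcom : ∀ x ∈ X, ∀ a ∈ K, a * x = x * a := fun x hx a ha => h.K_comm a ha x hx.2.1
  -- the effect of `y`
  have hbk : ∀ x ∈ X, (Bad N z (y * x * y⁻¹) k ↔ ¬ (Bad N z x u ↔ Bad N z x k)) := by
    intro x hx
    rw [bad_conj, hyk, h.half.bad_mul_iff hx.1 (hcom x hx u (h.U_le huU)) (hcom x hx k hk)]
  have hbu : ∀ x ∈ X, (Bad N z (y * x * y⁻¹) u ↔ Bad N z x u) := by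
    intro x _
    rw [bad_conj, hyu]
  -- `X₁`
  set X₁ : Set G := {x | x ∈ X ∧ Bad N z x u} with hX₁
  have h4 : 4 ∣ X₁.ncard := by
    refine dvd_ncard (K := Q ⊓ centralizer ({u} : Set G)) ?_ ?_
    · rintro x ⟨hx, hxu⟩ w ⟨hw, hwu⟩
      refine ⟨hXc w hw x hx, ?_⟩
      rw [bad_conj]
      have : w⁻¹ * u * w = u := by
        rw [mul_assoc, ← mem_centralizer_singleton_iff.mp hwu, inv_mul_cancel_left]
      rwa [this]
    · rintro x ⟨hx, -⟩
      have hK1 : K ≤ Q ⊓ centralizer ({u} : Set G) := fun a ha =>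
        ⟨h.K_le ha, mem_centralizer_singleton_iff.mpr (h.K_comm a ha u (h.U_le huU))⟩
      have e1 : (centralizer ({x} : Set G)).relIndex (Q ⊓ centralizer ({u} : Set G)) =
          K.relIndex (Q ⊓ centralizer ({u} : Set G)) := by
        rw [← inf_relIndex_right]
        congr 1
        refine le_antisymm ?_ ?_
        · rintro w ⟨hw1, hw2, -⟩
          refine h.rho w hw2 x hx.2.1 hx.2.2 ?_
          rw [mul_assoc, ← mem_centralizer_singleton_iff.mp hw1, inv_mul_cancel_left]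
        · intro a ha
          exact ⟨mem_centralizer_singleton_iff.mpr (hcom x hx a ha), hK1 ha⟩
      rw [e1]
      have e2 : K.relIndex (Q ⊓ centralizer ({u} : Set G)) *
          (Q ⊓ centralizer ({u} : Set G)).relIndex Q = K.relIndex Q :=
        relIndex_mul_relIndex _ _ _ hK1 inf_le_left
      have e3 : (Q ⊓ centralizer ({u} : Set G)).relIndex Q ≤ 2 := by
        rw [inf_relIndex_left, ← ncard_orb]
        have : orb Q u ⊆ {u, u * z} := by
          rintro _ ⟨w, hw, rfl⟩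
          have h5 := h.UQ w⁻¹ (Q.inv_mem hw) u huU
          rw [inv_inv] at h5
          rcases h5 with h5 | h5
          · exact Or.inl h5
          · exact Or.inr h5
        refine (Set.ncard_le_ncard this (Set.toFinite _)).trans ?_
        exact (Set.ncard_insert_le _ _).trans (by rw [Set.ncard_singleton])
      have h8 := h.Q_big
      rw [← e2] at h8
      have e4 : (Q ⊓ centralizer ({u} : Set G)).relIndex Q ≠ 0 := by
        rw [relIndex]
        exact index_ne_zero_of_finite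
      obtain h9 | h9 : (Q ⊓ centralizer ({u} : Set G)).relIndex Q = 1 ∨
          (Q ⊓ centralizer ({u} : Set G)).relIndex Q = 2 := by omega
      · rw [h9, mul_one] at h8
        exact (by norm_num : 4 ∣ 8).trans h8
      · rw [h9] at h8
        omega
  have h5 : X₁.ncard = 2 * Set.ncard {x | x ∈ X₁ ∧ Bad N z x k} := by
    have e1 : (fun x => y * x * y⁻¹) '' {x | x ∈ X₁ ∧ Bad N z x k} = {x | x ∈ X₁ ∧ ¬ Bad N z x k} := by
      ext w
      constructor
      · rintro ⟨x, ⟨⟨hx, hxu⟩, hxk⟩, rfl⟩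
        refine ⟨⟨hXc y hy x hx, (hbu x hx).mpr hxu⟩, fun hcon => ?_⟩
        have := (hbk x hx).mp hcon
        tauto
      · rintro ⟨⟨hw, hwu⟩, hwk⟩
        have hx : y⁻¹ * w * y ∈ X := by
          have := hXc y⁻¹ (Q.inv_mem hy) w hw
          rwa [inv_inv] at this
        have e : y * (y⁻¹ * w * y) * y⁻¹ = w := by group
        refine ⟨y⁻¹ * w * y, ⟨⟨hx, ?_⟩, ?_⟩, e⟩
        · have := hbu _ hx
          rw [e] at this
          exact this.mp hwu
        · have h6 := hbk _ hx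
          have h7 := hbu _ hx
          rw [e] at h6 h7
          tauto
    have e2 : Set.ncard {x | x ∈ X₁ ∧ ¬ Bad N z x k} = Set.ncard {x | x ∈ X₁ ∧ Bad N z x k} := by
      rw [← e1]
      exact Set.ncard_image_of_injective _ (fun a b hab => by simpa using hab)
    have e3 : X₁ = {x | x ∈ X₁ ∧ Bad N z x k} ∪ {x | x ∈ X₁ ∧ ¬ Bad N z x k} := by
      ext x
      constructor
      · intro hx
        by_cases hb : Bad N z x k
        · exact Or.inl ⟨hx, hb⟩
        · exact Or.inr ⟨hx, hb⟩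
      · rintro (hx | hx) <;> exact hx.1
    rw [e3, Set.ncard_union_eq, e2]
    · rw [← e3]; ring
    · rw [Set.disjoint_left]
      rintro x hx hx'
      exact hx'.2 hx.2
  have h6 : 2 ∣ Set.ncard {x | x ∈ X ∧ ¬ Bad N z x u ∧ Bad N z x k} := by
    refine dvd_ncard (K := zpowers y) ?_ ?_
    · have key : ∀ x ∈ {x | x ∈ X ∧ ¬ Bad N z x u ∧ Bad N z x k},
          y * x * y⁻¹ ∈ {x | x ∈ X ∧ ¬ Bad N z x u ∧ Bad N z x k} := by
        rintro x ⟨hx, hxu, hxk⟩
        refine ⟨hXc y hy x hx, fun hcon => hxu ((hbu x hx).mp hcon), ?_⟩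
        rw [hbk x hx]
        tauto
      intro x hx w hw
      obtain ⟨n, rfl⟩ := (mem_powers_iff_mem_zpowers (x := y)).mpr hw
      induction n with
      | zero => simpa using hx
      | succ n ih =>
        have h7 := key _ (ih (by exact npow_mem_zpowers y n))
        have e : y * (y ^ n * x * (y ^ n)⁻¹) * y⁻¹ = y ^ (n + 1) * x * (y ^ (n + 1))⁻¹ := by
          rw [pow_succ']; group
        rwa [e] at h7
    · rintro x ⟨hx, -, -⟩
      have h7 : (centralizer ({x} : Set G)).relIndex (zpowers y) ≠ 1 := by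
        intro h8
        rw [relIndex_eq_one] at h8
        have h9 := h8 (mem_zpowers y)
        refine hyK (h.rho y hy x hx.2.1 hx.2.2 ?_)
        rw [mul_assoc, ← mem_centralizer_singleton_iff.mp h9, inv_mul_cancel_left]
      obtain ⟨n, hn⟩ := h.K_two ⟨_, h.Q_sq y hy⟩
      have hn' : (y * y) ^ 2 ^ n = 1 := by simpa using congrArg Subtype.val hn
      rw [← pow_two, ← pow_mul, ← pow_succ'] at hn'
      have h10 : (centralizer ({x} : Set G)).relIndex (zpowers y) ∣ 2 ^ (n + 1) := by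
        refine (relIndex_dvd_card _ _).trans ?_
        rw [Nat.card_zpowers]
        exact orderOf_dvd_of_pow_eq_one hn'
      obtain ⟨j, -, hj⟩ := (Nat.dvd_prime_pow Nat.prime_two).mp h10
      rw [hj]
      rcases Nat.eq_zero_or_pos j with rfl | hj0
      · rw [hj, pow_zero] at h7
        exact absurd rfl h7
      · exact dvd_pow_self 2 hj0.ne'
  have h7 : {x | x ∈ Pt z ∧ x ∈ K ∧ x ∉ U ∧ Bad N z x k} =
      {x | x ∈ X₁ ∧ Bad N z x k} ∪ {x | x ∈ X ∧ ¬ Bad N z x u ∧ Bad N z x k} := by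
    ext x
    constructor
    · rintro ⟨h1, h2, h3, h8⟩
      by_cases hb : Bad N z x u
      · exact Or.inl ⟨⟨⟨h1, h2, h3⟩, hb⟩, h8⟩
      · exact Or.inr ⟨⟨h1, h2, h3⟩, hb, h8⟩
    · rintro (hx | hx)
      · exact ⟨hx.1.1.1, hx.1.1.2.1, hx.1.1.2.2, hx.2⟩
      · exact ⟨hx.1.1, hx.1.2.1, hx.1.2.2, hx.2.2⟩
  rw [h7, Set.ncard_union_eq]
  · rw [Nat.even_iff]
    omega
  · rw [Set.disjoint_left]
    rintro x hx hx'
    exact hx'.2.1 hx.1.2

/-- **The end of the case `²F₄(2)`.** -/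
theorem false_of (h : Data z N K U Q) (hG : ∀ M : Subgroup G, M.index ≠ 2) : False := by
  obtain ⟨k, hk, hkU⟩ := h.exists_k
  have hk4 : k ^ 4 = 1 := by
    have e : k ^ 4 = (k * k) * (k * k) := by rw [← pow_two, ← pow_two, ← pow_mul]
    rw [e]
    rcases h.K_sq k hk with h1 | h1
    · rw [h1, one_mul]
    · rw [h1, h.z_sq]
  have h1 := h.half.parity hG hk4
  -- the second set
  have h2 : 4 ∣ Set.ncard {x | x ∈ Pt z ∧ k ^ 2 * x = x * k ^ 2 ∧ Bad N z x (k ^ 2)} := by
    rcases h.K_sq k hk with h3 | h3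
    · have : {x | x ∈ Pt z ∧ k ^ 2 * x = x * k ^ 2 ∧ Bad N z x (k ^ 2)} = ∅ := by
        rw [Set.eq_empty_iff_forall_notMem]
        rintro x ⟨-, -, t, -, h4⟩
        apply h4
        rw [pow_two, h3]
        simp [one_mem]
      rw [this, Set.ncard_empty]
      exact dvd_zero 4
    · refine dvd_ncard (K := K) ?_ ?_
      · rintro x ⟨hx1, hx2, hx3⟩ l hl
        have hkl : l⁻¹ * k ^ 2 * l = k ^ 2 := by
          rw [mul_assoc, h.K_comm _ (K.pow_mem hk 2) l hl, inv_mul_cancel_left]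
        refine ⟨pt_conj hx1, ?_, ?_⟩
        · have hx2' : (l⁻¹ * k ^ 2 * l) * x = x * (l⁻¹ * k ^ 2 * l) := by rw [hkl]; exact hx2
          calc k ^ 2 * (l * x * l⁻¹) = l * ((l⁻¹ * k ^ 2 * l) * x) * l⁻¹ := by group
            _ = l * (x * (l⁻¹ * k ^ 2 * l)) * l⁻¹ := by rw [hx2']
            _ = l * x * l⁻¹ * k ^ 2 := by group
        · rw [bad_conj, hkl]
          exact hx3
      · rintro x ⟨hx1, hx2, hx3⟩
        have hxK : x ∉ K := fun hxK => h.half.not_bad_sq (h.K_comm k hk x hxK) hx3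
        have hzx : z * x = x * z := by
          rw [← h3, ← pow_two]
          exact hx2
        have h4 := h.pt_orb ⟨k, hk, h3⟩ x hx1 hzx hxK
        obtain ⟨n, hn⟩ := IsPGroup.iff_card.mp h.K_two
        have h5 : (centralizer ({x} : Set G)).relIndex K ∣ 2 ^ n := by
          rw [← hn]; exact relIndex_dvd_card _ _
        obtain ⟨j, -, hj⟩ := (Nat.dvd_prime_pow Nat.prime_two).mp h5
        rw [hj] at h4 ⊢
        match j, h4 with
        | 0, h4 => norm_num at h4
        | 1, h4 => norm_num at h4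
        | j + 2, _ => exact ⟨2 ^ j, by rw [pow_add]; ring⟩
  -- the first set
  have h3 : Even (Set.ncard {x | x ∈ Pt z ∧ k * x = x * k ∧ Bad N z x k}) := by
    rw [Nat.even_iff]
    omega
  have hinv : ∀ x ∈ {x | x ∈ Pt z ∧ k * x = x * k ∧ Bad N z x k}, ∀ l ∈ K,
      l * x * l⁻¹ ∈ {x | x ∈ Pt z ∧ k * x = x * k ∧ Bad N z x k} := by
    rintro x ⟨hx1, hx2, hx3⟩ l hl
    have hkl : l⁻¹ * k * l = k := by
      rw [mul_assoc, h.K_comm _ hk l hl, inv_mul_cancel_left]
    refine ⟨pt_conj hx1, ?_, ?_⟩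
    · have hx2' : (l⁻¹ * k * l) * x = x * (l⁻¹ * k * l) := by rw [hkl]; exact hx2
      calc k * (l * x * l⁻¹) = l * ((l⁻¹ * k * l) * x) * l⁻¹ := by group
        _ = l * (x * (l⁻¹ * k * l)) * l⁻¹ := by rw [hx2']
        _ = l * x * l⁻¹ * k := by group
    · rw [bad_conj, hkl]
      exact hx3
  rw [even_iff_of_pGroup h.K_two hinv] at h3
  have e : {x | x ∈ Pt z ∧ k * x = x * k ∧ Bad N z x k} ∩ (centralizer (K : Set G) : Set G) =
      {x | x ∈ Pt z ∧ x ∈ U ∧ Bad N z x k} ∪ {x | x ∈ Pt z ∧ x ∈ K ∧ x ∉ U ∧ Bad N z x k} := by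
    ext x
    constructor
    · rintro ⟨⟨hx1, -, hx3⟩, hx4⟩
      have hxK : x ∈ K := h.K_cent hx4
      by_cases hxU : x ∈ U
      · exact Or.inl ⟨hx1, hxU, hx3⟩
      · exact Or.inr ⟨hx1, hxK, hxU, hx3⟩
    · rintro (⟨hx1, hx2, hx3⟩ | ⟨hx1, hx2, -, hx3⟩)
      · exact ⟨⟨hx1, h.K_comm k hk x (h.U_le hx2), hx3⟩, mem_centralizer_iff.mpr fun a ha =>
          h.K_comm a ha x (h.U_le hx2)⟩
      · exact ⟨⟨hx1, h.K_comm k hk x hx2, hx3⟩, mem_centralizer_iff.mpr fun a ha =>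
          h.K_comm a ha x hx2⟩
  rw [e, Set.ncard_union_eq, Nat.even_add] at h3
  · exact h.odd_U hk hkU (h3.mpr (h.even_K hk))
  · rw [Set.disjoint_left]
    rintro x hx hx'
    exact hx'.2.2.1 hx.2.1

end

end Data

end Cfsg.Agent.Classification.TitsFin.TwoFEnd
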