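import Mathlib

/-!
# Abelian sections with automorphisms, elementwise
-/

set_option autoImplicit false

namespace Cfsg.Agent.Classification.TitsFin.TriBSec

universe u

variable {G : Type u} [Group G]

/-- `μ : A → M` is (elementwise) a surjective homomorphism with kernel `B` -/
structure Sec (A B : Subgroup G) {M : Type u} [CommGroup M] (μ : G → M) : Prop where
  mul : ∀ x ∈ A, ∀ y ∈ A, μ (x * y) = μ x * μ y
  ker : ∀ x ∈ A, (μ x = 1 ↔ x ∈ B)
  surj : ∀ m, ∃ x ∈ A, μ x = m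
  card : Nat.card M = B.relIndex A

/-- An abelian section as a commutative group. -/
theorem exists_section (A B : Subgroup G) (hc : ∀ x ∈ A, ∀ y ∈ A, x * y * x⁻¹ * y⁻¹ ∈ B) :
    ∃ (M : Type u) (_ : CommGroup M) (μ : G → M), Sec A B μ := by
  classical
  have hn : (B.subgroupOf A).Normal := by
    refine ⟨fun b hb a => ?_⟩
    rw [Subgroup.mem_subgroupOf] at hb ⊢
    have h1 := hc a a.2 b b.2
    have h2 := mul_mem h1 hb
    have e : (a : G) * b * (a : G)⁻¹ * (b : G)⁻¹ * b = a * b * (a : G)⁻¹ := by group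
    rw [e] at h2
    exact h2
  let inst : CommGroup (A ⧸ B.subgroupOf A) :=
    { (inferInstance : Group (A ⧸ B.subgroupOf A)) with
      mul_comm := by
        intro x y
        induction x using QuotientGroup.induction_on with | H x =>
        induction y using QuotientGroup.induction_on with | H y =>
        rw [← QuotientGroup.mk_mul, ← QuotientGroup.mk_mul, QuotientGroup.eq, Subgroup.mem_subgroupOf]
        have h1 := hc (y : G)⁻¹ (inv_mem y.2) (x : G)⁻¹ (inv_mem x.2)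
        have e : ((x * y)⁻¹ * (y * x) : A) = (y : G)⁻¹ * (x : G)⁻¹ * (y : G)⁻¹⁻¹ * (x : G)⁻¹⁻¹ := by
          push_cast
          group
        rw [e]
        exact h1 }
  refine ⟨A ⧸ B.subgroupOf A, inst, fun x => if h : x ∈ A then QuotientGroup.mk ⟨x, h⟩ else 1,
    ⟨?_, ?_, ?_, rfl⟩⟩
  · intro x hx y hy
    rw [dif_pos hx, dif_pos hy, dif_pos (mul_mem hx hy)]
    rfl
  · intro x hx
    rw [dif_pos hx]
    rw [QuotientGroup.eq_one_iff, Subgroup.mem_subgroupOf]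
  · intro m
    induction m using QuotientGroup.induction_on with | H x =>
    refine ⟨x, x.2, ?_⟩
    rw [dif_pos x.2]

namespace Sec

variable {A B : Subgroup G} {M : Type u} [CommGroup M] {μ : G → M}

theorem one (h : Sec A B μ) : μ 1 = 1 := (h.ker 1 (one_mem _)).mpr (one_mem _)

theorem inv (h : Sec A B μ) {x : G} (hx : x ∈ A) : μ x⁻¹ = (μ x)⁻¹ := by
  rw [eq_inv_iff_mul_eq_one, ← h.mul _ (inv_mem hx) _ hx, inv_mul_cancel, h.one]

theorem eq_iff (h : Sec A B μ) {x y : G} (hx : x ∈ A) (hy : y ∈ A) : μ x = μ y ↔ x⁻¹ * y ∈ B := by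
  rw [← h.ker _ (mul_mem (inv_mem hx) hy), h.mul _ (inv_mem hx) _ hy, h.inv hx, inv_mul_eq_one]

/-- the automorphism induced by conjugation with `c` -/
theorem exists_aut (h : Sec A B μ) {c : G} (hA : ∀ x ∈ A, c * x * c⁻¹ ∈ A)
    (hA' : ∀ x ∈ A, c⁻¹ * x * c ∈ A) (hB : ∀ x ∈ B, c * x * c⁻¹ ∈ B) (hB' : ∀ x ∈ B, c⁻¹ * x * c ∈ B) :
    ∃ s : MulAut M, ∀ x ∈ A, s (μ x) = μ (c * x * c⁻¹) := by
  choose sec hsecA hsec using h.surj
  have dep : ∀ x ∈ A, ∀ y ∈ A, μ x = μ y → μ (c * x * c⁻¹) = μ (c * y * c⁻¹) := by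
    intro x hx y hy hxy
    rw [h.eq_iff (hA x hx) (hA y hy)]
    have h1 := hB _ ((h.eq_iff hx hy).mp hxy)
    have e : c * (x⁻¹ * y) * c⁻¹ = (c * x * c⁻¹)⁻¹ * (c * y * c⁻¹) := by group
    rwa [e] at h1
  have dep' : ∀ x ∈ A, ∀ y ∈ A, μ x = μ y → μ (c⁻¹ * x * c) = μ (c⁻¹ * y * c) := by
    intro x hx y hy hxy
    rw [h.eq_iff (hA' x hx) (hA' y hy)]
    have h1 := hB' _ ((h.eq_iff hx hy).mp hxy)
    have e : c⁻¹ * (x⁻¹ * y) * c = (c⁻¹ * x * c)⁻¹ * (c⁻¹ * y * c) := by group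
    rwa [e] at h1
  refine ⟨{ toFun := fun m => μ (c * sec m * c⁻¹)
            invFun := fun m => μ (c⁻¹ * sec m * c)
            left_inv := fun m => ?_
            right_inv := fun m => ?_
            map_mul' := fun m m' => ?_ }, fun x hx => ?_⟩
  · change μ (c⁻¹ * sec (μ (c * sec m * c⁻¹)) * c) = m
    rw [dep' _ (hsecA _) _ (hA _ (hsecA m)) (hsec _)]
    have e : c⁻¹ * (c * sec m * c⁻¹) * c = sec m := by group
    rw [e, hsec]
  · change μ (c * sec (μ (c⁻¹ * sec m * c)) * c⁻¹) = m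
    rw [dep _ (hsecA _) _ (hA' _ (hsecA m)) (hsec _)]
    have e : c * (c⁻¹ * sec m * c) * c⁻¹ = sec m := by group
    rw [e, hsec]
  · change μ (c * sec (m * m') * c⁻¹) = μ (c * sec m * c⁻¹) * μ (c * sec m' * c⁻¹)
    rw [← h.mul _ (hA _ (hsecA m)) _ (hA _ (hsecA m'))]
    have e : c * sec m * c⁻¹ * (c * sec m' * c⁻¹) = c * (sec m * sec m') * c⁻¹ := by group
    rw [e]
    apply dep _ (hsecA _) _ (mul_mem (hsecA m) (hsecA m'))
    rw [hsec, h.mul _ (hsecA m) _ (hsecA m'), hsec, hsec]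
  · change μ (c * sec (μ x) * c⁻¹) = _
    exact dep _ (hsecA _) _ hx (hsec _)

end Sec

end Cfsg.Agent.Classification.TitsFin.TriBSec
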