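import Mathlib
import Cfsg.Agent.Classification.TitsFin.Defs
import Cfsg.Agent.Classification.TitsFin.Tri
import Cfsg.Agent.Classification.TitsFin.TriAct
import Cfsg.Agent.Classification.TitsFin.TriQK
import Cfsg.Agent.Classification.TitsFin.TriTen

/-!
# The count of lines and case A

`Tri V U C` : the orbit of `q` under `C p` has length 10, i.e. there are five lines on `p`. If `|C_G(U_p)| = 32` then
`|C_p| = 10240`, `|Q_p| = 512`, `C_G(U_p) = U_p` and `(p, q)` satisfies `FinHyp`.
-/

set_option autoImplicit false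

namespace Cfsg.Agent.Classification.TitsFin.TriFin

open Subgroup Cfsg Cfsg.Agent.ZN Cfsg.Agent.MinSimple.Geo
open Cfsg.Agent.ZN.Block (conj_mem_of_normalizer conj_mem_of_normalizer' le_normalizer_of_forall
  mem_normalizer_of card_sup_mul_card_inf card_mul_relIndex' mul_mem_of_relIndex_two)
open Cfsg.Agent.Classification.TitsFin.Tri (Pt kst K Q)
open Cfsg.Agent.Classification.TitsFin.TriAct Cfsg.Agent.Classification.TitsFin.TriQK
open Cfsg.Agent.Classification.TitsFin.TriTen
open Cfsg.Agent.MinSimple.VModule (oddGen)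

universe u

variable {G : Type u} [Group G] [Finite G] {V : Subgroup G} {U C : G → Subgroup G} {p q : G}

/-- there is a second point -/
theorem exists_pt (h : Tri V U C) (_hp : Pt V p) : ∃ q, Pt V q ∧ p ≠ q := by
  classical
  by_contra hcon
  push Not at hcon
  have h1 : (V : Set G) ⊆ ({1, p} : Set G) := by
    intro v hv
    by_cases hv1 : v = 1
    · exact Or.inl hv1
    · exact Or.inr (hcon v ⟨hv, hv1⟩).symm
  have h2 : (V : Set G).ncard ≤ ({1, p} : Set G).ncard := Set.ncard_le_ncard h1 (Set.toFinite _)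
  have h3 : ({1, p} : Set G).ncard ≤ 2 := Set.ncard_insert_le _ _ |>.trans (by rw [Set.ncard_singleton])
  have h4 : (V : Set G).ncard = 4 := by
    rw [← h.cardV]; rfl
  omega

/-- `V = {1, p, q, pq}` -/
theorem mem_V_iff (h : Tri V U C) (hp : Pt V p) (hq : Pt V q) (hpq : p ≠ q) {v : G} :
    v ∈ V ↔ v = 1 ∨ v = p ∨ v = q ∨ v = p * q := by
  classical
  obtain ⟨h1, h2, h3⟩ := h.third hp hq hpq
  constructor
  · intro hv
    have hsub : ({1, p, q, p * q} : Set G) ⊆ (V : Set G) := by
      rintro x (rfl | rfl | rfl | rfl)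
      · exact one_mem _
      · exact hp.1
      · exact hq.1
      · exact h1.1
    have hc : ({1, p, q, p * q} : Set G).ncard = 4 := by
      have e1 : ({p * q} : Set G).ncard = 1 := Set.ncard_singleton _
      have e2 : ({q, p * q} : Set G).ncard = 2 := by
        rw [Set.ncard_insert_of_notMem (by simpa using h3.symm), e1]
      have e3 : ({p, q, p * q} : Set G).ncard = 3 := by
        rw [Set.ncard_insert_of_notMem (by
          rintro (e | e)
          · exact hpq e
          · exact h2 e.symm), e2]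
      rw [Set.ncard_insert_of_notMem (by
          rintro (e | e | e)
          · exact hp.2 e.symm
          · exact hq.2 e.symm
          · exact h1.2 e.symm), e3]
    have h4 : (V : Set G).ncard = 4 := by
      rw [← h.cardV]; rfl
    have heq : ({1, p, q, p * q} : Set G) = (V : Set G) :=
      Set.eq_of_subset_of_ncard_le hsub (by rw [hc, h4]) (Set.toFinite _)
    have : v ∈ ({1, p, q, p * q} : Set G) := by rw [heq]; exact hv
    simpa using this
  · rintro (rfl | rfl | rfl | rfl)
    · exact one_mem _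
    · exact hp.1
    · exact hq.1
    · exact h1.1

/-- `C_G(V)` is the stabiliser of `q` in `C_p` -/
theorem mem_centV_iff (h : Tri V U C) (hp : Pt V p) (hq : Pt V q) (hpq : p ≠ q) {g : G} :
    g ∈ centralizer (V : Set G) ↔ g ∈ C p ∧ g * q = q * g := by
  constructor
  · intro hg
    exact ⟨h.centV_le hp hg, (mem_centralizer_iff.mp hg q hq.1).symm⟩
  · rintro ⟨h1, h2⟩
    have h3 := h.c_comm hp h1
    refine mem_centralizer_iff.mpr fun v hv => ?_
    rcases (mem_V_iff h hp hq hpq).mp hv with rfl | rfl | rfl | rfl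
    · simp
    · exact h3.symm
    · exact h2.symm
    · calc p * q * g = p * (q * g) := by group
        _ = (p * g) * q := by rw [← h2]; group
        _ = g * (p * q) := by rw [← h3]; group

/-- `|Q_p : Q_p ⊓ C_G(V)| = 2` -/
theorem relIndex_centV_Q (h : Tri V U C) (hp : Pt V p) : (centralizer (V : Set G)).relIndex (Q U C p) = 2 := by
  obtain ⟨q, hq, hpq⟩ := exists_pt h hp
  obtain ⟨c, hc, hcq⟩ := exists_move h hp (h.p_mem hq hp) hq.2 hpq.symm
  have hpp := h.pp hp
  rw [relIndex, index_eq_two_iff]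
  refine ⟨⟨c, hc⟩, fun b => ?_⟩
  obtain ⟨b, hb⟩ := b
  have hcC : c ∈ C p := Tri.kst_le _ _ _ hc
  have hbC : b ∈ C p := Tri.kst_le _ _ _ hb
  rw [mem_subgroupOf, mem_subgroupOf]
  change Xor (b * c ∈ _) (b ∈ _)
  have hcp := h.c_comm hp hcC
  have hbp := h.c_comm hp hbC
  rcases ((h.mem_Q_iff hp).mp hb).2 q (h.p_mem hq hp) with e | e
  · right
    refine ⟨(mem_centV_iff h hp hq hpq).mpr ⟨hbC, ?_⟩, fun hcon => ?_⟩
    · exact mul_inv_eq_iff_eq_mul.mp e
    · have h1 := ((mem_centV_iff h hp hq hpq).mp hcon).2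
      have h2 : b * c * q = p * q * (b * c) := by
        calc b * c * q = b * (c * q * c⁻¹) * c := by group
          _ = (b * p) * q * c := by rw [hcq]; group
          _ = p * (b * q * b⁻¹) * (b * c) := by rw [hbp]; group
          _ = p * q * (b * c) := by rw [e]
      rw [h2] at h1
      have h3 : p * q = q := mul_right_cancel h1
      exact hp.2 (mul_eq_right.mp h3)
  · left
    refine ⟨(mem_centV_iff h hp hq hpq).mpr ⟨mul_mem hbC hcC, ?_⟩, fun hcon => ?_⟩
    · calc b * c * q = b * (c * q * c⁻¹) * c := by group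
        _ = (b * p) * q * c := by rw [hcq]; group
        _ = p * (b * q * b⁻¹) * (b * c) := by rw [hbp]; group
        _ = (p * p) * q * (b * c) := by rw [e]; group
        _ = q * (b * c) := by rw [hpp, one_mul]
    · have h1 := ((mem_centV_iff h hp hq hpq).mp hcon).2
      have h2 : b * q = p * q * b := mul_inv_eq_iff_eq_mul.mp e
      rw [h2] at h1
      have h3 : p * q = q := mul_right_cancel h1
      exact hp.2 (mul_eq_right.mp h3)

/-- `|C_G(V) : Q_p ⊓ C_G(V)| = 4` -/
theorem relIndex_Q_centV (h : Tri V U C) (hp : Pt V p) : (Q U C p).relIndex (centralizer (V : Set G)) = 4 := by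
  obtain ⟨q, hq, hpq⟩ := exists_pt h hp
  obtain ⟨c, hc, hcc⟩ := exists_four h hp hq hpq
  have hle := h.centV_le hp
  -- divides 20
  have h1 : (Q U C p).relIndex (centralizer (V : Set G)) ∣ 20 := by
    have hN : ((Q U C p).subgroupOf (C p)).Normal :=
      (normal_subgroupOf_iff_le_normalizer (Tri.kst_le _ _ _)).mpr (h.C_le_normQ hp)
    have h2 := relIndex_dvd_index_of_normal ((Q U C p).subgroupOf (C p))
      ((centralizer (V : Set G)).subgroupOf (C p))
    rw [relIndex_subgroupOf hle] at h2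
    have h3 : ((Q U C p).subgroupOf (C p)).index = 20 := relIndex_Q h hp
    rwa [h3] at h2
  -- a power of 2
  have : Fact (Nat.Prime 2) := ⟨Nat.prime_two⟩
  obtain ⟨n, hn⟩ := (isPGroup_centV h hp).index ((Q U C p).subgroupOf (centralizer (V : Set G)))
  have hn' : (Q U C p).relIndex (centralizer (V : Set G)) = 2 ^ n := hn
  rw [hn'] at h1 ⊢
  have h3 : n ≠ 0 := by
    rintro rfl
    rw [pow_zero, relIndex_eq_one] at hn'
    exact hcc (mul_mem (hn' hc) (hn' hc))
  have h4 : n ≠ 1 := by
    rintro rfl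
    rw [pow_one] at hn
    have := mul_self_mem_of_index_two hn ⟨c, hc⟩
    exact hcc (mem_subgroupOf.mp this)
  have h5 : n < 3 := by
    by_contra hcon
    push Not at hcon
    have h6 : 2 ^ 3 ∣ 20 := (Nat.pow_dvd_pow 2 hcon).trans h1
    omega
  interval_cases n <;> omega

/-- five lines on `p`: the orbit of `q` under `C_p` has length 10 -/
theorem relIndex_centV (h : Tri V U C) (hp : Pt V p) : (centralizer (V : Set G)).relIndex (C p) = 10 := by
  have h1 := relIndex_centV_Q h hp
  have h2 := relIndex_Q_centV h hp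
  have h3 := relIndex_Q h hp
  have e1 : Nat.card ↥(centralizer (V : Set G) ⊓ Q U C p) * 2 = Nat.card ↥(Q U C p) := by
    rw [← h1, ← inf_relIndex_right]
    exact card_mul_relIndex' inf_le_right
  have e2 : Nat.card ↥(centralizer (V : Set G) ⊓ Q U C p) * 4 = Nat.card ↥(centralizer (V : Set G)) := by
    rw [← h2, inf_comm, ← inf_relIndex_right]
    exact card_mul_relIndex' inf_le_right
  have e3 : Nat.card ↥(Q U C p) * 20 = Nat.card ↥(C p) := by
    rw [← h3]
    exact card_mul_relIndex' (Tri.kst_le _ _ _)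
  have e4 := card_mul_relIndex' (h.centV_le hp)
  have hpos : 0 < Nat.card ↥(centralizer (V : Set G) ⊓ Q U C p) := Nat.card_pos
  rw [← e2, ← e3, ← e1] at e4
  have e5 : Nat.card ↥(centralizer (V : Set G) ⊓ Q U C p) * (4 * (centralizer (V : Set G)).relIndex (C p)) =
      Nat.card ↥(centralizer (V : Set G) ⊓ Q U C p) * 40 := by
    rw [← mul_assoc, e4]; ring
  have e6 := Nat.eq_of_mul_eq_mul_left hpos e5
  omega

/-- case A -/
theorem card_C (h : Tri V U C) (hp : Pt V p) (hK : Nat.card ↥(K U p) = 32) :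
    Nat.card ↥(C p) = 10240 ∧ Nat.card ↥(Q U C p) = 512 ∧ K U p = U p := by
  have e1 : Nat.card ↥(Q U C p) = 512 := by
    rw [← card_mul_relIndex' (h.K_le_Q hp), relIndex_K h hp, hK]
  have e2 : Nat.card ↥(C p) = 10240 := by
    rw [← card_mul_relIndex' (Tri.kst_le (C p) (U p) p), e1, show (kst (C p) (U p) p).relIndex (C p) = 20 from relIndex_Q h hp]
  refine ⟨e2, e1, ?_⟩
  exact (eq_of_le_of_card_ge (h.U_le_K hp) (by rw [hK, h.cardU p hp])).symm

/-- `U_p` is generated by `p` and the conjugates of `q` under `C_p` -/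
theorem closure_eq (h : Tri V U C) (hp : Pt V p) (hq : Pt V q) (hpq : p ≠ q) :
    closure (insert p {y | ∃ g ∈ C p, g * q * g⁻¹ = y}) = U p := by
  obtain ⟨f, hf⟩ := exists_isF h hp
  have hle : closure (insert p {y | ∃ g ∈ C p, g * q * g⁻¹ = y}) ≤ U p := by
    rw [closure_le]
    rintro y (rfl | ⟨g, hg, rfl⟩)
    · exact h.p_mem hp hp
    · exact h.conj_memU hp hg (h.p_mem hq hp)
  have hqm : q ∈ closure (insert p {y | ∃ g ∈ C p, g * q * g⁻¹ = y}) :=
    subset_closure (Or.inr ⟨1, one_mem _, by simp⟩)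
  have hinv : closure (insert p {y | ∃ g ∈ C p, g * q * g⁻¹ = y}) ≤
      (closure (insert p {y | ∃ g ∈ C p, g * q * g⁻¹ = y})).comap (MulAut.conj f).toMonoidHom := by
    rw [closure_le]
    rintro y (rfl | ⟨g, hg, rfl⟩)
    · rw [SetLike.mem_coe, mem_comap]
      change f * y * f⁻¹ ∈ (_ : Subgroup G)
      rw [h.c_comm hp hf.mem, mul_inv_cancel_right]
      exact subset_closure (Or.inl rfl)
    · rw [SetLike.mem_coe, mem_comap]
      change f * (g * q * g⁻¹) * f⁻¹ ∈ (_ : Subgroup G)
      exact subset_closure (Or.inr ⟨f * g, mul_mem hf.mem hg, by group⟩)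
  rcases hf.irred h hp hle (subset_closure (Or.inl rfl)) (fun b hb => hinv hb) with h1 | h1
  · rcases h1 q hqm with e | e
    · exact absurd e hq.2
    · exact absurd e.symm hpq
  · exact h1

omit [Finite G] in
/-- the lines on `p` -/
theorem adj_iff (hC : C p = centralizer ({p} : Set G)) {y : G} :
    Adj p q p y ↔ ∃ g ∈ C p, g * q * g⁻¹ = y := by
  rw [hC]
  constructor
  · rintro ⟨g, h1, h2⟩
    exact ⟨g, mem_centralizer_singleton_iff.mpr (mul_inv_eq_iff_eq_mul.mp h1), h2⟩
  · rintro ⟨g, h1, h2⟩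
    exact ⟨g, mul_inv_eq_iff_eq_mul.mpr (mem_centralizer_singleton_iff.mp h1), h2⟩

theorem U_eq (h : Tri V U C) (hp : Pt V p) (hq : Pt V q) (hpq : p ≠ q) (hC : C p = centralizer ({p} : Set G)) :
    TitsFin.U p q p = U p := by
  rw [← closure_eq h hp hq hpq, TitsFin.U]
  congr 2
  ext y
  exact adj_iff hC

/-- `InQ` is membership in `Q_p` -/
theorem inQ_iff (h : Tri V U C) (hp : Pt V p) (hq : Pt V q) (hpq : p ≠ q) (hC : C p = centralizer ({p} : Set G))
    {g : G} : InQ p q p g ↔ g ∈ Q U C p := by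
  have hpp := h.pp hp
  constructor
  · rintro ⟨h1, h2⟩
    have hgC : g ∈ C p := by rw [hC]; exact mem_centralizer_singleton_iff.mpr h1
    refine (h.mem_Q_iff hp).mpr ⟨hgC, fun u hu => ?_⟩
    rw [← U_eq h hp hq hpq hC] at hu
    have key : u ∈ U p ∧ (g * u * g⁻¹ = u ∨ g * u * g⁻¹ = p * u) := by
      refine closure_induction (p := fun u _ => u ∈ U p ∧ (g * u * g⁻¹ = u ∨ g * u * g⁻¹ = p * u))
        ?_ ?_ ?_ ?_ hu
      · rintro y (rfl | hy)
        · exact ⟨h.p_mem hp hp, Or.inl (mul_inv_eq_iff_eq_mul.mpr h1)⟩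
        · refine ⟨?_, h2 y hy⟩
          rw [← U_eq h hp hq hpq hC]
          exact mem_U_of_adj hy
      · exact ⟨one_mem _, Or.inl (by simp)⟩
      · rintro x y - - ⟨hx, hx'⟩ ⟨hy, hy'⟩
        refine ⟨mul_mem hx hy, ?_⟩
        have e : g * (x * y) * g⁻¹ = (g * x * g⁻¹) * (g * y * g⁻¹) := by group
        have hxp : x * p = p * x := h.commU hp hx (h.p_mem hp hp)
        rw [e]
        rcases hx' with e1 | e1 <;> rcases hy' with e2 | e2 <;> rw [e1, e2]
        · exact Or.inl rfl
        · right; rw [← mul_assoc, hxp, mul_assoc]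
        · right; rw [mul_assoc]
        · left
          calc p * x * (p * y) = p * (x * p) * y := by group
            _ = (p * p) * x * y := by rw [hxp]; group
            _ = x * y := by rw [hpp, one_mul]
      · rintro x - ⟨hx, hx'⟩
        refine ⟨inv_mem hx, ?_⟩
        rw [inv_eq_self (h.sqU p hp x hx)]
        exact hx'
    exact key.2
  · intro hg
    obtain ⟨h1, h2⟩ := (h.mem_Q_iff hp).mp hg
    refine ⟨h.c_comm hp h1, fun y hy => h2 y ?_⟩
    rw [← U_eq h hp hq hpq hC]
    exact mem_U_of_adj hy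

/-- the number of points collinear to `p` -/
theorem card_adj (h : Tri V U C) (hp : Pt V p) (hq : Pt V q) (hpq : p ≠ q) (hC : C p = centralizer ({p} : Set G)) :
    Nat.card {x // Adj p q p x} = 10 := by
  have h1 := relIndex_centV h hp
  rw [relIndex, index] at h1
  rw [← h1]
  symm
  have hmem : ∀ g : C p, Adj p q p ((g : G) * q * (g : G)⁻¹) := fun g => (adj_iff hC).mpr ⟨g, g.2, rfl⟩
  have hrel : ∀ a b : C p, (QuotientGroup.leftRel ((centralizer (V : Set G)).subgroupOf (C p))) a b ↔
      (a : G) * q * (a : G)⁻¹ = (b : G) * q * (b : G)⁻¹ := by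
    intro a b
    rw [QuotientGroup.leftRel_apply, mem_subgroupOf, mem_centV_iff h hp hq hpq]
    constructor
    · rintro ⟨-, h3⟩
      have h4 : (a : G)⁻¹ * b * q = q * ((a : G)⁻¹ * b) := h3
      calc (a : G) * q * (a : G)⁻¹ = a * (q * ((a : G)⁻¹ * b)) * (b : G)⁻¹ := by group
        _ = a * ((a : G)⁻¹ * b * q) * (b : G)⁻¹ := by rw [h4]
        _ = (b : G) * q * (b : G)⁻¹ := by group
    · intro h3
      refine ⟨(a⁻¹ * b).2, ?_⟩
      change (a : G)⁻¹ * b * q = q * ((a : G)⁻¹ * b)
      calc (a : G)⁻¹ * b * q = (a : G)⁻¹ * (b * q * (b : G)⁻¹) * b := by group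
        _ = (a : G)⁻¹ * (a * q * (a : G)⁻¹) * b := by rw [h3]
        _ = q * ((a : G)⁻¹ * b) := by group
  refine Nat.card_congr (Equiv.ofBijective
    (Quotient.lift (fun g : C p => (⟨(g : G) * q * (g : G)⁻¹, hmem g⟩ : {x // Adj p q p x}))
      (fun a b hab => Subtype.ext ((hrel a b).mp hab))) ⟨?_, ?_⟩)
  · intro a b hab
    induction a using Quotient.inductionOn with | _ a => ?_
    induction b using Quotient.inductionOn with | _ b => ?_
    exact Quotient.sound ((hrel a b).mpr (congrArg Subtype.val hab))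
  · rintro ⟨x, hx⟩
    obtain ⟨g, hg, rfl⟩ := (adj_iff hC).mp hx
    exact ⟨Quotient.mk _ ⟨g, hg⟩, rfl⟩

/-- case A : the final configuration -/
theorem finHyp (h : Tri V U C) (hp : Pt V p) (hq : Pt V q) (hpq : p ≠ q) (hC : C p = centralizer ({p} : Set G))
    (hK : Nat.card ↥(K U p) = 32) : FinHyp p q := by
  obtain ⟨c1, c2, c3⟩ := card_C h hp hK
  obtain ⟨t1, t2, t3⟩ := h.third hp hq hpq
  have hU := U_eq h hp hq hpq hC
  refine
    { z_sq := h.pp hp
      z_ne := hp.2
      p_ne := hpq.symm
      zp := h.commV hp hq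
      swap := ?_
      rot := ?_
      comm := fun x y hx hy => ?_
      cardU := by rw [hU, h.cardU p hp]
      cent := fun g hg => ?_
      cardA := card_adj h hp hq hpq hC
      cardC := by rw [← hC]; exact c1
      cardQ := ?_
      ncomm := ?_ }
  · obtain ⟨n, -, h1, h2⟩ := h.sym p q q p hp hq hpq hq hp hpq.symm
    exact ⟨n, h1, h2⟩
  · obtain ⟨n, -, h1, h2⟩ := h.sym p q p (p * q) hp hq hpq hp t1 t2.symm
    exact ⟨n, h1, h2⟩
  · refine h.commU hp ?_ ?_
    · rw [← hU]; exact mem_U_of_adj hx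
    · rw [← hU]; exact mem_U_of_adj hy
  · rw [hU] at hg ⊢
    rw [← c3]
    exact mem_centralizer_iff.mpr fun u hu => (hg u hu).symm
  · rw [← c2]
    exact Nat.card_congr (Equiv.subtypeEquivRight fun g => inQ_iff h hp hq hpq hC)
  · -- the groups do not commute
    by_contra hcon
    push Not at hcon
    obtain ⟨n, hn, h1, h2⟩ := h.sym p q q p hp hq hpq hq hp hpq.symm
    have hUq : TitsFin.U p q q = U q := by
      have e1 : TitsFin.U p q (n * p * n⁻¹) = cj n (TitsFin.U p q p) := (map_U n).symm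
      rw [h1, hU, h.conjU n hn p hp, h1] at e1
      exact e1
    obtain ⟨a, ha, b, hb, hab⟩ := h.nc p q hp hq hpq
    apply hab
    rw [← hU] at ha
    rw [← hUq] at hb
    refine closure_induction (p := fun a _ => a * b = b * a) ?_ ?_ ?_ ?_ ha
    · rintro x (rfl | hx)
      · exact h.commU hq (h.p_mem hp hq) (by rw [← hUq]; exact hb)
      · refine closure_induction (p := fun b _ => x * b = b * x) ?_ ?_ ?_ ?_ hb
        · rintro y (rfl | hy)
          · exact h.commU hp (by rw [← hU]; exact mem_U_of_adj hx) (h.p_mem hq hp)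
          · exact hcon x y hx hy
        · simp
        · rintro y z - - hy hz
          rw [← mul_assoc, hy, mul_assoc, hz, mul_assoc]
        · rintro y - hy
          exact (show Commute x y from hy).inv_right
    · simp
    · rintro y z - - hy hz
      rw [mul_assoc, hz, ← mul_assoc, hy, mul_assoc]
    · rintro y - hy
      exact (show Commute y b from hy).inv_left

end Cfsg.Agent.Classification.TitsFin.TriFin
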