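import Mathlib
import Cfsg.Agent.Classification.TitsFin.TriB3
import Cfsg.Agent.Classification.TitsFin.TriTypeB
import Cfsg.Agent.Classification.TitsFin.TwoFEnd

/-!
# Case B of the Tits end: conclusion

`caseB_false`: a finite group without subgroups of index 2 has no configuration `Tri` with `|C_G(U_p)| = 64` and
`C_p = C_G(p)`.
-/

set_option autoImplicit false
set_option linter.style.haveILetI false

namespace Cfsg.Agent.Classification.TitsFin.TriB

open Subgroup Cfsg Cfsg.Agent.ZN Cfsg.Agent.MinSimple.Geo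
open Cfsg.Agent.Classification.TitsFin.Tri (Pt kst K Q cj_kst kst_le)
open Cfsg.Agent.Classification.TitsFin.TriAct Cfsg.Agent.Classification.TitsFin.TriQK
open Cfsg.Agent.Classification.TitsFin.TransferCount (Bad IsHalf)
open Cfsg.Agent.ZN.Block (card_mul_relIndex' mul_mem_of_relIndex_two)

universe u

variable {G : Type u} [Group G] [Finite G] {V : Subgroup G} {U C : G → Subgroup G} {p q : G}

/-- a conjugate of `p` in `U p` other than `p` comes with a conjugating element that takes `U q` to `U p` -/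
theorem good_conj (h : Tri V U C) (hp : Pt V p) (hq : Pt V q) (hpq : p ≠ q)
    (hC : C p = centralizer ({p} : Set G)) {x g : G} (hg : g * p * g⁻¹ = x) (hx : x ∈ U p) (hxp : x ≠ p) :
    ∃ t, t * p * t⁻¹ = x ∧ ∀ u ∈ U p, t⁻¹ * u * t ∈ U q := by
  have h1 : g⁻¹ * x * g⁻¹⁻¹ = p := by rw [← hg]; group
  rcases TriTypeB.eq_or_exists h hp hq hpq hC hx h1 with h2 | ⟨c, hc, hcx⟩
  · exact absurd h2 hxp
  · obtain ⟨n, -, h3, -, -, h4, -, -⟩ := h.exists_swap hp hq hpq
    refine ⟨c * n, ?_, fun u hu => ?_⟩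
    · rw [hcx, ← h3]; group
    · have h5 := h.conj_memU' hp hc hu
      rw [← h4] at h5
      obtain ⟨v, hv, hv'⟩ := h5
      have e : (c * n)⁻¹ * u * (c * n) = v := by
        have hv'' : n * v * n⁻¹ = c⁻¹ * u * c := hv'
        calc (c * n)⁻¹ * u * (c * n) = n⁻¹ * (c⁻¹ * u * c) * n := by group
          _ = v := by rw [← hv'']; group
      rw [e]
      exact hv

omit [Finite G] in
theorem relIndex_eq_two {N D : Subgroup G} {k : G} (hk : k ∈ D) (hkN : k ∉ N)
    (hc : ∀ c ∈ D, c ∈ N ∨ c * k ∈ N) : N.relIndex D = 2 := by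
  rw [relIndex, index_eq_two_iff]
  refine ⟨⟨k, hk⟩, fun b => ?_⟩
  have hb := hc b b.2
  have h1 : ¬ ((b : G) ∈ N ∧ (b : G) * k ∈ N) := fun ⟨h2, h3⟩ => hkN (by
    have h4 := mul_mem (inv_mem h2) h3
    rwa [inv_mul_cancel_left] at h4)
  change Xor ((b : G) * k ∈ N) ((b : G) ∈ N)
  unfold Xor
  tauto

/-- the centralizer in `K_p` of an involution of `C_p` outside `K_p` is small -/
theorem pt_orb (h : Tri V U C) (hp : Pt V p) (hK : Nat.card ↥(K U p) = 64) {x : G} (hx : x ∈ C p)
    (hx1 : x * x = 1) (hxK : x ∉ K U p) : 2 < (centralizer ({x} : Set G)).relIndex (K U p) := by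
  by_contra hcon
  push Not at hcon
  have hpp := h.pp hp
  set D : Subgroup G := centralizer ({x} : Set G) with hD
  -- two elements of `K` outside `D` differ by an element of `D`
  have hpos : D.relIndex (K U p) ≠ 0 := index_ne_zero_of_finite
  have key : ∀ a ∈ K U p, ∀ b ∈ K U p, a ∉ D → b ∉ D → a⁻¹ * b ∈ D := by
    intro a ha b hb haD hbD
    have h2 : D.relIndex (K U p) = 2 := by
      have h3 : D.relIndex (K U p) ≠ 1 := fun h3 => haD (relIndex_eq_one.mp h3 ha)
      omega
    have h4 : (a⁻¹ * b : G) ∈ D ↔ (a⁻¹ ∈ D ↔ b ∈ D) := by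
      have h5 := mul_mem_iff_of_index_two (H := D.subgroupOf (K U p)) h2 (a := ⟨a⁻¹, inv_mem ha⟩) (b := ⟨b, hb⟩)
      simpa [mem_subgroupOf] using h5
    rw [h4, inv_mem_iff]
    tauto
  have hmem : ∀ a, a ∈ D ↔ a * x = x * a := fun a => mem_centralizer_singleton_iff
  by_cases hxQ : x ∈ Q U C p
  · -- `x ∈ Q p`
    obtain ⟨k, hk, hkU⟩ := exists_k h hp hK
    -- some `u ∈ U p` does not commute with `x`
    have hu : ∃ u ∈ U p, u ∉ D := by
      by_contra hc
      push Not at hc
      exact hxK (mem_centralizer_iff.mpr fun u hu => (hmem u).mp (hc u hu))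
    obtain ⟨u, hu, huD⟩ := hu
    have hkD : ∀ k ∈ K U p, k ∉ U p → k ∉ D := by
      intro k hk hkU hkD
      refine hxK (rho h hp hK hk hkU hxQ (Or.inl ?_))
      rw [← (hmem k).mp hkD, mul_inv_cancel_right]
    have h1 := key u (h.U_le_K hp hu) k hk huD (hkD k hk hkU)
    exact hkD _ (mul_mem (inv_mem (h.U_le_K hp hu)) hk)
      (fun h2 => hkU (by have := mul_mem hu h2; rwa [mul_inv_cancel_left] at this)) h1
  · -- `x ∉ Q p`
    have hu : ∃ u ∈ U p, u ∉ D := by
      by_contra hc
      push Not at hc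
      exact hxK (mem_centralizer_iff.mpr fun u hu => (hmem u).mp (hc u hu))
    obtain ⟨u, hu, huD⟩ := hu
    set w := x * u * x⁻¹ * u⁻¹ with hw
    have hwU : w ∈ U p := mul_mem (h.conj_memU hp hx hu) (inv_mem hu)
    have hww : w * w = 1 := h.sqU p hp w hwU
    set W : Subgroup G := zpowers p ⊔ zpowers w with hWdef
    have hW4 : Nat.card W ≤ 4 := by
      have h1 : zpowers p ≤ normalizer (zpowers w : Set G) := by
        refine Block.le_normalizer_of_forall fun a ha b hb => ?_
        have haU : a ∈ U p := (zpowers_le.mpr (h.p_mem hp hp)) ha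
        have hbU : b ∈ U p := (zpowers_le.mpr hwU) hb
        rw [h.commU hp haU hbU, mul_inv_cancel_right]
        exact hb
      have h2 := Block.card_sup_mul_card_inf h1
      have h3 : Nat.card (zpowers p) ≤ 2 := by
        rw [Nat.card_zpowers]
        exact orderOf_le_of_pow_eq_one (by norm_num) (by rw [pow_two, hpp])
      have h4 : Nat.card (zpowers w) ≤ 2 := by
        rw [Nat.card_zpowers]
        exact orderOf_le_of_pow_eq_one (by norm_num) (by rw [pow_two, hww])
      have h5 : 0 < Nat.card ↥(zpowers p ⊓ zpowers w) := Nat.card_pos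
      have h6 : Nat.card (zpowers p) * Nat.card (zpowers w) ≤ 2 * 2 := Nat.mul_le_mul h3 h4
      calc Nat.card W ≤ Nat.card W * Nat.card ↥(zpowers p ⊓ zpowers w) := Nat.le_mul_of_pos_right _ h5
        _ ≤ 4 := by rw [hWdef, h2]; exact h6
    have h8 := eight_le h hp hx (n := 1) (by rw [pow_one, pow_two, hx1]; exact one_mem _) hxQ (W := W)
      (mem_sup_left (mem_zpowers p)) (by
        intro v hv
        by_cases hvD : v ∈ D
        · rw [← (hmem v).mp hvD, mul_inv_cancel_right, mul_inv_cancel]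
          exact one_mem _
        · have h1 := key u (h.U_le_K hp hu) v (h.U_le_K hp hv) huD hvD
          have h2 := (hmem _).mp h1
          have e : x * v * x⁻¹ * v⁻¹ = w := by
            calc x * v * x⁻¹ * v⁻¹ = x * u * x⁻¹ * (x * (u⁻¹ * v) * x⁻¹) * (u⁻¹ * v)⁻¹ * u⁻¹ := by group
              _ = x * u * x⁻¹ * ((u⁻¹ * v) * x * x⁻¹) * (u⁻¹ * v)⁻¹ * u⁻¹ := by rw [← h2]
              _ = w := by rw [hw]; group
          rw [e]
          exact mem_sup_right (mem_zpowers w))
    omega

/-- **Section B** -/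
theorem caseB_false (h : Tri V U C) (hp : Pt V p) (hq : Pt V q) (hpq : p ≠ q)
    (hK : Nat.card ↥(K U p) = 64) (hC : C p = centralizer ({p} : Set G))
    (hG : ∀ M : Subgroup G, M.index ≠ 2) : False := by
  obtain ⟨N, hNC, hUN, hUqN, hKN, k, hk, hkN, hNk⟩ := exists_N h hp hq hpq hK
  have hpp := h.pp hp
  have hhalf : IsHalf N p :=
    ⟨hNC.trans (h.C_le p hp), relIndex_eq_two (h.C_le p hp (h.K_le_C hp hp hk)) hkN (by rw [← hC]; exact hNk)⟩
  refine TwoFEnd.Data.false_of (z := p) (N := N) (K := K U p) (U := U p) (Q := Q U C p) ?_ hG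
  refine
    { half := hhalf
      z_sq := hpp
      z_ne := hp.2
      z_mem := h.p_mem hp hp
      U_le := h.U_le_K hp
      K_comm := ?_
      K_two := isPGroup_K h hp
      K_cent := centralizer_le (h.U_le_K hp)
      K_sq := fun k hk => TriTen.sq_K h hp hk
      U_sq := h.sqU p hp
      K_N := fun k hk => ⟨hKN k hk, fun h1 => hUN h1⟩
      exists_k := exists_k h hp hK
      K_le := h.K_le_Q hp
      Q_le := (kst_le _ _ _).trans (h.C_le p hp)
      KQ := ?_
      UQ := ?_
      rho := ?_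
      Q_sq := ?_
      Q_big := ?_
      pt_swap := ?_
      pt_good := ?_
      pt_orb := ?_ }
  · intro k hk l hl
    exact K_comm h hp hK hk hl
  · intro y hy k hk
    have h1 := comm_K_C h hp hK hk (inv_mem hy.1)
    rwa [inv_inv] at h1
  · intro y hy u hu
    rcases ((h.mem_Q_iff hp).mp (inv_mem hy)).2 u hu with h1 | h1
    · left; rwa [inv_inv] at h1
    · right
      rw [inv_inv] at h1
      rw [h1, h.commU hp (h.p_mem hp hp) hu]
  · intro y hy k hk hkU hyk
    refine inv_mem_iff.mp (rho h hp hK hk hkU (inv_mem hy) (Or.inl ?_))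
    rwa [inv_inv]
  · intro y hy
    exact sq_mem_K h hp hy
  · rw [TriQK.relIndex_K h hp]; decide
  · intro x hx hxU hxp
    obtain ⟨g, hg⟩ := hx
    obtain ⟨c, hc, hcx⟩ := exists_move h hp hxU (by
      rintro rfl
      apply hp.2
      have : p = g⁻¹ * (g * p * g⁻¹) * g := by group
      rw [this, hg]; group) hxp
    exact ⟨c, hc, by rw [hcx, h.commU hp (h.p_mem hp hp) hxU]⟩
  · intro x hx hxU hxp u hu
    obtain ⟨g, hg⟩ := hx
    obtain ⟨t, ht, htu⟩ := good_conj h hp hq hpq hC hg hxU hxp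
    rw [hhalf.bad_iff ht (h.commU hp hu hxU), not_not]
    exact hUqN (htu u hu)
  · rintro - x ⟨g, hg⟩ hxz hxK
    refine pt_orb h hp hK ?_ ?_ hxK
    · rw [hC]; exact mem_centralizer_singleton_iff.mpr hxz.symm
    · rw [← hg]
      have : g * p * g⁻¹ * (g * p * g⁻¹) = g * (p * p) * g⁻¹ := by group
      rw [this, hpp]; group

end Cfsg.Agent.Classification.TitsFin.TriB
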