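import Mathlib
import Cfsg.Prelude.Def_Local
import Cfsg.Agent.MinSimple.BTwoMod
import Cfsg.Agent.Lib.Cores
import Cfsg.Agent.OddOrderLocal.RankTwoFitting
import Cfsg.Agent.SmallSimple.SylowPrimeCount

/-!
# The blocks of `V_p / ⟨p⟩`

`X` is a solvable group with `O₂(X) = 1` acting faithfully on the elementary abelian 2-group `M`, `a` an involution of
`X` with `|[M, a]| = 4`, `e ∈ [M, a]` a vector such that `C_X(e) ≤ C_X(a)`, no other `X`-conjugate of `e` is in `[M, a]`,
`M` is generated by the conjugates of `e` and `a` centralizes `O₃(X)`. Then `[O₅(X), a] = ⟨x⟩` has order 5,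
`B = [M, x]` has order 16, its conjugates are equal to `B` or disjoint from `B` and the stabilizer of `B` induces a
group of order 10 or 20 on `B`.
-/

set_option autoImplicit false
set_option linter.unusedSectionVars false

namespace Cfsg.Agent.Classification.TitsFin.TriBlk

open Subgroup Cfsg
open Cfsg.Agent.MinSimple.BTwoMod (E E_add E_zero smul_E E_smul E_fix pow_fix)
open Cfsg.Agent.Lib.Cores

variable {X : Type*} {M : Type*} [Group X] [AddCommGroup M] [DistribMulAction X M]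

/-- `m ↦ a m + m` -/
def dl (M : Type*) [AddCommGroup M] [DistribMulAction X M] (a : X) : M →+ M where
  toFun m := a • m + m
  map_zero' := by simp
  map_add' m n := by rw [smul_add]; abel

@[simp] theorem dl_apply (a : X) (m : M) : dl M a m = a • m + m := rfl

/-- `[M, a]` -/
def im (M : Type*) [AddCommGroup M] [DistribMulAction X M] (a : X) : AddSubgroup M := (dl M a).range

/-- `C_M(a)` -/
def fx (M : Type*) [AddCommGroup M] [DistribMulAction X M] (a : X) : AddSubgroup M where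
  carrier := {m | a • m = m}
  zero_mem' := smul_zero a
  add_mem' := by
    intro m n hm hn
    change a • (m + n) = m + n
    rw [smul_add, show a • m = m from hm, show a • n = n from hn]
  neg_mem' := by
    intro m hm
    change a • (-m) = -m
    rw [smul_neg, show a • m = m from hm]

theorem mem_fx {a : X} {m : M} : m ∈ fx M a ↔ a • m = m := Iff.rfl

theorem mem_im {a : X} {m : M} : m ∈ im M a ↔ ∃ n, a • n + n = m := Iff.rfl

theorem im_mem (a : X) (m : M) : a • m + m ∈ im M a := ⟨m, rfl⟩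

section two

variable (two : ∀ m : M, m + m = 0)
include two

theorem neg_eq (m : M) : -m = m := neg_eq_of_add_eq_zero_left (two m)

theorem add_eq_zero {m n : M} : m + n = 0 ↔ m = n := by
  rw [add_eq_zero_iff_eq_neg, neg_eq two]

theorem add_right (m n : M) : m + n + n = m := by rw [add_assoc, two, add_zero]

theorem add_left (m n : M) : m + (m + n) = n := by rw [← add_assoc, two, zero_add]

theorem eq_add {m n k : M} : m = n + k ↔ m + k = n := by
  constructor
  · rintro rfl; exact add_right two n k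
  · rintro rfl; exact (add_right two m k).symm

theorem ker_dl (a : X) : (dl M a).ker = fx M a := by
  ext m
  rw [AddMonoidHom.mem_ker, dl_apply, mem_fx, add_eq_zero two]

theorem card_eq [Finite M] (a : X) (N : AddSubgroup M) :
    Nat.card N = Nat.card ↥(N ⊓ fx M a) * Nat.card ↥(N.map (dl M a)) := by
  have h1 := AddSubgroup.relIndex_ker N (dl M a)
  rw [ker_dl two] at h1
  have h2 := AddSubgroup.relIndex_mul_relIndex (⊥ : AddSubgroup M) (N ⊓ fx M a) N bot_le inf_le_left
  rw [AddSubgroup.relIndex_bot_left, AddSubgroup.relIndex_bot_left, inf_comm, AddSubgroup.inf_relIndex_right,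
    h1] at h2
  rw [← h2, inf_comm]

/-- `im (x ^ i) ≤ im x` -/
theorem pow_im (x : X) (i : ℕ) (m : M) : x ^ i • m + m ∈ im M x := by
  induction i with
  | zero => rw [pow_zero, one_smul, two]; exact zero_mem _
  | succ i ih =>
    have e : x ^ (i + 1) • m + m = (x • (x ^ i • m) + x ^ i • m) + (x ^ i • m + m) := by
      rw [pow_succ', mul_smul, add_assoc, ← add_assoc (x ^ i • m), two, zero_add]
    rw [e]
    exact add_mem (im_mem x _) ih

theorem im_pow_le (x : X) (i : ℕ) : im M (x ^ i) ≤ im M x := by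
  rintro _ ⟨m, rfl⟩
  exact pow_im two x i m

/-! ### elements of odd order -/

section odd

variable {x : X} {n : ℕ} (hn : n % 2 = 1) (hx : ∀ m : M, x ^ n • m = m)
include hn hx

theorem E_add_self (m : M) : E x n m + m ∈ im M x := by
  have h1 : ∀ k : ℕ, (∑ i ∈ Finset.range k, x ^ i • m) + k • m ∈ im M x := by
    intro k
    induction k with
    | zero => simp
    | succ k ih =>
      rw [Finset.sum_range_succ, succ_nsmul]
      have e : ∑ i ∈ Finset.range k, x ^ i • m + x ^ k • m + (k • m + m) =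
        (∑ i ∈ Finset.range k, x ^ i • m + k • m) + (x ^ k • m + m) := by abel
      rw [e]
      exact add_mem ih (pow_im two x k m)
  have h2 := h1 n
  have h3 : n • m = m := by
    rw [show n = 2 * (n / 2) + 1 by omega, add_smul, one_smul, mul_comm, mul_smul, two_smul, two, smul_zero,
      zero_add]
  rwa [h3] at h2

theorem E_of_mem_im {m : M} (hm : m ∈ im M x) : E x n m = 0 := by
  obtain ⟨k, rfl⟩ := hm
  change E x n (x • k + k) = 0
  rw [E_add, E_smul hx, two]

theorem inf_eq_bot : fx M x ⊓ im M x = ⊥ := by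
  rw [eq_bot_iff]
  rintro m ⟨h1, h2⟩
  rw [AddSubgroup.mem_bot, ← E_fix two hn (mem_fx.mp h1)]
  exact E_of_mem_im two hn hx h2

theorem eq_zero_of_mem {m : M} (h1 : x • m = m) (h2 : m ∈ im M x) : m = 0 := by
  have h3 : m ∈ fx M x ⊓ im M x := ⟨h1, h2⟩
  rwa [inf_eq_bot two hn hx, AddSubgroup.mem_bot] at h3

theorem exists_add (m : M) : ∃ u ∈ fx M x, ∃ v ∈ im M x, m = u + v :=
  ⟨E x n m, smul_E hx m, E x n m + m, E_add_self two hn hx m, (add_left two _ _).symm⟩

end odd

end two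

/-! ### counting -/

theorem card_modEq [Finite M] {p k : ℕ} [Fact p.Prime] {x : X} (hx : ∀ m : M, x ^ p ^ k • m = m)
    (A : AddSubgroup M) (hA : ∀ m ∈ A, x • m ∈ A) : Nat.card A ≡ Nat.card ↥(A ⊓ fx M x) [MOD p] := by
  classical
  let f : Function.End A := fun m => ⟨x • m, hA m m.2⟩
  have hf : ∀ (n : ℕ) (m : A), ((f ^ n) m : M) = x ^ n • (m : M) := by
    intro n
    induction n with
    | zero => intro m; rw [pow_zero, pow_zero, one_smul]; rfl
    | succ n ih =>
      intro m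
      rw [pow_succ, pow_succ, mul_smul]
      change ((f ^ n) (f m) : M) = x ^ n • (x • (m : M))
      rw [ih]
  have h1 : f ^ p ^ k = 1 := by
    funext m
    apply Subtype.ext
    rw [hf, hx]; rfl
  have : Fintype A := Fintype.ofFinite A
  have h2 := Equiv.Perm.card_fixedPoints_modEq h1
  rw [← Nat.card_eq_fintype_card, ← Nat.card_eq_fintype_card] at h2
  refine h2.trans ?_
  refine (congrArg (· % p) (Nat.card_congr ?_) : _)
  exact
    { toFun := fun m => ⟨m.1.1, m.1.2, congrArg Subtype.val m.2⟩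
      invFun := fun m => ⟨⟨m.1, m.2.1⟩, Subtype.ext m.2.2⟩
      left_inv := fun m => rfl
      right_inv := fun m => rfl }

theorem card_mul_le [Finite M] {A B N : AddSubgroup M} (hA : A ≤ N) (hB : B ≤ N) (hAB : A ⊓ B = ⊥) :
    Nat.card A * Nat.card B ≤ Nat.card N := by
  rw [← Nat.card_prod]
  refine Nat.card_le_card_of_injective (fun x : A × B => (⟨x.1 + x.2, add_mem (hA x.1.2) (hB x.2.2)⟩ : N)) ?_
  rintro ⟨u, v⟩ ⟨u', v'⟩ h
  have h1 : (u : M) + v = u' + v' := congrArg Subtype.val h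
  have h2 : (u : M) - u' = v' - v := by
    rw [sub_eq_sub_iff_add_eq_add, h1, add_comm]
  have h3 : (u : M) - u' ∈ A ⊓ B :=
    AddSubgroup.mem_inf.mpr ⟨sub_mem u.2 u'.2, h2 ▸ sub_mem v'.2 v.2⟩
  rw [hAB, AddSubgroup.mem_bot, sub_eq_zero] at h3
  rw [h3, sub_self] at h2
  exact Prod.ext (Subtype.ext h3) (Subtype.ext (sub_eq_zero.mp h2.symm).symm)

theorem eq_of_card_le [Finite M] {A B : AddSubgroup M} (h : A ≤ B) (hc : Nat.card B ≤ Nat.card A) : A = B :=
  AddSubgroup.eq_of_le_of_card_ge h hc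

/-! ### elements inverted by `a` -/

section inv

variable [Finite M] (two : ∀ m : M, m + m = 0) {a x : X} {n : ℕ} (hn : n % 2 = 1) (hx : x ^ n = 1)
  (ha : a * a = 1) (hax : a * x * a⁻¹ = x⁻¹)
include two hax

theorem smul_im {m : M} (hm : m ∈ im M x) : a • m ∈ im M x := by
  obtain ⟨k, rfl⟩ := hm
  refine ⟨x⁻¹ • a • k, ?_⟩
  change x • x⁻¹ • a • k + x⁻¹ • a • k = a • (x • k + k)
  have h1 : a * x = x⁻¹ * a := by rw [← hax, inv_mul_cancel_right]
  rw [smul_inv_smul, smul_add, ← mul_smul a x, h1, mul_smul, add_comm]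

include hn hx ha

theorem key : Nat.card (im M x) = Nat.card ((im M x).map (dl M a)) ^ 2 := by
  set N := im M x with hN
  have hx' : ∀ m : M, x ^ n • m = m := fun m => by rw [hx, one_smul]
  set y := x ^ ((n + 1) / 2) with hy
  have hyy : y * y = x := by
    rw [hy, ← pow_add, show (n + 1) / 2 + (n + 1) / 2 = n + 1 by omega, pow_succ, hx, one_mul]
  have hay : a * y = y⁻¹ * a := by
    have h1 : a * y * a⁻¹ = y⁻¹ := by rw [hy, ← conj_pow, hax, inv_pow]
    rw [← h1, inv_mul_cancel_right]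
  have hyN : ∀ m ∈ N, y • m ∈ N := by
    rintro _ ⟨k, rfl⟩
    refine ⟨y • k, ?_⟩
    change x • y • k + y • k = y • (x • k + k)
    rw [smul_add, ← mul_smul, ← mul_smul, hy, ← pow_succ, ← pow_succ']
  have h1 : Nat.card ↥(N ⊓ fx M a) ≤ Nat.card ↥(N ⊓ fx M (x * a)) := by
    refine Nat.card_le_card_of_injective (fun m => ⟨y • (m : M), hyN _ m.2.1, ?_⟩) ?_
    · change (x * a) • y • (m : M) = y • (m : M)
      have h2 : a • (m : M) = m := m.2.2
      rw [mul_smul, ← mul_smul a y, hay, mul_smul, h2, ← mul_smul]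
      congr 1
      rw [← hyy, mul_inv_cancel_right]
    · intro m m' hm
      have h2 : y • (m : M) = y • (m' : M) := congrArg Subtype.val hm
      exact Subtype.ext (smul_left_cancel y h2)
  have h2 : Nat.card ↥(N ⊓ fx M a) * Nat.card ↥(N ⊓ fx M (x * a)) ≤ Nat.card N := by
    refine card_mul_le inf_le_left inf_le_left ?_
    rw [eq_bot_iff]
    rintro m ⟨⟨h3, h4⟩, -, h5⟩
    rw [AddSubgroup.mem_bot]
    refine eq_zero_of_mem two hn hx' ?_ h3
    have h4' : a • m = m := h4
    have h5' : (x * a) • m = m := h5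
    rwa [mul_smul, h4'] at h5'
  have h3 : Nat.card ↥(N.map (dl M a)) ≤ Nat.card ↥(N ⊓ fx M a) := by
    refine AddSubgroup.card_le_of_le ?_
    rintro _ ⟨m, hm, rfl⟩
    refine ⟨add_mem (smul_im two hax hm) hm, ?_⟩
    change a • (a • m + m) = a • m + m
    rw [smul_add, ← mul_smul, ha, one_smul, add_comm]
  have h4 := card_eq two a N
  have hpos : 0 < Nat.card ↥(N ⊓ fx M a) := Nat.card_pos
  have h5 : Nat.card ↥(N ⊓ fx M a) ≤ Nat.card ↥(N.map (dl M a)) := by
    refine Nat.le_of_mul_le_mul_left ?_ hpos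
    rw [← h4]
    exact (Nat.mul_le_mul_left _ h1).trans h2
  have h6 := le_antisymm h5 h3
  rw [h4, h6, pow_two]

end inv

theorem pow_five [Finite M] {y : X} {k : ℕ} (hy : y ^ 5 ^ k = 1) {S : AddSubgroup M} (hS : ∀ m ∈ S, y • m ∈ S)
    (hc : Nat.card S ≤ 24) {m : M} (hm : m ∈ S) : y ^ 5 • m = m := by
  set f : M → M := fun m => y • m with hf
  have hit : ∀ (i : ℕ) (m : M), f^[i] m = y ^ i • m := by
    intro i
    induction i with
    | zero => intro m; rw [Function.iterate_zero, id, pow_zero, one_smul]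
    | succ i ih => intro m; rw [Function.iterate_succ_apply, ih, pow_succ, mul_smul]
  have h1 : Function.minimalPeriod f m ∣ 5 ^ k := by
    apply Function.IsPeriodicPt.minimalPeriod_dvd
    change f^[5 ^ k] m = m
    rw [hit, hy, one_smul]
  obtain ⟨j, -, hj⟩ := (Nat.dvd_prime_pow Nat.prime_five).mp h1
  have h2 : Function.minimalPeriod f m ≤ Nat.card S := by
    have hiS : ∀ i : ℕ, f^[i] m ∈ S := by
      intro i
      induction i with
      | zero => exact hm
      | succ i ih => rw [Function.iterate_succ_apply']; exact hS _ ih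
    have h3 : Nat.card (Fin (Function.minimalPeriod f m)) ≤ Nat.card S :=
      Nat.card_le_card_of_injective (fun i => ⟨f^[i] m, hiS i⟩) (by
        intro i i' hii
        exact Fin.ext (Function.iterate_injOn_Iio_minimalPeriod i.2 i'.2 (congrArg Subtype.val hii)))
    simpa using h3
  have h4 : j ≤ 1 := by
    by_contra hcon
    have h5 : 5 ^ 2 ≤ 5 ^ j := Nat.pow_le_pow_right (by norm_num) (by omega)
    omega
  have h6 : Function.minimalPeriod f m ∣ 5 := by
    rw [hj]
    exact pow_dvd_pow 5 h4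
  have h7 := (Function.isPeriodicPt_iff_minimalPeriod_dvd (f := f) (x := m) (n := 5)).mpr h6
  have h8 : f^[5] m = m := h7
  rwa [hit] at h8

theorem odd_five (k : ℕ) : 5 ^ k % 2 = 1 := by
  rw [Nat.pow_mod]; norm_num

instance : Fact (Nat.Prime 5) := ⟨Nat.prime_five⟩

theorem irr [Finite M] (two : ∀ m : M, m + m = 0) {x : X} (hx : x ^ 5 = 1) (hc : Nat.card (im M x) = 16)
    {S : AddSubgroup M} (hS : S ≤ im M x) (hinv : ∀ m ∈ S, x • m ∈ S) (hne : S ≠ ⊥) : S = im M x := by
  have h1 := card_modEq (p := 5) (k := 1) (x := x) (fun m => by rw [pow_one, hx, one_smul]) S hinv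
  have h2 : S ⊓ fx M x = ⊥ := by
    rw [eq_bot_iff, ← inf_eq_bot two (n := 5) (by norm_num) (fun m => by rw [hx, one_smul]) (x := x), inf_comm]
    exact inf_le_inf_left _ hS
  rw [h2] at h1
  have h3 : Nat.card ((⊥ : AddSubgroup M)) = 1 := AddSubgroup.card_bot
  rw [h3] at h1
  have h4 : Nat.card S ∣ 16 := by rw [← hc]; exact AddSubgroup.card_dvd_of_le hS
  have h5 : Nat.card S ≠ 1 := fun e => hne (AddSubgroup.card_eq_one.mp e)
  have h6 : Nat.card S = 16 := by
    have h7 : Nat.card S ∈ Nat.divisors 16 := Nat.mem_divisors.mpr ⟨h4, by norm_num⟩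
    have h8 : Nat.divisors 16 = {1, 2, 4, 8, 16} := by decide
    rw [h8] at h7
    simp only [Finset.mem_insert, Finset.mem_singleton] at h7
    rcases h7 with h7 | h7 | h7 | h7 | h7
    · exact absurd h7 h5
    · rw [h7] at h1; exact absurd h1 (by decide)
    · rw [h7] at h1; exact absurd h1 (by decide)
    · rw [h7] at h1; exact absurd h1 (by decide)
    · exact h7
  exact eq_of_card_le hS (by rw [hc, h6])

/-- The hypotheses on `a` and `e`. -/
structure Rk (a : X) (e : M) : Prop where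
  two : ∀ m : M, m + m = 0
  faith : ∀ g : X, (∀ m : M, g • m = m) → g = 1
  solv : Group.IsSolvable X
  o2 : pCore 2 X = ⊥
  sq : a * a = 1
  card : Nat.card (im M a) = 4
  mem : e ∈ im M a
  nz : e ≠ 0
  stab : ∀ c : X, c • e = e → c * a = a * c
  nl : ∀ c : X, c • e ∈ im M a → c • e = e
  gen : AddSubgroup.closure {m : M | ∃ c : X, m = c • e} = ⊤
  r3 : ∀ g ∈ pCore 3 X, a * g = g * a

namespace Rk

variable [Finite M] [Finite X] {a : X} {e : M} (h : Rk a e)
include h

theorem eq_one_of_im {x : X} (hx : im M x = ⊥) : x = 1 := by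
  refine h.faith x fun m => ?_
  have h1 : x • m + m ∈ im M x := im_mem x m
  rw [hx, AddSubgroup.mem_bot] at h1
  exact (add_eq_zero h.two).mp h1

theorem inv_cases {x : X} {n : ℕ} (hn : n % 2 = 1) (hx : x ^ n = 1) (hax : a * x * a⁻¹ = x⁻¹) (hx1 : x ≠ 1) :
    Nat.card (im M x) = 4 ∨ (Nat.card (im M x) = 16 ∧ im M a ≤ im M x) := by
  have h1 := key h.two hn hx h.sq hax
  have h2 : (im M x).map (dl M a) ≤ im M a := by
    rintro _ ⟨m, -, rfl⟩
    exact im_mem a m
  have h3 : Nat.card ((im M x).map (dl M a)) ∣ 4 := by rw [← h.card]; exact AddSubgroup.card_dvd_of_le h2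
  have h4 : Nat.card ((im M x).map (dl M a)) ∈ Nat.divisors 4 := Nat.mem_divisors.mpr ⟨h3, by norm_num⟩
  have h5 : Nat.divisors 4 = {1, 2, 4} := by decide
  rw [h5] at h4
  simp only [Finset.mem_insert, Finset.mem_singleton] at h4
  rcases h4 with h4 | h4 | h4
  · exfalso
    rw [h4] at h1
    exact hx1 (h.eq_one_of_im (AddSubgroup.card_eq_one.mp (by rw [h1]; norm_num)))
  · left; rw [h1, h4]; norm_num
  · right
    refine ⟨by rw [h1, h4]; norm_num, ?_⟩
    rw [← eq_of_card_le h2 (by rw [h.card, h4])]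
    rintro _ ⟨m, hm, rfl⟩
    exact add_mem (smul_im h.two hax hm) hm

theorem card_modEq_one {p k : ℕ} [Fact p.Prime] (hp : p % 2 = 1) {x : X} (hx : x ^ p ^ k = 1) :
    Nat.card (im M x) ≡ 1 [MOD p] := by
  have h1 := card_modEq (p := p) (k := k) (x := x) (fun m => by rw [hx, one_smul]) (im M x) (by
    rintro _ ⟨m, rfl⟩
    refine ⟨x • m, ?_⟩
    change x • x • m + x • m = x • (x • m + m)
    rw [smul_add])
  have h2 : im M x ⊓ fx M x = ⊥ := by
    rw [inf_comm]
    exact inf_eq_bot h.two (n := p ^ k) (by rw [Nat.pow_mod, hp, one_pow]; norm_num) (fun m => by rw [hx, one_smul])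
  rw [h2] at h1
  have h3 : Nat.card ((⊥ : AddSubgroup M)) = 1 := AddSubgroup.card_bot
  rwa [h3] at h1

theorem eq_one_of_seven {p k : ℕ} (hp : p.Prime) (h7 : 7 ≤ p) {x : X} (hx : x ^ p ^ k = 1)
    (hax : a * x * a⁻¹ = x⁻¹) : x = 1 := by
  by_contra hx1
  have : Fact p.Prime := ⟨hp⟩
  have hp2 : p % 2 = 1 := (hp.eq_two_or_odd.resolve_left (by omega))
  have h1 := h.card_modEq_one hp2 hx
  have h2 : ∀ n, n ≡ 1 [MOD p] → 1 ≤ n → p ∣ n - 1 := fun n hn h1 => (Nat.modEq_iff_dvd' h1).mp hn.symm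
  rcases h.inv_cases (by rw [Nat.pow_mod, hp2, one_pow]; norm_num) hx hax hx1 with h3 | ⟨h3, -⟩
  · rw [h3] at h1
    have h4 : p ∣ 3 := h2 4 h1 (by norm_num)
    exact absurd (Nat.le_of_dvd (by norm_num) h4) (by omega)
  · rw [h3] at h1
    have h4 : p ∣ 15 := h2 16 h1 (by norm_num)
    have h5 : p ∣ 3 * 5 := by simpa using h4
    rcases (Nat.Prime.dvd_mul hp).mp h5 with h6 | h6
    · exact absurd (Nat.le_of_dvd (by norm_num) h6) (by omega)
    · exact absurd (Nat.le_of_dvd (by norm_num) h6) (by omega)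

theorem five {k : ℕ} {x : X} (hx : x ^ 5 ^ k = 1) (hax : a * x * a⁻¹ = x⁻¹) (hx1 : x ≠ 1) :
    Nat.card (im M x) = 16 ∧ im M a ≤ im M x := by
  rcases h.inv_cases (odd_five k) hx hax hx1 with h3 | h3
  · exfalso
    have h1 := h.card_modEq_one (p := 5) (by norm_num) hx
    rw [h3] at h1
    exact absurd h1 (by decide)
  · exact h3

theorem five_sq {k : ℕ} {x : X} (hx : x ^ 5 ^ k = 1) (hax : a * x * a⁻¹ = x⁻¹) : x ^ 5 = 1 := by
  by_cases hx1 : x = 1
  · rw [hx1, one_pow]
  obtain ⟨h1, -⟩ := h.five hx hax hx1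
  refine h.faith _ fun m => ?_
  obtain ⟨u, hu, v, hv, rfl⟩ := exists_add h.two (odd_five k) (fun m => by rw [hx, one_smul]) m
  rw [smul_add, pow_fix (mem_fx.mp hu), pow_five hx (S := im M x) ?_ (by rw [h1]; norm_num) hv]
  rintro _ ⟨m, rfl⟩
  refine ⟨x • m, ?_⟩
  change x • x • m + x • m = x • (x • m + m)
  rw [smul_add]

/-- a 5-element commuting with `a` and `x` is trivial on `[M, x]` -/
theorem fix_of_comm {k : ℕ} {x w : X} (hw : w ^ 5 ^ k = 1) (hwa : w * a = a * w) (hwx : w * x = x * w)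
    (hx : x ^ 5 = 1) (hax : a * x * a⁻¹ = x⁻¹) {m : M} (hm : m ∈ im M x) : w • m = m := by
  by_cases hx1 : x = 1
  · obtain ⟨k, rfl⟩ := hm
    change w • (x • k + k) = x • k + k
    rw [hx1, one_smul, h.two, smul_zero]
  obtain ⟨h1, h2⟩ := h.five (k := 1) (by rw [pow_one]; exact hx) hax hx1
  have h3 : im M a ≤ fx M w := by
    have h4 := card_modEq (p := 5) (k := k) (x := w) (fun m => by rw [hw, one_smul]) (im M a) (by
      rintro _ ⟨m, rfl⟩
      refine ⟨w • m, ?_⟩
      change a • w • m + w • m = w • (a • m + m)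
      rw [smul_add, ← mul_smul, ← mul_smul, hwa])
    rw [h.card] at h4
    have h5 : Nat.card ↥(im M a ⊓ fx M w) ≤ 4 := by
      rw [← h.card]
      exact AddSubgroup.card_le_of_le inf_le_left
    have h6 : Nat.card ↥(im M a ⊓ fx M w) = 4 := by
      generalize Nat.card ↥(im M a ⊓ fx M w) = c at h4 h5
      interval_cases c
      · exact absurd h4 (by decide)
      · exact absurd h4 (by decide)
      · exact absurd h4 (by decide)
      · exact absurd h4 (by decide)
      · rfl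
    rw [← eq_of_card_le (inf_le_left : im M a ⊓ fx M w ≤ im M a) (by rw [h.card, h6])]
    exact inf_le_right
  have h7 : im M x ⊓ fx M w = im M x := by
    refine irr h.two hx h1 inf_le_left ?_ ?_
    · rintro m ⟨⟨n, rfl⟩, hm⟩
      refine ⟨⟨x • n, ?_⟩, ?_⟩
      · change x • x • n + x • n = x • (x • n + n)
        rw [smul_add]
      · have hm' : w • (x • n + n) = x • n + n := hm
        change w • x • (x • n + n) = x • (x • n + n)
        rw [← mul_smul, hwx, mul_smul, hm']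
    · intro e0
      have h8 : e ∈ im M x ⊓ fx M w := ⟨h2 h.mem, h3 h.mem⟩
      rw [e0, AddSubgroup.mem_bot] at h8
      exact h.nz h8
  have h8 : m ∈ im M x ⊓ fx M w := by rw [h7]; exact hm
  exact h8.2

/-! ### `[O₅(X), a]` -/

omit h [Finite M] [Finite X] in
theorem conj_comm {g : X} (ha : a * a = 1) :
    a * (g * a * g⁻¹ * a⁻¹) * a⁻¹ = (g * a * g⁻¹ * a⁻¹)⁻¹ := by
  have h1 : a⁻¹ = a := inv_eq_of_mul_eq_one_left ha
  have h2 : a * (g * a * g⁻¹ * a⁻¹) * a⁻¹ = a * g * a * g⁻¹ * (a⁻¹ * a⁻¹) := by group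
  have h3 : (g * a * g⁻¹ * a⁻¹)⁻¹ = a * g * a⁻¹ * g⁻¹ := by group
  rw [h2, h3, h1, ha, mul_one]

theorem a_ne : a ≠ 1 := by
  rintro rfl
  have h1 := h.card
  have h2 : im M (1 : X) = ⊥ := by
    rw [eq_bot_iff]
    rintro _ ⟨m, rfl⟩
    rw [AddSubgroup.mem_bot, dl_apply, one_smul, h.two]
  rw [h2, AddSubgroup.card_bot] at h1
  exact absurd h1 (by norm_num)

theorem exists_not_comm : ∃ g ∈ pCore 5 X, a * g ≠ g * a := by
  by_contra hcon
  push Not at hcon
  have hsolv := h.solv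
  have key : ∀ r : ℕ, r.Prime → a ∈ centralizer (pCore r X : Set X) := by
    intro r hr
    rw [mem_centralizer_iff]
    intro g hg
    by_cases h2 : r = 2
    · subst h2
      rw [h.o2] at hg
      rw [show g = 1 from hg, one_mul, mul_one]
    by_cases h3 : r = 3
    · subst h3; exact (h.r3 g hg).symm
    by_cases h5 : r = 5
    · subst h5; exact (hcon g hg).symm
    have h7 : 7 ≤ r := by
      have h4 := hr.two_le
      by_contra hcon
      have h6 : r = 4 ∨ r = 6 := by omega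
      rcases h6 with rfl | rfl
      · exact absurd hr (by norm_num)
      · exact absurd hr (by norm_num)
    have hn : (pCore r X).Normal := Cfsg.Agent.Lib.Cores.pCore_normal r
    have ht : g * a * g⁻¹ * a⁻¹ ∈ pCore r X := by
      have e : g * a * g⁻¹ * a⁻¹ = g * (a * g⁻¹ * a⁻¹) := by group
      rw [e]
      exact mul_mem hg (hn.conj_mem _ (inv_mem hg) a)
    have : Fact r.Prime := ⟨hr⟩
    obtain ⟨k, hk⟩ := (pCore_isPGroup (G := X) r) ⟨_, ht⟩
    have hk' : (g * a * g⁻¹ * a⁻¹) ^ r ^ k = 1 := by simpa using congrArg Subtype.val hk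
    have h8 := h.eq_one_of_seven hr h7 hk' (conj_comm h.sq)
    calc g * a = (g * a * g⁻¹ * a⁻¹) * (a * g) := by group
      _ = a * g := by rw [h8, one_mul]
  obtain ⟨h1, h2⟩ := OddOrderLocal.RankTwoFitting.mem_fitting_of_forall_mem_centralizer key
  set F := fittingSubgroup X with hF
  have hFn : F.Normal := fittingSubgroup_normal
  let N : Subgroup X :=
    { carrier := {g | g ∈ F ∧ g ∈ centralizer (F : Set X) ∧ g * g = 1}
      mul_mem' := by
        rintro g k ⟨hg, hg1, hg2⟩ ⟨hk, hk1, hk2⟩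
        refine ⟨mul_mem hg hk, mul_mem hg1 hk1, ?_⟩
        have e := mem_centralizer_iff.mp hk1 g hg
        calc g * k * (g * k) = g * (k * g) * k := by group
          _ = (g * g) * (k * k) := by rw [← e]; group
          _ = 1 := by rw [hg2, hk2, one_mul]
      one_mem' := ⟨one_mem _, one_mem _, one_mul 1⟩
      inv_mem' := by
        rintro g ⟨hg, hg1, hg2⟩
        exact ⟨inv_mem hg, inv_mem hg1, by rw [← mul_inv_rev, hg2, inv_one]⟩ }
  have hNn : N.Normal := by
    constructor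
    rintro n ⟨hn, hn1, hn2⟩ g
    refine ⟨hFn.conj_mem n hn g, ?_, ?_⟩
    · rw [mem_centralizer_iff] at hn1 ⊢
      intro f hf
      have h3 := hn1 (g⁻¹ * f * g) (by
        have := hFn.conj_mem f hf g⁻¹
        rwa [inv_inv] at this)
      calc f * (g * n * g⁻¹) = g * ((g⁻¹ * f * g) * n) * g⁻¹ := by group
        _ = g * (n * (g⁻¹ * f * g)) * g⁻¹ := by rw [h3]
        _ = g * n * g⁻¹ * f := by group
    · calc g * n * g⁻¹ * (g * n * g⁻¹) = g * (n * n) * g⁻¹ := by group
        _ = 1 := by rw [hn2]; group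
  have hN2 : IsPGroup 2 N := by
    rintro ⟨g, -, -, hg⟩
    exact ⟨1, Subtype.ext (by simpa [pow_two] using hg)⟩
  have h3 : N ≤ pCore 2 X := le_pCore hNn hN2
  have h4 : a ∈ pCore 2 X := h3 ⟨h2, h1, h.sq⟩
  rw [h.o2] at h4
  exact h.a_ne h4

end Rk

/-- generators of `[O₅(X), a]` -/
structure IsX (a x : X) : Prop where
  mem : x ∈ pCore 5 X
  ne : x ≠ 1
  inv : a * x * a⁻¹ = x⁻¹

namespace Rk

variable [Finite M] [Finite X] {a : X} {e : M} (h : Rk a e)
include h

omit h [Finite M] in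
theorem _root_.Cfsg.Agent.Classification.TitsFin.TriBlk.exists_pow {x : X} (hx : x ∈ pCore 5 X) :
    ∃ k, x ^ 5 ^ k = 1 := by
  obtain ⟨k, hk⟩ := (pCore_isPGroup (G := X) 5) ⟨_, hx⟩
  exact ⟨k, by simpa using congrArg Subtype.val hk⟩

theorem pow_eq {x : X} (hx : IsX a x) : x ^ 5 = 1 := by
  obtain ⟨k, hk⟩ := exists_pow hx.mem
  exact h.five_sq hk hx.inv

theorem card_im {x : X} (hx : IsX a x) : Nat.card (im M x) = 16 :=
  (h.five (k := 1) (by rw [pow_one]; exact h.pow_eq hx) hx.inv hx.ne).1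

theorem im_le {x : X} (hx : IsX a x) : im M a ≤ im M x :=
  (h.five (k := 1) (by rw [pow_one]; exact h.pow_eq hx) hx.inv hx.ne).2

theorem e_mem {x : X} (hx : IsX a x) : e ∈ im M x := h.im_le hx h.mem

theorem fix_zero {x : X} (hx : IsX a x) {m : M} (h1 : x • m = m) (h2 : m ∈ im M x) : m = 0 :=
  eq_zero_of_mem h.two (n := 5) (by norm_num) (fun m => by rw [h.pow_eq hx, one_smul]) h1 h2

theorem exists_central : ∃ x : X, IsX a x ∧ ∀ g ∈ pCore 5 X, g * x = x * g := by
  obtain ⟨g0, hg0, hne⟩ := h.exists_not_comm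
  set P := pCore 5 X with hP
  have hn : P.Normal := Cfsg.Agent.Lib.Cores.pCore_normal 5
  have hPg : IsPGroup 5 P := pCore_isPGroup 5
  have hcm : ∀ g ∈ P, g * a * g⁻¹ * a⁻¹ ∈ P := by
    intro g hg
    have e : g * a * g⁻¹ * a⁻¹ = g * (a * g⁻¹ * a⁻¹) := by group
    rw [e]
    exact mul_mem hg (hn.conj_mem _ (inv_mem hg) a)
  set D : Subgroup X := closure {t | ∃ g ∈ P, t = g * a * g⁻¹ * a⁻¹} with hD
  have hDP : D ≤ P := by
    rw [hD, closure_le]
    rintro _ ⟨g, hg, rfl⟩
    exact hcm g hg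
  have hgen : ∀ g ∈ P, g * a * g⁻¹ * a⁻¹ ∈ D := fun g hg => subset_closure ⟨g, hg, rfl⟩
  have hDn : ∀ k ∈ P, ∀ d ∈ D, k * d * k⁻¹ ∈ D := by
    intro k hk d hd
    refine closure_induction (p := fun d _ => k * d * k⁻¹ ∈ D) ?_ ?_ ?_ ?_ hd
    · rintro _ ⟨g, hg, rfl⟩
      have e : k * (g * a * g⁻¹ * a⁻¹) * k⁻¹ =
        ((k * g) * a * (k * g)⁻¹ * a⁻¹) * (k * a * k⁻¹ * a⁻¹)⁻¹ := by group
      rw [e]
      exact mul_mem (hgen _ (mul_mem hk hg)) (inv_mem (hgen _ hk))
    · simp
    · intro d d' _ _ h1 h2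
      have e : k * (d * d') * k⁻¹ = (k * d * k⁻¹) * (k * d' * k⁻¹) := by group
      rw [e]; exact mul_mem h1 h2
    · intro d _ h1
      have e : k * d⁻¹ * k⁻¹ = (k * d * k⁻¹)⁻¹ := by group
      rw [e]; exact inv_mem h1
  have hnorm : (D.subgroupOf P).Normal := by
    constructor
    rintro ⟨d, hd⟩ hd1 ⟨k, hk⟩
    exact hDn k hk d hd1
  have hDne : D.subgroupOf P ≠ ⊥ := by
    intro e0
    apply hne
    have h1 : (⟨_, hcm g0 hg0⟩ : P) ∈ D.subgroupOf P := hgen g0 hg0
    rw [e0, mem_bot] at h1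
    have h2 : g0 * a * g0⁻¹ * a⁻¹ = 1 := congrArg Subtype.val h1
    calc a * g0 = (g0 * a * g0⁻¹ * a⁻¹) * (a * g0) := by rw [h2, one_mul]
      _ = g0 * a := by group
  obtain ⟨w, hwD, hwc, hw1⟩ := SmallSimple.SylowPrimeCount.exists_mem_center_of_normal hPg _ hDne
  obtain ⟨w, hwP⟩ := w
  have hwD' : w ∈ D := hwD
  have hwne : w ≠ 1 := fun e => hw1 (Subtype.ext e)
  have hwc' : ∀ g ∈ P, g * w = w * g := fun g hg =>
    congrArg Subtype.val (mem_center_iff.mp hwc ⟨g, hg⟩)
  by_cases hwa : w * a = a * w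
  · exfalso
    apply hwne
    obtain ⟨k, hk⟩ := exists_pow hwP
    have h1 : ∀ d ∈ D, ∀ m : M, w • (d • m + m) = d • m + m := by
      intro d hd
      refine closure_induction (p := fun d _ => ∀ m : M, w • (d • m + m) = d • m + m) ?_ ?_ ?_ ?_ hd
      · rintro _ ⟨g, hg, rfl⟩ m
        obtain ⟨j, hj⟩ := exists_pow (hcm g hg)
        exact h.fix_of_comm hk hwa (hwc' _ (hcm g hg)).symm (h.five_sq hj (conj_comm h.sq)) (conj_comm h.sq)
          (im_mem _ m)
      · intro m
        rw [one_smul, h.two, smul_zero]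
      · intro d d' hd hd' h1 h2 m
        have e1 : (d * d') • m + m = d • (d' • m + m) + (d • m + m) := by
          rw [smul_add, mul_smul, add_assoc, ← add_assoc (d • m), h.two, zero_add]
        have e2 : w * d = d * w := (hwc' d (hDP hd)).symm
        rw [e1, smul_add, h1 m, ← mul_smul, e2, mul_smul, h2 m]
      · intro d hd h1 m
        have e1 : d⁻¹ • m + m = d⁻¹ • (d • m + m) := by
          rw [smul_add, inv_smul_smul, add_comm]
        have e2 : w * d⁻¹ = d⁻¹ * w := (hwc' _ (hDP (inv_mem hd))).symm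
        rw [e1, ← mul_smul, e2, mul_smul, h1 m]
    refine h.eq_one_of_im ?_
    rw [eq_bot_iff]
    rintro _ ⟨m, rfl⟩
    rw [AddSubgroup.mem_bot]
    exact eq_zero_of_mem h.two (odd_five k) (fun m => by rw [hk, one_smul]) (h1 w hwD' m) (im_mem w m)
  · refine ⟨w * a * w⁻¹ * a⁻¹, ⟨hcm w hwP, fun e => hwa ?_, conj_comm h.sq⟩, fun g hg => ?_⟩
    · calc w * a = (w * a * w⁻¹ * a⁻¹) * (a * w) := by group
        _ = a * w := by rw [e, one_mul]
    · have h1 : g * (a * w⁻¹ * a⁻¹) = (a * w⁻¹ * a⁻¹) * g := by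
        have h2 : (a⁻¹ * g * a) * w = w * (a⁻¹ * g * a) := hwc' _ (by
          have := hn.conj_mem g hg a⁻¹
          rwa [inv_inv] at this)
        have h3 : (a⁻¹ * g * a) * w⁻¹ = w⁻¹ * (a⁻¹ * g * a) :=
          ((show Commute (a⁻¹ * g * a) w from h2).inv_right).eq
        calc g * (a * w⁻¹ * a⁻¹) = a * ((a⁻¹ * g * a) * w⁻¹) * a⁻¹ := by group
          _ = a * (w⁻¹ * (a⁻¹ * g * a)) * a⁻¹ := by rw [h3]
          _ = (a * w⁻¹ * a⁻¹) * g := by group
      have e : w * a * w⁻¹ * a⁻¹ = w * (a * w⁻¹ * a⁻¹) := by group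
      rw [e, ← mul_assoc, hwc' g hg, mul_assoc, h1, ← mul_assoc]

/-! ### uniqueness -/

omit h [Finite M] [Finite X] in
theorem _root_.Cfsg.Agent.Classification.TitsFin.TriBlk.mem_of_zpow_mem {H : Subgroup X} {y : X} (hy : y ^ 5 = 1)
    {k : ℤ} (hk : k % 5 ≠ 0) (hkH : y ^ k ∈ H) : y ∈ H := by
  obtain ⟨l, hl⟩ : ∃ l : ℤ, (k * l) % 5 = 1 := by
    have h1 : k % 5 = 1 ∨ k % 5 = 2 ∨ k % 5 = 3 ∨ k % 5 = 4 := by omega
    rcases h1 with e | e | e | e
    · exact ⟨1, by omega⟩
    · exact ⟨3, by omega⟩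
    · exact ⟨2, by omega⟩
    · exact ⟨4, by omega⟩
  have hy' : y ^ (5 : ℤ) = 1 := by exact_mod_cast hy
  have h2 : y ^ (k * l) = y := by
    have e : k * l = 5 * (k * l / 5) + 1 := by omega
    rw [e, zpow_add, zpow_mul, hy', one_zpow, one_mul, zpow_one]
  rw [← h2, zpow_mul]
  exact zpow_mem hkH l

omit h [Finite M] [Finite X] in
theorem _root_.Cfsg.Agent.Classification.TitsFin.TriBlk.zpow_mod {y : X} (hy : y ^ 5 = 1) {k : ℤ} (hk : k % 5 = 0) :
    y ^ k = 1 := by
  have hy' : y ^ (5 : ℤ) = 1 := by exact_mod_cast hy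
  rw [show k = 5 * (k / 5) by omega, zpow_mul, hy', one_zpow]

omit h [Finite M] [Finite X] in
theorem _root_.Cfsg.Agent.Classification.TitsFin.TriBlk.smul_mem_im_iff {c x : X} {m : M} :
    c • m ∈ im M (c * x * c⁻¹) ↔ m ∈ im M x := by
  have key : ∀ (c x : X) (m : M), m ∈ im M x → c • m ∈ im M (c * x * c⁻¹) := by
    rintro c x _ ⟨n, rfl⟩
    refine ⟨c • n, ?_⟩
    change (c * x * c⁻¹) • c • n + c • n = c • (x • n + n)
    rw [smul_add, ← mul_smul, ← mul_smul, inv_mul_cancel_right]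
  constructor
  · intro h1
    have h2 := key c⁻¹ _ _ h1
    have e : c⁻¹ * (c * x * c⁻¹) * c⁻¹⁻¹ = x := by group
    rwa [e, inv_smul_smul] at h2
  · exact key c x m

omit h [Finite M] [Finite X] in
theorem _root_.Cfsg.Agent.Classification.TitsFin.TriBlk.smul_mem_im_of_comm {w y : X} (hwy : w * y = y * w) {m : M}
    (hm : m ∈ im M y) : w • m ∈ im M y := by
  have h1 := (smul_mem_im_iff (c := w)).mpr hm
  rwa [hwy, mul_inv_cancel_right] at h1

omit h [Finite M] [Finite X] in
theorem _root_.Cfsg.Agent.Classification.TitsFin.TriBlk.card_im_conj (c x : X) :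
    Nat.card (im M (c * x * c⁻¹)) = Nat.card (im M x) := by
  refine (Nat.card_congr ?_).symm
  exact
    { toFun := fun m => ⟨c • (m : M), smul_mem_im_iff.mpr m.2⟩
      invFun := fun m => ⟨c⁻¹ • (m : M), by
        have h1 := smul_mem_im_iff (c := c) (x := x) (m := c⁻¹ • (m : M))
        rw [smul_inv_smul] at h1
        exact h1.mp m.2⟩
      left_inv := fun m => Subtype.ext (inv_smul_smul c (m : M))
      right_inv := fun m => Subtype.ext (smul_inv_smul c (m : M)) }

theorem fix_im {x : X} (hx : IsX a x) {t : X} (htx : t * x = x * t) {u : M} (hu : u ∈ im M x) (hu0 : u ≠ 0)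
    (htu : t • u = u) {m : M} (hm : m ∈ im M x) : t • m = m := by
  have h1 : im M x ⊓ fx M t = im M x := by
    refine irr h.two (h.pow_eq hx) (h.card_im hx) inf_le_left ?_ ?_
    · rintro m ⟨h1, h2⟩
      refine ⟨smul_mem_im_of_comm rfl h1, ?_⟩
      change t • x • m = x • m
      rw [← mul_smul, htx, mul_smul, show t • m = m from h2]
    · intro e0
      have h2 : u ∈ im M x ⊓ fx M t := ⟨hu, htu⟩
      rw [e0, AddSubgroup.mem_bot] at h2
      exact hu0 h2
  have h2 : m ∈ im M x ⊓ fx M t := by rw [h1]; exact hm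
  exact h2.2

theorem fix_fx {x : X} (hx : IsX a x) {y : X} (hyx : y * x = x * y) (him : im M y ≤ im M x) {u : M}
    (hu : x • u = u) : y • u = u := by
  refine (add_eq_zero h.two).mp (h.fix_zero hx ?_ (him (im_mem y u)))
  rw [smul_add, ← mul_smul, ← hyx, mul_smul, hu]

theorem eq_one_of {x : X} (hx : IsX a x) {t : X} (h1 : ∀ m ∈ im M x, t • m = m) (h2 : ∀ m : M, x • m = m → t • m = m) :
    t = 1 := by
  refine h.faith t fun m => ?_
  obtain ⟨u, hu, v, hv, rfl⟩ := exists_add h.two (n := 5) (by norm_num) (fun m => by rw [h.pow_eq hx, one_smul])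
    (x := x) m
  rw [smul_add, h1 v hv, h2 u hu]

theorem im_eq {x y : X} (hx : IsX a x) (hyx : y * x = x * y) (hy : Nat.card (im M y) = 16) {u : M}
    (hu : u ∈ im M x) (hu' : u ∈ im M y) (hu0 : u ≠ 0) : im M x = im M y := by
  have h1 : im M x ⊓ im M y = im M x := by
    refine irr h.two (h.pow_eq hx) (h.card_im hx) inf_le_left ?_ ?_
    · rintro m ⟨h1, h2⟩
      exact ⟨smul_mem_im_of_comm rfl h1, smul_mem_im_of_comm hyx.symm h2⟩
    · intro e0
      have h2 : u ∈ im M x ⊓ im M y := ⟨hu, hu'⟩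
      rw [e0, AddSubgroup.mem_bot] at h2
      exact hu0 h2
  exact eq_of_card_le (inf_eq_left.mp h1) (by rw [hy, h.card_im hx])

theorem pow_e_ne {x : X} (hx : IsX a x) {k : ℤ} (hk : k % 5 ≠ 0) {u : M} (hu : u ∈ im M x) (hu0 : u ≠ 0) :
    x ^ k • u ≠ u := by
  intro h1
  have h2 : x ∈ MulAction.stabilizer X u :=
    mem_of_zpow_mem (h.pow_eq hx) hk (MulAction.mem_stabilizer_iff.mpr h1)
  exact hu0 (h.fix_zero hx (MulAction.mem_stabilizer_iff.mp h2) hu)

theorem unique {x y : X} (hx : IsX a x) (hxc : ∀ g ∈ pCore 5 X, g * x = x * g) (hy : IsX a y) : y ∈ zpowers x := by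
  have hyx : y * x = x * y := hxc y hy.mem
  have him : im M x = im M y := h.im_eq hx hyx (h.card_im hy) (h.e_mem hx) (h.e_mem hy) h.nz
  have hpw : ∀ (w : X), w * x = x * w → ∀ n : ℤ, ∀ m ∈ im M x, w ^ n • m ∈ im M x := fun w hw n m hm =>
    smul_mem_im_of_comm ((show Commute w x from hw).zpow_left n).eq hm
  let f : Fin 5 × Fin 5 → im M x := fun ij =>
    ⟨x ^ ((ij.1 : ℕ) : ℤ) • y ^ ((ij.2 : ℕ) : ℤ) • e, hpw x rfl _ _ (hpw y hyx _ _ (h.e_mem hx))⟩
  have hnf : ¬ Function.Injective f := by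
    intro hf
    have h1 := Nat.card_le_card_of_injective f hf
    rw [h.card_im hx] at h1
    simp at h1
  simp only [Function.Injective, not_forall] at hnf
  obtain ⟨⟨i, j⟩, ⟨i', j'⟩, heq, hne⟩ := hnf
  have heq' : x ^ ((i : ℕ) : ℤ) • y ^ ((j : ℕ) : ℤ) • e = x ^ ((i' : ℕ) : ℤ) • y ^ ((j' : ℕ) : ℤ) • e :=
    congrArg Subtype.val heq
  generalize hi : ((i : ℕ) : ℤ) = I at heq'
  generalize hj : ((j : ℕ) : ℤ) = J at heq'
  generalize hi' : ((i' : ℕ) : ℤ) = I' at heq'
  generalize hj' : ((j' : ℕ) : ℤ) = J' at heq'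
  have hiB := i.2
  have hjB := j.2
  have hiB' := i'.2
  have hjB' := j'.2
  have hcxy : Commute x y := hyx.symm
  set t := x ^ (I - I') * y ^ (J - J') with ht
  have htx : t * x = x * t :=
    (((Commute.refl x).zpow_left _).mul_left (hcxy.symm.zpow_left _)).eq
  have hte : t • e = e := by
    have e1 : t = (x ^ I' * y ^ J')⁻¹ * (x ^ I * y ^ J) := by
      have c1 : Commute (y ^ J') (x ^ I) := (hcxy.zpow_zpow I J').symm
      have c2 := c1.inv_left.eq
      rw [ht, zpow_sub, zpow_sub, mul_inv_rev]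
      have c3 : x ^ I * (x ^ I')⁻¹ = (x ^ I')⁻¹ * x ^ I := ((Commute.refl x).zpow_zpow I I').inv_right.eq
      have c4 : y ^ J * (y ^ J')⁻¹ = (y ^ J')⁻¹ * y ^ J := ((Commute.refl y).zpow_zpow J J').inv_right.eq
      have c5 : Commute ((y ^ J')⁻¹) ((x ^ I')⁻¹) := (hcxy.zpow_zpow I' J').symm.inv_inv
      calc x ^ I * (x ^ I')⁻¹ * (y ^ J * (y ^ J')⁻¹) = (x ^ I')⁻¹ * (x ^ I * (y ^ J')⁻¹) * y ^ J := by
            rw [c3, c4]; group
        _ = ((x ^ I')⁻¹ * (y ^ J')⁻¹) * (x ^ I * y ^ J) := by rw [← c2]; group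
        _ = (y ^ J')⁻¹ * (x ^ I')⁻¹ * (x ^ I * y ^ J) := by rw [← c5.eq]
    rw [e1, mul_smul, mul_smul, heq', ← mul_smul (x ^ I'), inv_smul_smul]
  have ht1 : t = 1 := by
    refine h.eq_one_of hx (fun m hm => h.fix_im hx htx (h.e_mem hx) h.nz hte hm) fun u hu => ?_
    have h1 : y • u = u := h.fix_fx hx hyx him.ge hu
    have h2 : ∀ (w : X), w • u = u → ∀ n : ℤ, w ^ n • u = u := fun w hw n =>
      MulAction.mem_stabilizer_iff.mp (zpow_mem (MulAction.mem_stabilizer_iff.mpr hw) n)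
    rw [ht, mul_smul, h2 y h1, h2 x hu]
  have h3 : y ^ (J - J') ∈ zpowers x := by
    have : y ^ (J - J') = (x ^ (I - I'))⁻¹ := (inv_eq_of_mul_eq_one_right ht1).symm
    rw [this]
    exact inv_mem (zpow_mem (mem_zpowers x) _)
  by_cases hJ : (J - J') % 5 = 0
  · exfalso
    have hJJ : j = j' := Fin.ext (by omega)
    have hII : (I - I') % 5 ≠ 0 := by
      intro h0
      exact hne (Prod.ext (Fin.ext (by change (i : ℕ) = i'; omega)) hJJ)
    rw [zpow_mod (h.pow_eq hy) hJ, mul_one] at ht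
    exact h.pow_e_ne hx hII (h.e_mem hx) h.nz (by rw [← ht]; exact hte)
  · exact mem_of_zpow_mem (h.pow_eq hy) hJ h3

/-! ### the conjugates of `x` -/

section central

variable {x : X} (hx : IsX a x) (hxc : ∀ g ∈ pCore 5 X, g * x = x * g)
include hx hxc

theorem conj_cases (c : X) : c * x * c⁻¹ ∈ zpowers x ∨
    ((∀ m ∈ im M x, (c * x * c⁻¹) • m = m) ∧ a * (c * x * c⁻¹) = (c * x * c⁻¹) * a) := by
  have hn : (pCore 5 X).Normal := Cfsg.Agent.Lib.Cores.pCore_normal 5
  have hx5 := h.pow_eq hx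
  set x' := c * x * c⁻¹ with hx'
  have hmem : x' ∈ pCore 5 X := hn.conj_mem _ hx.mem c
  have hx'5 : x' ^ 5 = 1 := by rw [hx', conj_pow, hx5, mul_one, mul_inv_cancel]
  have hcom : x' * x = x * x' := hxc x' hmem
  have hC : Commute x' x := hcom
  by_cases hax : a * x' = x' * a
  · right
    exact ⟨fun m hm => h.fix_of_comm (k := 1) (by rw [pow_one]; exact hx'5) hax.symm hcom hx5 hx.inv hm, hax⟩
  left
  set t := x' * a * x'⁻¹ * a⁻¹ with ht
  have ht1 : t ≠ 1 := fun e1 => hax (by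
    calc a * x' = t * (a * x') := by rw [e1, one_mul]
      _ = x' * a := by rw [ht]; group)
  have htm : t ∈ pCore 5 X := by
    have e1 : t = x' * (a * x'⁻¹ * a⁻¹) := by rw [ht]; group
    rw [e1]
    exact mul_mem hmem (hn.conj_mem _ (inv_mem hmem) a)
  obtain ⟨j, hj⟩ := mem_zpowers_iff.mp (h.unique hx hxc ⟨htm, ht1, conj_comm h.sq⟩)
  have hj0 : j % 5 ≠ 0 := fun e1 => ht1 (by rw [← hj]; exact zpow_mod hx5 e1)
  have h1 : a * x' * a⁻¹ = t⁻¹ * x' := by rw [ht]; group
  have h2 : a * x ^ (2 * j) * a⁻¹ = x ^ (-(2 * j)) := by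
    rw [← conj_zpow, hx.inv, inv_zpow, zpow_neg]
  set w := x' * x ^ (2 * j) with hw
  have hwx : w * x = x * w := (hC.mul_left ((Commute.refl x).zpow_left _)).eq
  have h1' : a * x' * a⁻¹ = x ^ (-j) * x' := by rw [h1, ← hj, zpow_neg]
  have h2' : x ^ (-j) * x ^ (-(2 * j)) = x ^ (2 * j) := by
    have e1 : x ^ (5 * (-j)) = 1 := zpow_mod hx5 (by omega)
    calc x ^ (-j) * x ^ (-(2 * j)) = x ^ (2 * j) * x ^ (5 * (-j)) := by
          rw [← zpow_add, ← zpow_add]; congr 1; ring
      _ = x ^ (2 * j) := by rw [e1, mul_one]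
  have haw : a * w * a⁻¹ = w := by
    have e1 : a * w * a⁻¹ = (a * x' * a⁻¹) * (a * x ^ (2 * j) * a⁻¹) := by
      rw [hw]; simp only [mul_assoc, inv_mul_cancel_left]
    rw [e1, h1', h2, ← (hC.zpow_right (-j)).eq, mul_assoc, h2']
  have hwa : w * a = a * w := by
    calc w * a = (a * w * a⁻¹) * a := by rw [haw]
      _ = a * w := by group
  have hw5 : w ^ 5 = 1 := by
    have h3 : (x ^ (2 * j)) ^ 5 = 1 := by
      rw [← zpow_natCast, ← zpow_mul]
      exact zpow_mod hx5 (by push_cast; omega)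
    rw [hw, (hC.zpow_right (2 * j)).mul_pow, hx'5, one_mul, h3]
  have hfix : ∀ m ∈ im M x, w • m = m := fun m hm =>
    h.fix_of_comm (k := 1) (by rw [pow_one]; exact hw5) hwa hwx hx5 hx.inv hm
  have hx'w : x' = w * x ^ (-(2 * j)) := by rw [hw, zpow_neg, mul_inv_cancel_right]
  by_cases hw1 : w = 1
  · rw [hx'w, hw1, one_mul]
    exact zpow_mem (mem_zpowers x) _
  exfalso
  apply hw1
  have hpm : ∀ m ∈ im M x, x ^ (-(2 * j)) • m ∈ im M x := fun m hm =>
    smul_mem_im_of_comm ((Commute.refl x).zpow_left _).eq hm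
  have h3 : x' • e = x ^ (-(2 * j)) • e := by
    rw [hx'w, mul_smul, hfix _ (hpm e (h.e_mem hx))]
  have h4 : x' • e + e ≠ 0 := by
    rw [Ne, add_eq_zero h.two, h3]
    exact h.pow_e_ne hx (by omega) (h.e_mem hx) h.nz
  have h5 : x' • e + e ∈ im M x := by
    rw [h3]; exact add_mem (hpm e (h.e_mem hx)) (h.e_mem hx)
  have h6 : im M x = im M x' :=
    h.im_eq hx hcom (by rw [hx', card_im_conj, h.card_im hx]) h5 (im_mem x' e) h4
  refine h.eq_one_of hx hfix fun u hu => ?_
  have h7 : x' • u = u := h.fix_fx hx hcom h6.ge hu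
  have h8 : x ^ (2 * j) • u = u :=
    MulAction.mem_stabilizer_iff.mp (zpow_mem (MulAction.mem_stabilizer_iff.mpr hu) _)
  rw [hw, mul_smul, h8, h7]

omit hxc in
theorem im_conj_eq {c : X} (hc : c * x * c⁻¹ ∈ zpowers x) : im M (c * x * c⁻¹) = im M x := by
  refine eq_of_card_le ?_ (by rw [card_im_conj])
  obtain ⟨k, hk⟩ := (mem_powers_iff_mem_zpowers (x := x)).mpr hc
  have hk' : x ^ k = c * x * c⁻¹ := hk
  rw [← hk']
  exact im_pow_le h.two x k

/-- the stabilizer of `im M x` -/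
def _root_.Cfsg.Agent.Classification.TitsFin.TriBlk.stb (M : Type*) [AddCommGroup M] [DistribMulAction X M] (x : X) :
    Subgroup X where
  carrier := {c | ∀ m : M, c • m ∈ im M x ↔ m ∈ im M x}
  mul_mem' := by
    intro c d hc hd m
    rw [mul_smul, hc, hd]
  one_mem' := by intro m; rw [one_smul]
  inv_mem' := by
    intro c hc m
    rw [← hc (c⁻¹ • m), smul_inv_smul]

/-- the kernel of `stb M x` on `im M x` -/
def _root_.Cfsg.Agent.Classification.TitsFin.TriBlk.kr (M : Type*) [AddCommGroup M] [DistribMulAction X M] (x : X) :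
    Subgroup X where
  carrier := {c | ∀ m ∈ im M x, c • m = m}
  mul_mem' := by
    intro c d hc hd m hm
    rw [mul_smul, hd m hm, hc m hm]
  one_mem' := by intro m _; rw [one_smul]
  inv_mem' := by
    intro c hc m hm
    rw [inv_smul_eq_iff, hc m hm]

theorem disj {c : X} (hc : c * x * c⁻¹ ∉ zpowers x) {m : M} (hm : m ∈ im M x) (hcm : c • m ∈ im M x) : m = 0 := by
  rcases h.conj_cases hx hxc c with h1 | ⟨h1, -⟩
  · exact absurd h1 hc
  · have h2 := h1 _ hcm
    have h3 : c • x • m = c • m := by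
      rw [mul_smul, mul_smul, inv_smul_smul] at h2
      exact h2
    exact h.fix_zero hx (smul_left_cancel c h3) hm

theorem mem_stb {c : X} : c ∈ stb M x ↔ c * x * c⁻¹ ∈ zpowers x := by
  constructor
  · intro hc
    by_contra hcon
    exact h.nz (h.disj hx hxc hcon (h.e_mem hx) ((hc e).mpr (h.e_mem hx)))
  · intro hc m
    rw [← h.im_conj_eq hx hc, smul_mem_im_iff, h.im_conj_eq hx hc]

theorem disj' {c : X} (hc : c ∉ stb M x) {m : M} (hm : m ∈ im M x) (hcm : c • m ∈ im M x) : m = 0 :=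
  h.disj hx hxc (fun h1 => hc ((h.mem_stb hx hxc).mpr h1)) hm hcm

/-- (o5) -/
theorem mem_stb_of_fix {c : X} (hc : c • e = e) : c ∈ stb M x := by
  rw [h.mem_stb hx hxc]
  refine h.unique hx hxc ⟨?_, ?_, ?_⟩
  · exact (Cfsg.Agent.Lib.Cores.pCore_normal 5).conj_mem _ hx.mem c
  · intro e1
    apply hx.ne
    have : x = c⁻¹ * (c * x * c⁻¹) * c := by group
    rw [this, e1]; group
  · have h1 := h.stab c hc
    have h2 : a * c⁻¹ * a⁻¹ = c⁻¹ := by
      have : Commute c a := h1
      have h3 := this.inv_left.symm.eq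
      rw [h3, mul_inv_cancel_right]
    have h3 : a * c = c * a := h1.symm
    calc a * (c * x * c⁻¹) * a⁻¹ = (a * c) * x * c⁻¹ * a⁻¹ := by group
      _ = c * (a * x * a⁻¹) * (a * c⁻¹ * a⁻¹) := by rw [h3]; group
      _ = (c * x * c⁻¹)⁻¹ := by rw [hx.inv, h2]; group

/-- (o4) -/
theorem exists_fix (m : M) : ∃ u ∈ im M x, a • (m + u) = m + u := by
  have hm : m ∈ AddSubgroup.closure {m : M | ∃ c : X, m = c • e} := by
    rw [h.gen]; trivial
  refine AddSubgroup.closure_induction (p := fun m _ => ∃ u ∈ im M x, a • (m + u) = m + u) ?_ ?_ ?_ ?_ hm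
  · rintro _ ⟨c, rfl⟩
    by_cases hc : c ∈ stb M x
    · exact ⟨c • e, (hc e).mpr (h.e_mem hx), by rw [h.two, smul_zero]⟩
    · refine ⟨0, zero_mem _, ?_⟩
      rw [add_zero]
      rcases h.conj_cases hx hxc c with h1 | ⟨h1, h2⟩
      · exact absurd ((h.mem_stb hx hxc).mpr h1) hc
      have h3 : a • c • e + c • e ∈ im M x := h.im_le hx (im_mem a _)
      have h4 : c • e ∈ im M (c * x * c⁻¹) := smul_mem_im_iff.mpr (h.e_mem hx)
      have h5 : a • c • e + c • e ∈ im M (c * x * c⁻¹) := add_mem (smul_mem_im_of_comm h2 h4) h4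
      have h6 : (c * x * c⁻¹) ^ 5 = 1 := by rw [conj_pow, h.pow_eq hx, mul_one, mul_inv_cancel]
      refine (add_eq_zero h.two).mp (eq_zero_of_mem h.two (n := 5) (by norm_num) (fun m => by rw [h6, one_smul])
        (h1 _ h3) h5)
  · exact ⟨0, zero_mem _, by rw [add_zero, smul_zero]⟩
  · rintro m n _ _ ⟨u, hu, hu1⟩ ⟨v, hv, hv1⟩
    refine ⟨u + v, add_mem hu hv, ?_⟩
    have e1 : m + n + (u + v) = (m + u) + (n + v) := by abel
    rw [e1, smul_add, hu1, hv1]
  · rintro m _ ⟨u, hu, hu1⟩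
    refine ⟨u, hu, ?_⟩
    rw [neg_eq h.two]
    exact hu1

omit hx hxc in
theorem kr_le_stb (x : X) : kr M x ≤ stb M x := by
  intro c hc m
  constructor
  · intro h1
    have h2 : c • c • m = c • m := hc _ h1
    rw [smul_left_cancel c h2] at h1
    exact h1
  · intro h1
    rw [hc m h1]; exact h1

theorem cent_le_stb : centralizer ({x} : Set X) ≤ stb M x := by
  intro c hc
  rw [h.mem_stb hx hxc, mem_centralizer_singleton_iff.mp hc, mul_inv_cancel_right]
  exact mem_zpowers x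

theorem kr_le_cent : kr M x ≤ centralizer ({x} : Set X) := by
  intro c hc
  have h1 := (h.mem_stb hx hxc).mp (kr_le_stb h x hc)
  obtain ⟨i, hi⟩ := mem_zpowers_iff.mp h1
  have h2 : (x ^ i)⁻¹ * x = x ^ (1 - i) := by rw [zpow_sub, zpow_one]; exact ((Commute.refl x).zpow_left i).inv_left.eq
  have h3 : x ^ (1 - i) • e = e := by
    rw [← h2, hi, mul_smul, inv_smul_eq_iff]
    have h4 : x • e ∈ im M x := smul_mem_im_of_comm rfl (h.e_mem hx)
    rw [mul_smul, mul_smul, inv_smul_eq_iff.mpr (hc e (h.e_mem hx)).symm, hc _ h4]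
  have h5 : (1 - i) % 5 = 0 := by
    by_contra hcon
    exact h.pow_e_ne hx hcon (h.e_mem hx) h.nz h3
  have h6 : x ^ (1 - i) = 1 := zpow_mod (h.pow_eq hx) h5
  have h7 : x ^ i = x := by
    have : x = x ^ i * x ^ (1 - i) := by rw [← zpow_add, add_sub_cancel, zpow_one]
    rw [h6, mul_one] at this
    exact this.symm
  rw [mem_centralizer_singleton_iff]
  calc c * x = (c * x * c⁻¹) * c := by group
    _ = x * c := by rw [← hi, h7]

omit hxc in
theorem im_a_disj {u : M} (hu : u ∈ im M a) {k : ℤ} (hk : k % 5 ≠ 0) (hku : x ^ k • u ∈ im M a) : u = 0 := by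
  have hfx : ∀ u ∈ im M a, a • u = u := by
    rintro _ ⟨n, rfl⟩
    change a • (a • n + n) = a • n + n
    rw [smul_add, ← mul_smul, h.sq, one_smul, add_comm]
  have h1 : a * x ^ k = x ^ (-k) * a := by
    have : a * x ^ k * a⁻¹ = x ^ (-k) := by rw [← conj_zpow, hx.inv, inv_zpow, zpow_neg]
    rw [← this, inv_mul_cancel_right]
  have h2 : x ^ (-k) • u = x ^ k • u := by
    have h3 := hfx _ hku
    rwa [← mul_smul, h1, mul_smul, hfx u hu] at h3
  by_contra hu0
  refine h.pow_e_ne hx (k := 2 * k) (by omega) (h.im_le hx hu) hu0 ?_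
  have h4 : x ^ k • x ^ (-k) • u = x ^ k • x ^ k • u := by rw [h2]
  rw [← mul_smul, ← mul_smul, ← zpow_add, ← zpow_add, add_neg_cancel, zpow_zero, one_smul] at h4
  rw [two_mul]; exact h4.symm

omit hxc in
/-- `im M x = ⋃ xⁱ (im M a)` -/
theorem exists_pow_smul {m : M} (hm : m ∈ im M x) (hm0 : m ≠ 0) :
    ∃ i : ℕ, ∃ u ∈ im M a, u ≠ 0 ∧ m = x ^ i • u := by
  have hpm : ∀ (i : ℕ), ∀ m ∈ im M x, x ^ i • m ∈ im M x := fun i m hm =>
    smul_mem_im_of_comm ((Commute.refl x).pow_left _).eq hm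
  let f : Option (Fin 5 × {u : im M a // u ≠ 0}) → im M x := fun o => match o with
    | none => 0
    | some (i, u) => ⟨x ^ (i : ℕ) • (u.1 : M), hpm i _ (h.im_le hx u.1.2)⟩
  have hf : Function.Injective f := by
    have h0 : ∀ (i : Fin 5) (u : {u : im M a // u ≠ 0}), (f (some (i, u)) : M) ≠ 0 := by
      intro i u e0
      have e1 : x ^ (i : ℕ) • (u.1 : M) = 0 := e0
      rw [smul_eq_zero_iff_eq] at e1
      exact u.2 (Subtype.ext e1)
    rintro (_ | ⟨i, u⟩) (_ | ⟨i', u'⟩) heq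
    · rfl
    · exact absurd (congrArg Subtype.val heq).symm (h0 i' u')
    · exact absurd (congrArg Subtype.val heq) (h0 i u)
    · have heq' : x ^ (i : ℕ) • (u.1 : M) = x ^ (i' : ℕ) • (u'.1 : M) := congrArg Subtype.val heq
      have h1 : x ^ (((i : ℕ) : ℤ) - ((i' : ℕ) : ℤ)) • (u.1 : M) = u'.1 := by
        rw [sub_eq_neg_add, zpow_add, zpow_neg, mul_smul, zpow_natCast, zpow_natCast, heq', inv_smul_smul]
      have hi : i = i' := by
        by_contra hcon
        have hi1 := i.2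
        have hi2 := i'.2
        have hi3 : (i : ℕ) ≠ i' := fun e => hcon (Fin.ext e)
        have h2 := h.im_a_disj hx u.1.2 (k := ((i : ℕ) : ℤ) - ((i' : ℕ) : ℤ)) (by omega) (by rw [h1]; exact u'.1.2)
        exact u.2 (Subtype.ext h2)
      subst hi
      rw [smul_left_cancel_iff] at heq'
      rw [show u = u' from Subtype.ext (Subtype.ext heq')]
  have hb := hf.bijective_of_nat_card_le (by
    have h3 : Nat.card {u : im M a // u ≠ 0} = 3 := by
      classical
      have h4 := Nat.card_congr (Equiv.optionSubtypeNe (0 : im M a))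
      rw [Finite.card_option, h.card] at h4
      omega
    rw [Finite.card_option, Nat.card_prod, h3, h.card_im hx]
    simp)
  obtain ⟨o, ho⟩ := hb.2 ⟨m, hm⟩
  match o, ho with
  | none, ho => exact absurd (congrArg Subtype.val ho).symm hm0
  | some (i, u), ho =>
    exact ⟨i, u.1, u.1.2, fun e => u.2 (Subtype.ext e), (congrArg Subtype.val ho).symm⟩

omit hxc in
theorem exists_mem_kr {c : X} (hc : c * x = x * c) : ∃ i : ℕ, (x ^ i)⁻¹ * c ∈ kr M x := by
  have h1 : c • e ∈ im M x := smul_mem_im_of_comm hc (h.e_mem hx)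
  have h2 : c • e ≠ 0 := by
    rw [Ne, smul_eq_zero_iff_eq]; exact h.nz
  obtain ⟨i, u, hu, hu0, hcu⟩ := h.exists_pow_smul hx h1 h2
  have h3 : ((x ^ i)⁻¹ * c) • e = u := by rw [mul_smul, hcu, inv_smul_smul]
  have h4 : ((x ^ i)⁻¹ * c) • e = e := h.nl _ (by rw [h3]; exact hu)
  refine ⟨i, fun m hm => h.fix_im hx ?_ (h.e_mem hx) h.nz h4 hm⟩
  exact (((Commute.refl x).pow_left i).inv_left.mul_left (show Commute c x from hc)).eq

theorem relIndex_kr_cent : (kr M x).relIndex (centralizer ({x} : Set X)) = 5 := by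
  set S := centralizer ({x} : Set X) with hS
  have hxS : ∀ i : ℕ, x ^ i ∈ S := fun i => pow_mem (mem_centralizer_singleton_iff.mpr rfl) i
  change Nat.card (S ⧸ (kr M x).subgroupOf S) = 5
  have hb : Function.Bijective (fun i : Fin 5 => (QuotientGroup.mk ⟨x ^ (i : ℕ), hxS i⟩ : S ⧸ (kr M x).subgroupOf S)) := by
    constructor
    · intro i j hij
      have h1 : ((⟨x ^ (i : ℕ), hxS i⟩ : S))⁻¹ * ⟨x ^ (j : ℕ), hxS j⟩ ∈ (kr M x).subgroupOf S :=
        QuotientGroup.eq.mp hij
      have h2 : (x ^ (i : ℕ))⁻¹ * x ^ (j : ℕ) ∈ kr M x := mem_subgroupOf.mp h1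
      have h3 := h2 e (h.e_mem hx)
      have h4 : (x ^ (i : ℕ))⁻¹ * x ^ (j : ℕ) = x ^ (-((i : ℕ) : ℤ) + ((j : ℕ) : ℤ)) := by
        rw [zpow_add, zpow_neg, zpow_natCast, zpow_natCast]
      rw [h4] at h3
      by_contra hcon
      have hi1 := i.2
      have hi2 := j.2
      have hi3 : (i : ℕ) ≠ j := fun e => hcon (Fin.ext e)
      exact h.pow_e_ne hx (k := -((i : ℕ) : ℤ) + ((j : ℕ) : ℤ)) (by omega) (h.e_mem hx) h.nz h3
    · intro q
      obtain ⟨⟨c, hc⟩, rfl⟩ := QuotientGroup.mk_surjective q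
      obtain ⟨i, hi⟩ := h.exists_mem_kr hx (mem_centralizer_singleton_iff.mp hc)
      refine ⟨⟨i % 5, Nat.mod_lt _ (by norm_num)⟩, ?_⟩
      refine QuotientGroup.eq.mpr (mem_subgroupOf.mpr ?_)
      change (x ^ (i % 5))⁻¹ * c ∈ kr M x
      have h5 : x ^ (i % 5) = x ^ i := by
        conv_rhs => rw [← Nat.mod_add_div i 5, pow_add, pow_mul, h.pow_eq hx, one_pow, mul_one]
      rw [h5]; exact hi
  rw [← Nat.card_congr (Equiv.ofBijective _ hb)]
  simp

theorem relIndex_cent : (centralizer ({x} : Set X)).relIndex (stb M x) = 2 ∨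
    (centralizer ({x} : Set X)).relIndex (stb M x) = 4 := by
  have hx5 := h.pow_eq hx
  have hzc : centralizer ({x} : Set X) = centralizer (zpowers x : Set X) := by
    rw [← centralizer_closure, zpowers_eq_closure]
  have hst : stb M x = normalizer (zpowers x : Set X) := by
    ext c
    rw [h.mem_stb hx hxc]
    constructor
    · intro hc
      have h1 : (zpowers x).map (MulAut.conj c).toMonoidHom ≤ zpowers x := by
        rw [MonoidHom.map_zpowers, zpowers_le]; exact hc
      have h2 : (zpowers x).map (MulAut.conj c).toMonoidHom = zpowers x :=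
        Subgroup.eq_of_le_of_card_ge h1 (by rw [card_map_of_injective (MulAut.conj c).injective])
      rw [mem_normalizer_iff]
      intro g
      constructor
      · intro hg
        rw [← h2]; exact ⟨g, hg, rfl⟩
      · intro hg
        rw [← h2] at hg
        obtain ⟨g', hg', he⟩ := hg
        have he' : c * g' * c⁻¹ = c * g * c⁻¹ := he
        rw [mul_left_inj, mul_right_inj] at he'
        rwa [← he']
    · intro hc
      exact (mem_normalizer_iff.mp hc x).mp (mem_zpowers x)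
  have h1 : (centralizer ({x} : Set X)).relIndex (stb M x) ∣ 4 := by
    rw [hzc, hst]
    change ((centralizer (zpowers x : Set X)).subgroupOf (normalizer (zpowers x : Set X))).index ∣ 4
    rw [← normalizerMonoidHom_ker, index_ker]
    have h2 := card_subgroup_dvd_card ((zpowers x).normalizerMonoidHom.range)
    have h3 : Nat.card (MulAut (zpowers x)) = 4 := by
      have hcyc : IsCyclic (zpowers x) := inferInstance
      rw [IsCyclic.card_mulAut, Nat.card_zpowers, orderOf_eq_prime hx5 hx.ne, Nat.totient_prime Nat.prime_five]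
    rwa [h3] at h2
  have h2 : (centralizer ({x} : Set X)).relIndex (stb M x) ≠ 1 := by
    rw [Ne, relIndex_eq_one]
    intro hle
    have ha : a ∈ stb M x := by
      rw [h.mem_stb hx hxc, hx.inv]; exact inv_mem (mem_zpowers x)
    have h3 := mem_centralizer_singleton_iff.mp (hle ha)
    have h4 : x = x⁻¹ := by
      rw [← hx.inv, h3, mul_inv_cancel_right]
    apply hx.ne
    have h5 : x * x = 1 := by
      nth_rewrite 1 [h4]; exact inv_mul_cancel x
    calc x = x * (x * x) * (x * x) := by rw [h5]; simp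
      _ = x ^ 5 := by simp only [pow_succ, pow_zero, one_mul, mul_assoc]
      _ = 1 := hx5
  have h3 : (centralizer ({x} : Set X)).relIndex (stb M x) ∈ Nat.divisors 4 := Nat.mem_divisors.mpr ⟨h1, by norm_num⟩
  have h4 : Nat.divisors 4 = {1, 2, 4} := by decide
  rw [h4] at h3
  simp only [Finset.mem_insert, Finset.mem_singleton] at h3
  rcases h3 with h3 | h3 | h3
  · exact absurd h3 h2
  · exact Or.inl h3
  · exact Or.inr h3

theorem relIndex_kr : (kr M x).relIndex (stb M x) = 10 ∨ (kr M x).relIndex (stb M x) = 20 := by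
  have h1 := relIndex_mul_relIndex (kr M x) (centralizer ({x} : Set X)) (stb M x) (h.kr_le_cent hx hxc)
    (h.cent_le_stb hx hxc)
  rw [h.relIndex_kr_cent hx hxc] at h1
  rcases h.relIndex_cent hx hxc with h2 | h2
  · left; rw [← h1, h2]
  · right; rw [← h1, h2]

end central

end Rk

end Cfsg.Agent.Classification.TitsFin.TriBlk
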