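import Mathlib
import Cfsg.Agent.MinSimple.OddRep
import Cfsg.Agent.Classification.TitsFin.TriBlk
import Cfsg.Agent.Classification.TitsFin.Tri

/-!
# From the module `ws V z / ⟨z⟩` to the configuration `Tri`

`In T V z q R a`: `a` is the involution induced by `ws V q` on `M = ws V z / ⟨z⟩`, `|[M, a]| = 4`, the vector of `q` is the
only line vector in `[M, a]` and `a` centralizes `O₃(X)`. Then there are `U`, `C` with `Tri V U C` (`exists_tri`).
-/

set_option autoImplicit false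
set_option linter.unusedSectionVars false

namespace Cfsg.Agent.Classification.TitsFin.TriGlue

open Subgroup Cfsg Cfsg.Agent.ZN Cfsg.Agent.MinSimple.Geo
open Cfsg.Agent.MinSimple.BTwoA (comm_V)
open Cfsg.Agent.MinSimple.BTwoB (kq_le centralizer_le_normalizer_kq)
open Cfsg.Agent.MinSimple.OddLine (Odd)
open Cfsg.Agent.MinSimple.OddBase (Col)
open Cfsg.Agent.MinSimple.SecRep Cfsg.Agent.MinSimple.OddRep
open Cfsg.Agent.ZN.Block (conj_mem_of_normalizer conj_mem_of_normalizer' le_normalizer_of_forall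
  mem_normalizer_of card_sup_mul_card_inf card_mul_relIndex' mul_mem_of_relIndex_two)
open Cfsg.Agent.Classification.TitsFin.Tri (Pt kst cj_kst)
open Cfsg.Agent.Classification.TitsFin.TriBlk

universe u

variable {G : Type u} [Group G]

/-! ### the family of conjugates of a subgroup -/

section fam

variable {T V : Subgroup G} {z : G}

open Classical in
/-- the conjugates of `H` under `N(V)`, indexed by the points of `V` -/
noncomputable def fam (V : Subgroup G) (z : G) (H : Subgroup G) (p : G) : Subgroup G :=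
  if h : ∃ k ∈ normalizer (V : Set G), k * z * k⁻¹ = p then cj h.choose H else ⊥

theorem fam_eq {H : Subgroup G} (hH : ∀ c ∈ normalizer (V : Set G), c * z = z * c → cj c H = H) {k : G}
    (hk : k ∈ normalizer (V : Set G)) : fam V z H (k * z * k⁻¹) = cj k H := by
  have hex : ∃ k' ∈ normalizer (V : Set G), k' * z * k'⁻¹ = k * z * k⁻¹ := ⟨k, hk, rfl⟩
  unfold fam
  rw [dif_pos hex]
  obtain ⟨h1, h2⟩ := hex.choose_spec
  set k' := hex.choose with hk'
  have h3 : (k⁻¹ * k') * z = z * (k⁻¹ * k') := by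
    calc k⁻¹ * k' * z = k⁻¹ * (k' * z * k'⁻¹) * k' := by group
      _ = k⁻¹ * (k * z * k⁻¹) * k' := by rw [h2]
      _ = z * (k⁻¹ * k') := by group
  have h4 := hH _ (mul_mem (inv_mem hk) h1) h3
  rw [← cj_cj] at h4
  have h5 := congrArg (cj k) h4
  rwa [cj_cj_inv] at h5

theorem exists_k (h : Geo T V z) {p : G} (hp : Pt V p) : ∃ k ∈ normalizer (V : Set G), p = k * z * k⁻¹ := by
  obtain ⟨k, hk, rfl⟩ := h.trans p hp.1 hp.2
  exact ⟨k, hk, rfl⟩

theorem cj_fam (h : Geo T V z) {H : Subgroup G}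
    (hH : ∀ c ∈ normalizer (V : Set G), c * z = z * c → cj c H = H) {n p : G}
    (hn : n ∈ normalizer (V : Set G)) (hp : Pt V p) : cj n (fam V z H p) = fam V z H (n * p * n⁻¹) := by
  obtain ⟨k, hk, rfl⟩ := exists_k h hp
  have e : n * (k * z * k⁻¹) * n⁻¹ = (n * k) * z * (n * k)⁻¹ := by group
  rw [e, fam_eq hH hk, fam_eq hH (mul_mem hn hk), cj_cj]

theorem cj_zpowers (g x : G) : cj g (zpowers x) = zpowers (g * x * g⁻¹) := MonoidHom.map_zpowers _ _

theorem cj_centralizer (g : G) (H : Subgroup G) :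
    cj g (centralizer (H : Set G)) = centralizer ((cj g H : Subgroup G) : Set G) := by
  ext y
  rw [mem_cj, mem_centralizer_iff, mem_centralizer_iff]
  constructor
  · rintro h1 _ ⟨x, hx, rfl⟩
    have h2 := h1 x hx
    change g * x * g⁻¹ * y = y * (g * x * g⁻¹)
    calc g * x * g⁻¹ * y = g * (x * (g⁻¹ * y * g)) * g⁻¹ := by group
      _ = g * (g⁻¹ * y * g * x) * g⁻¹ := by rw [h2]
      _ = y * (g * x * g⁻¹) := by group
  · intro h1 x hx
    have h2 := h1 (g * x * g⁻¹) (conj_mem_cj hx)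
    calc x * (g⁻¹ * y * g) = g⁻¹ * (g * x * g⁻¹ * y) * g := by group
      _ = g⁻¹ * (y * (g * x * g⁻¹)) * g := by rw [h2]
      _ = g⁻¹ * y * g * x := by group

/-- `N(V)` is doubly transitive on the points of `V`. -/
theorem sym_of [Finite G] (h : Odd T V z) (p q p' q' : G) (hp : Pt V p) (hq : Pt V q) (hpq : p ≠ q) (hp' : Pt V p')
    (hq' : Pt V q') (hpq' : p' ≠ q') : ∃ n ∈ normalizer (V : Set G), n * p * n⁻¹ = p' ∧ n * q * n⁻¹ = q' := by
  obtain ⟨k, hk, rfl⟩ := exists_k h.toGeo hp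
  obtain ⟨k', hk', rfl⟩ := exists_k h.toGeo hp'
  set g := k' * k⁻¹ with hg
  have hgn : g ∈ normalizer (V : Set G) := mul_mem hk' (inv_mem hk)
  have h1 : g * (k * z * k⁻¹) * g⁻¹ = k' * z * k'⁻¹ := by rw [hg]; group
  have h2 : g * q * g⁻¹ ∈ V := (mem_normalizer_iff.mp hgn q).mp hq.1
  have h3 : g * q * g⁻¹ ≠ 1 := fun e => hq.2 (by
    have : q = g⁻¹ * (g * q * g⁻¹) * g := by group
    rw [this, e]; group)
  have h4 : g * q * g⁻¹ ≠ k' * z * k'⁻¹ := fun e => hpq (by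
    rw [← h1] at e
    exact (MinSimple.OddBase.conj_inj e).symm)
  rcases h.four hp'.1 hq'.1 hp'.2 hq'.2 hpq' h2 with e | e | e | e
  · exact absurd e h3
  · exact absurd e h4
  · exact ⟨g, hgn, h1, e⟩
  · obtain ⟨y, hy, hym⟩ := h.exists_swap' hp'.1 hp'.2
    obtain ⟨T', h'⟩ := h.point hp'.1 hp'.2
    have hyn : y ∈ normalizer (V : Set G) := MinSimple.OddLine.kq_le_normalizer h'.toGeo hy
    have h5 := hym _ h2 h3 h4
    refine ⟨y * g, mul_mem hyn hgn, ?_, ?_⟩
    · have e1 : y * g * (k * z * k⁻¹) * (y * g)⁻¹ = y * (g * (k * z * k⁻¹) * g⁻¹) * y⁻¹ := by group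
      rw [e1, h1, h.kq_conj hy]
    · have e1 : y * g * q * (y * g)⁻¹ = y * (g * q * g⁻¹) * y⁻¹ := by group
      rw [e1, h5, e, ← mul_assoc, h.sq _ hp'.1, one_mul]

end fam

/-! ### the hypotheses -/

variable [Finite G] {T V : Subgroup G} {z q : G} {M X : Type u} [AddCommGroup M] [Group X] [DistribMulAction X M]

/-- Output of the rank 2 case with `|ws V q : ws V q ∩ kq V z| = 2`. -/
structure In (T V : Subgroup G) (z q : G) (R : Rep V z M X) (a : X) : Prop where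
  odd : Odd T V z
  q_mem : q ∈ V
  q_ne : q ≠ 1
  q_ne' : q ≠ z
  ind : ∀ w ∈ ws V q, R.rho w = 1 ∨ R.rho w = a
  exi : ∃ w ∈ ws V q, R.rho w = a
  card : Nat.card (im M a) = 4
  mem : R.pi q ∈ im M a
  nl : ∀ c : X, c • R.pi q ∈ im M a → c • R.pi q = R.pi q
  r3 : ∀ g ∈ pCore 3 X, a * g = g * a

namespace In

variable {R : Rep V z M X} {a : X} (h : In T V z q R a)
include h

theorem pt_z : MinSimple.OddBase.Pt z z := MinSimple.OddBase.Pt.refl z

theorem col : Col V z q :=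
  MinSimple.OddBase.col_of_mem h.odd.toGeo h.odd.z_mem h.q_mem h.odd.z_ne h.q_ne (Ne.symm h.q_ne')

theorem two (m : M) : m + m = 0 := Rep.two h.odd h.pt_z R m

theorem ws_le_cent {p : G} (hp : p ∈ V) (hp1 : p ≠ 1) : ws V p ≤ centralizer ({z} : Set G) := by
  obtain ⟨T', h'⟩ := h.odd.point hp hp1
  intro w hw
  rw [mem_centralizer_singleton_iff]
  exact h'.ab w hw z (h'.V_le_ws h.odd.z_mem)

theorem a_ne : a ≠ 1 := by
  rintro rfl
  have h1 := h.card
  have h2 : im M (1 : X) = ⊥ := by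
    rw [eq_bot_iff]
    rintro _ ⟨m, rfl⟩
    rw [AddSubgroup.mem_bot, dl_apply, one_smul, h.two]
  rw [h2, AddSubgroup.card_bot] at h1
  exact absurd h1 (by norm_num)

theorem sq : a * a = 1 := by
  obtain ⟨w, hw, hwa⟩ := h.exi
  obtain ⟨T', h'⟩ := h.odd.point h.q_mem h.q_ne
  have h1 := R.rho_mul w (h.ws_le_cent h.q_mem h.q_ne hw) w (h.ws_le_cent h.q_mem h.q_ne hw)
  rw [h'.ws_sq hw, R.rho_one, hwa] at h1
  exact h1.symm

theorem comm_of_fix {c : G} (hc : c ∈ centralizer ({z} : Set G)) (hcq : c * q * c⁻¹ = q) : R.rho c * a = a * R.rho c := by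
  obtain ⟨w, hw, hwa⟩ := h.exi
  have hwz := h.ws_le_cent h.q_mem h.q_ne hw
  have h1 : c * w * c⁻¹ ∈ ws V q := by
    have h2 : c * w * c⁻¹ ∈ cj c (ws V q) := conj_mem_cj hw
    rwa [cj_ws, hcq] at h2
  have h3 : R.rho (c * w * c⁻¹) = R.rho c * a * (R.rho c)⁻¹ := by rw [R.rho_conj hc hwz, hwa]
  rcases h.ind _ h1 with e | e
  · exfalso
    rw [h3] at e
    apply h.a_ne
    have : a = (R.rho c)⁻¹ * (R.rho c * a * (R.rho c)⁻¹) * R.rho c := by group
    rw [this, e]; group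
  · rw [h3] at e
    calc R.rho c * a = (R.rho c * a * (R.rho c)⁻¹) * R.rho c := by group
      _ = a * R.rho c := by rw [e]

theorem q_ws : q ∈ ws V z := h.odd.V_le_ws h.q_mem

theorem rho_kq {k : G} (hk : k ∈ kq V z) : R.rho k = 1 := (Rep.rho_eq_one R (kq_le V z hk)).mpr hk

theorem stab {c : X} (hc : c • R.pi q = R.pi q) : c * a = a * c := by
  obtain ⟨c, hcz, rfl⟩ := R.rho_surj c
  rw [R.smul_pi c hcz q h.q_ws, Rep.pi_eq_pi h.odd h.pt_z R (R.conj_mem hcz h.q_ws) h.q_ws] at hc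
  rcases hc with e | e
  · exact h.comm_of_fix hcz e
  · obtain ⟨y, hy, hym⟩ := h.odd.exists_swap' h.odd.z_mem h.odd.z_ne
    have hyz := kq_le V z hy
    have h1 := hym q h.q_mem h.q_ne h.q_ne'
    have h2 : (y⁻¹ * c) * q * (y⁻¹ * c)⁻¹ = q := by
      calc (y⁻¹ * c) * q * (y⁻¹ * c)⁻¹ = y⁻¹ * (c * q * c⁻¹) * y := by group
        _ = y⁻¹ * (y * q * y⁻¹) * y := by rw [e, h1]
        _ = q := by group
    have h3 := h.comm_of_fix (mul_mem (inv_mem hyz) hcz) h2
    rwa [R.rho_mul _ (inv_mem hyz) _ hcz, R.rho_inv hyz, h.rho_kq hy, inv_one, one_mul] at h3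

theorem finX : Finite X := R.finite_right

theorem finM : Finite M := R.finite_left

theorem rk : Rk a (R.pi q) where
  two := h.two
  faith := R.faithful
  solv := Rep.isSolvable h.odd h.pt_z R
  o2 := Rep.o2_eq_bot h.odd h.pt_z R (Cfsg.Agent.Lib.Cores.pCore_normal 2)
    (Cfsg.Agent.Lib.Cores.pCore_isPGroup 2)
  sq := h.sq
  card := h.card
  mem := h.mem
  nz := Rep.pi_line_ne_zero h.odd h.pt_z R h.col
  stab := fun _ hc => h.stab hc
  nl := h.nl
  gen := Rep.eq_top_of_line h.odd h.pt_z R h.col _ fun g => AddSubgroup.subset_closure ⟨g, rfl⟩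
  r3 := h.r3

/-- all points `q' ≠ z` of `V` induce `a` -/
theorem ind' {q' : G} (hq' : q' ∈ V) (hq1 : q' ≠ 1) (hqz : q' ≠ z) {w : G} (hw : w ∈ ws V q') :
    R.rho w = 1 ∨ R.rho w = a := by
  rcases h.odd.four h.odd.z_mem h.q_mem h.odd.z_ne h.q_ne (Ne.symm h.q_ne') hq' with e | e | e | e
  · exact absurd e hq1
  · exact absurd e hqz
  · rw [e] at hw; exact h.ind w hw
  · obtain ⟨y, hy, hym⟩ := h.odd.exists_swap' h.odd.z_mem h.odd.z_ne
    have hyz := kq_le V z hy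
    have h1 : cj y (ws V q) = ws V q' := by
      rw [cj_ws, hym q h.q_mem h.q_ne h.q_ne', e]
    rw [← h1] at hw
    obtain ⟨w', hw', rfl⟩ := hw
    have h2 : R.rho (y * w' * y⁻¹) = R.rho w' := by
      rw [R.rho_conj hyz (h.ws_le_cent h.q_mem h.q_ne hw'), h.rho_kq hy, one_mul, inv_one, mul_one]
    change R.rho (y * w' * y⁻¹) = 1 ∨ R.rho (y * w' * y⁻¹) = a
    rw [h2]
    exact h.ind w' hw'

end In

/-! ### preimages -/

/-- the preimage of a subgroup of `M` in `ws V z` -/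
def pb (R : Rep V z M X) (N : AddSubgroup M) : Subgroup G where
  carrier := {w | w ∈ ws V z ∧ R.pi w ∈ N}
  mul_mem' := by
    rintro a b ⟨ha, ha1⟩ ⟨hb, hb1⟩
    refine ⟨mul_mem ha hb, ?_⟩
    rw [R.pi_mul a ha b hb]; exact add_mem ha1 hb1
  one_mem' := ⟨one_mem _, by rw [R.pi_one]; exact zero_mem _⟩
  inv_mem' := by
    rintro a ⟨ha, ha1⟩
    refine ⟨inv_mem ha, ?_⟩
    rw [R.pi_inv ha]; exact neg_mem ha1

theorem mem_pb {R : Rep V z M X} {N : AddSubgroup M} {w : G} : w ∈ pb R N ↔ w ∈ ws V z ∧ R.pi w ∈ N := Iff.rfl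

theorem card_pb (h : Odd T V z) (R : Rep V z M X) (N : AddSubgroup M) : Nat.card (pb R N) = 2 * Nat.card N := by
  have hz : z ∈ ws V z := h.V_le_ws h.z_mem
  have hpz : R.pi z = 0 := (R.pi_eq_zero z hz).mpr (mem_zpowers z)
  let φ : ws V z →* Multiplicative M :=
    { toFun := fun w => Multiplicative.ofAdd (R.pi w)
      map_one' := by
        change Multiplicative.ofAdd (R.pi 1) = 1
        rw [R.pi_one]; rfl
      map_mul' := fun a b => by
        change Multiplicative.ofAdd (R.pi ((a : G) * b)) = _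
        rw [R.pi_mul a a.2 b b.2]; rfl }
  have hker : Nat.card φ.ker = 2 := by
    have h1 : φ.ker = (zpowers z).subgroupOf (ws V z) := by
      ext w
      rw [MonoidHom.mem_ker, mem_subgroupOf, ← R.pi_eq_zero w w.2]
      exact Iff.rfl
    have h2 : zpowers z ≤ ws V z := by rw [zpowers_le]; exact hz
    rw [h1, Nat.card_congr (subgroupOfEquivOfLe h2).toEquiv, Nat.card_zpowers]
    exact orderOf_eq_prime (by rw [pow_two]; exact h.zz) h.z_ne
  let N' : Subgroup (Multiplicative M) := AddSubgroup.toSubgroup N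
  have hN' : Nat.card N' = Nat.card N := rfl
  have hmap : (pb R N) = (N'.comap φ).map (ws V z).subtype := by
    ext w
    constructor
    · rintro ⟨hw, hw1⟩
      exact ⟨⟨w, hw⟩, hw1, rfl⟩
    · rintro ⟨w', hw', rfl⟩
      exact ⟨w'.2, hw'⟩
  have hsurj : Function.Surjective φ := by
    intro m
    obtain ⟨w, hw, hwm⟩ := R.pi_surj m.toAdd
    exact ⟨⟨w, hw⟩, congrArg Multiplicative.ofAdd hwm⟩
  rw [hmap, card_map_of_injective (ws V z).subtype_injective]
  have h1 : φ.ker ≤ N'.comap φ := by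
    intro w hw
    rw [mem_comap, MonoidHom.mem_ker.mp hw]; exact one_mem _
  have h2 := relIndex_mul_relIndex (⊥ : Subgroup (ws V z)) φ.ker (N'.comap φ) bot_le h1
  rw [relIndex_bot_left, relIndex_bot_left, hker, relIndex_ker, map_comap_eq_self_of_surjective hsurj, hN'] at h2
  exact h2.symm

namespace In

variable {R : Rep V z M X} {a : X} (h : In T V z q R a) [Finite M] [Finite X] {x : X} (hx : IsX a x)
  (hxc : ∀ g ∈ pCore 5 X, g * x = x * g)
include h hx

theorem card_bl : Nat.card (pb R (im M x)) = 32 := by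
  rw [card_pb h.odd, h.rk.card_im hx]

theorem V_le_bl : V ≤ pb R (im M x) := by
  intro v hv
  refine ⟨h.odd.V_le_ws hv, ?_⟩
  have hq := h.rk.e_mem hx
  have hz : z ∈ ws V z := h.odd.V_le_ws h.odd.z_mem
  have hpz : R.pi z = 0 := Rep.pi_self h.odd h.pt_z R
  rcases h.odd.four h.odd.z_mem h.q_mem h.odd.z_ne h.q_ne (Ne.symm h.q_ne') hv with e | e | e | e
  · rw [e, R.pi_one]; exact zero_mem _
  · rw [e, hpz]; exact zero_mem _
  · rw [e]; exact hq
  · rw [e, Rep.pi_self_mul h.odd h.pt_z R h.q_ws]; exact hq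

omit hx in
/-- elements of `C(z)` in the preimage of `stb` normalize the block -/
theorem pre_stb_le (x : X) : R.pre (stb M x) ≤ normalizer (pb R (im M x) : Set G) := by
  refine le_normalizer_of_forall fun c hc w hw => ?_
  rw [R.mem_pre] at hc
  refine ⟨R.conj_mem hc.1 hw.1, ?_⟩
  rw [← R.smul_pi c hc.1 w hw.1]
  exact (hc.2 _).mpr hw.2

omit hx in
theorem mem_pre_stb (x : X) {c : G} (hc : c ∈ centralizer ({z} : Set G))
    (hcn : c ∈ normalizer (pb R (im M x) : Set G)) : c ∈ R.pre (stb M x) := by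
  rw [R.mem_pre]
  refine ⟨hc, fun m => ?_⟩
  obtain ⟨w, hw, rfl⟩ := R.pi_surj m
  rw [R.smul_pi c hc w hw]
  have h1 := mem_normalizer_iff.mp hcn w
  constructor
  · intro h2
    exact (h1.mpr ⟨R.conj_mem hc hw, h2⟩).2
  · intro h2
    exact (h1.mp ⟨hw, h2⟩).2

omit hx in
theorem pre_stb_eq (x : X) :
    R.pre (stb M x) = centralizer ({z} : Set G) ⊓ normalizer (pb R (im M x) : Set G) :=
  le_antisymm (le_inf (R.pre_le _) (h.pre_stb_le x)) fun _ hc => h.mem_pre_stb x hc.1 hc.2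

omit hx in
theorem kq_le_pre (N : Subgroup X) : kq V z ≤ R.pre N := fun k hk => by
  rw [R.mem_pre, h.rho_kq hk]
  exact ⟨kq_le V z hk, one_mem _⟩

omit hx in
theorem kst_eq (x : X) : kst (R.pre (stb M x)) (pb R (im M x)) z = R.pre (kr M x) := by
  have key : ∀ c : G, c ∈ centralizer ({z} : Set G) → ((∀ w ∈ pb R (im M x), c * w * c⁻¹ * w⁻¹ ∈ zpowers z) ↔
      R.rho c ∈ kr M x) := by
    intro c hc
    constructor
    · intro h1 m hm
      obtain ⟨w, hw, rfl⟩ := R.pi_surj m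
      rw [R.smul_pi c hc w hw, R.pi_eq_iff (R.conj_mem hc hw) hw]
      exact h1 w ⟨hw, hm⟩
    · intro h1 w hw
      rw [← R.pi_eq_iff (R.conj_mem hc hw.1) hw.1, ← R.smul_pi c hc w hw.1]
      exact h1 _ hw.2
  ext c
  constructor
  · rintro ⟨h0, h1, h2, -⟩
    exact R.mem_pre.mpr ⟨R.pre_le _ h0, (key c (R.pre_le _ h0)).mp h2⟩
  · intro hc
    rw [R.mem_pre] at hc
    refine ⟨R.mem_pre.mpr ⟨hc.1, h.rk.kr_le_stb x hc.2⟩, mem_centralizer_singleton_iff.mp hc.1,
      (key c hc.1).mpr hc.2, ?_⟩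
    have h1 := (key c⁻¹ (inv_mem hc.1)).mpr (by rw [R.rho_inv hc.1]; exact inv_mem hc.2)
    intro w hw
    have := h1 w hw
    rwa [inv_inv] at this

theorem relIndex_pre {H K : Subgroup X} (R : Rep V z M X) : (R.pre H).relIndex (R.pre K) = H.relIndex K := by
  unfold Sec.pre
  rw [relIndex_map_map_of_injective _ _ (subtype_injective _), relIndex_comap,
    map_comap_eq_self_of_surjective R.hom_surj]

include hxc

theorem idx : (kst (R.pre (stb M x)) (pb R (im M x)) z).relIndex (R.pre (stb M x)) = 10 ∨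
    (kst (R.pre (stb M x)) (pb R (im M x)) z).relIndex (R.pre (stb M x)) = 20 := by
  rw [h.kst_eq, h.relIndex_pre hx R]
  exact h.rk.relIndex_kr hx hxc

theorem le_pre : normalizer (V : Set G) ⊓ centralizer ({z} : Set G) ≤ R.pre (stb M x) := by
  rintro c ⟨hc1, hc2⟩
  rw [R.mem_pre]
  refine ⟨hc2, h.rk.mem_stb_of_fix hx hxc ?_⟩
  rw [R.smul_pi c hc2 q h.q_ws]
  rcases h.odd.conj_cases h.odd.z_mem h.q_mem h.odd.z_ne (h.odd.z_comm hc2) hc1 with e | e
  · rw [e]
  · rw [e, Rep.pi_self_mul h.odd h.pt_z R h.q_ws]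

theorem norm_bl (c : G) (hc1 : c ∈ normalizer (V : Set G)) (hc2 : c * z = z * c) :
    cj c (pb R (im M x)) = pb R (im M x) :=
  cj_eq_of_mem_normalizer (h.pre_stb_le x (h.le_pre hx hxc ⟨hc1, mem_centralizer_singleton_iff.mpr hc2⟩))

theorem norm_pre (c : G) (hc1 : c ∈ normalizer (V : Set G)) (hc2 : c * z = z * c) :
    cj c (R.pre (stb M x)) = R.pre (stb M x) :=
  cj_eq_of_mem_normalizer (le_normalizer (h.le_pre hx hxc ⟨hc1, mem_centralizer_singleton_iff.mpr hc2⟩))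

omit hxc in
theorem char2_pre : R.pre (stb M x) ⊓ centralizer (o2 (R.pre (stb M x)) : Set G) ≤ o2 (R.pre (stb M x)) := by
  set C := centralizer ({z} : Set G) with hC
  set C0 := R.pre (stb M x) with hC0
  have hC0C : C0 ≤ C := R.pre_le _
  have h1 : o2 C ≤ kq V z :=
    MinSimple.BTwoB.le_kq h.odd.toGeo (o2_le C) (le_normalizer_o2 C) fun c hc => by
      obtain ⟨k, hk⟩ := isPGroup_o2 C ⟨c, hc⟩
      have hk' : c ^ 2 ^ k = 1 := by simpa using congrArg Subtype.val hk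
      exact ⟨k, by rw [hk']; exact one_mem _⟩
  have h2 : o2 C ≤ o2 C0 :=
    le_o2 (h1.trans (h.kq_le_pre _)) (isPGroup_o2 C) (hC0C.trans (le_normalizer_o2 C))
  rintro c ⟨hc1, hc2⟩
  exact h2 (inf_centralizer_o2_le h.odd.charTwo (isTwoLocal_centralizer h.odd.zz h.odd.z_ne)
    ⟨hC0C hc1, centralizer_le h2 hc2⟩)

/-- (o4) in the group -/
theorem exists_u {w : G} (hw : w ∈ ws V z) : ∃ u ∈ pb R (im M x), ∀ q' ∈ V, q' ≠ 1 → q' ≠ z → ∀ v ∈ ws V q',
    v * (w * u) * v⁻¹ * (w * u)⁻¹ ∈ zpowers z := by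
  obtain ⟨m, hm, hma⟩ := h.rk.exists_fix hx hxc (R.pi w)
  obtain ⟨u, hu, rfl⟩ := R.pi_surj m
  refine ⟨u, ⟨hu, hm⟩, fun q' hq' hq1 hqz v hv => ?_⟩
  have hvz := h.ws_le_cent hq' hq1 hv
  have hwu : w * u ∈ ws V z := mul_mem hw hu
  rw [← R.pi_eq_iff (R.conj_mem hvz hwu) hwu, ← R.smul_pi v hvz _ hwu]
  rcases h.ind' hq' hq1 hqz hv with e | e
  · rw [e, one_smul]
  · rw [e, R.pi_mul w hw u hu]; exact hma

/-- some element of the block at `z` does not commute with some element of the block at `q` -/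
theorem nc : ∃ b ∈ pb R (im M x), ∃ c ∈ fam V z (pb R (im M x)) q, b * c ≠ c * b := by
  by_contra hcon
  push Not at hcon
  set U0 := pb R (im M x) with hU0
  obtain ⟨n, hn, hnz, hnq⟩ : ∃ n ∈ normalizer (V : Set G), n * z * n⁻¹ = q ∧ n * q * n⁻¹ = z :=
    sym_of h.odd z q q z ⟨h.odd.z_mem, h.odd.z_ne⟩ ⟨h.q_mem, h.q_ne⟩ (Ne.symm h.q_ne') ⟨h.q_mem, h.q_ne⟩
      ⟨h.odd.z_mem, h.odd.z_ne⟩ h.q_ne'
  have hfam : fam V z U0 q = cj n U0 := by
    rw [← hnz]; exact fam_eq (h.norm_bl hx hxc) hn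
  obtain ⟨w, hw, hwa⟩ := h.exi
  have hwz := h.ws_le_cent h.q_mem h.q_ne hw
  have hwq : n⁻¹ * w * n ∈ ws V z := by
    rw [← mem_cj, cj_ws, hnz]; exact hw
  obtain ⟨u, hu, hu1⟩ := h.exists_u hx hxc hwq
  -- conjugate back
  have hu2 : n * u * n⁻¹ ∈ fam V z U0 q := by rw [hfam]; exact conj_mem_cj hu
  have h1 : ∀ v ∈ U0, v * w * v⁻¹ * w⁻¹ ∈ zpowers q := by
    intro v hv
    have hv' : n⁻¹ * v * n ∈ ws V q := by
      rw [← mem_cj, cj_ws, hnq]; exact hv.1
    have h2 := hu1 q h.q_mem h.q_ne h.q_ne' _ hv'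
    have h3 : n * ((n⁻¹ * v * n) * (n⁻¹ * w * n * u) * (n⁻¹ * v * n)⁻¹ * (n⁻¹ * w * n * u)⁻¹) * n⁻¹ ∈
        cj n (zpowers z) := conj_mem_cj h2
    rw [cj_zpowers, hnz] at h3
    have h4 : v * (n * u * n⁻¹) = (n * u * n⁻¹) * v := hcon v hv _ hu2
    have h5 : n * ((n⁻¹ * v * n) * (n⁻¹ * w * n * u) * (n⁻¹ * v * n)⁻¹ * (n⁻¹ * w * n * u)⁻¹) * n⁻¹ =
        v * w * v⁻¹ * w⁻¹ := by
      have e1 : n * ((n⁻¹ * v * n) * (n⁻¹ * w * n * u) * (n⁻¹ * v * n)⁻¹ * (n⁻¹ * w * n * u)⁻¹) * n⁻¹ =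
          v * w * ((n * u * n⁻¹) * v⁻¹ * (n * u * n⁻¹)⁻¹) * w⁻¹ := by group
      have e2 : (n * u * n⁻¹) * v⁻¹ * (n * u * n⁻¹)⁻¹ = v⁻¹ := by
        have e3 : Commute v (n * u * n⁻¹) := h4
        rw [← e3.inv_left.eq, mul_inv_cancel_right]
      rw [e1, e2]
    rwa [h5] at h3
  -- `a` moves `im M x` at most by `pi q`
  have h2 : (im M x).map (dl M a) ≤ AddSubgroup.zmultiples (R.pi q) := by
    rintro _ ⟨m, hm, rfl⟩
    obtain ⟨v, hv, rfl⟩ := R.pi_surj m
    have h3 := h1 v ⟨hv, hm⟩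
    have h4 : R.pi (v * w * v⁻¹ * w⁻¹) = R.pi v + a • R.pi v := by
      have e1 : v * w * v⁻¹ * w⁻¹ = v * (w * v⁻¹ * w⁻¹) := by group
      rw [e1, R.pi_mul v hv _ (R.conj_mem hwz (inv_mem hv)), ← R.smul_pi w hwz _ (inv_mem hv), hwa, R.pi_inv hv,
        neg_eq h.two]
    have h5 : a • R.pi v + R.pi v = R.pi (v * w * v⁻¹ * w⁻¹) := by rw [h4, add_comm]
    rw [dl_apply, h5]
    rcases (mem_zpowers_iff_of_mul_self (h.odd.sq q h.q_mem)).mp h3 with e | e
    · rw [e, R.pi_one]; exact zero_mem _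
    · rw [e]; exact AddSubgroup.mem_zmultiples _
  have h3 := key h.two (n := 5) (by norm_num) (h.rk.pow_eq hx) h.sq hx.inv
  rw [h.rk.card_im hx] at h3
  have h4 : Nat.card ((im M x).map (dl M a)) ≤ 2 := by
    refine (AddSubgroup.card_le_of_le h2).trans ?_
    rw [Nat.card_zmultiples]
    refine Nat.le_of_dvd (by norm_num) (addOrderOf_dvd_of_nsmul_eq_zero ?_)
    rw [two_nsmul, h.two]
  generalize Nat.card ((im M x).map (dl M a)) = c at h3 h4
  interval_cases c <;> norm_num at h3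

omit h hx hxc in
theorem cj_neg {c : G} {x : X} (hc : c ∈ centralizer ({z} : Set G)) {w : G} (hw : w ∈ cj c (pb R (im M x))) :
    w ∈ ws V z ∧ ∃ m ∈ im M x, R.pi w = R.rho c • m := by
  obtain ⟨v, hv, rfl⟩ := hw
  refine ⟨R.conj_mem hc hv.1, R.pi v, hv.2, ?_⟩
  exact (R.smul_pi c hc v hv.1).symm

/-- different conjugates of the block meet in `⟨z⟩` -/
theorem disj {c : G} (hc : c ∈ centralizer ({z} : Set G)) :
    c ∈ R.pre (stb M x) ∨ cj c (pb R (im M x)) ⊓ pb R (im M x) = zpowers z := by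
  by_cases hcs : R.rho c ∈ stb M x
  · exact Or.inl (R.mem_pre.mpr ⟨hc, hcs⟩)
  right
  apply le_antisymm
  · rintro w ⟨hw1, hw2⟩
    obtain ⟨hw3, m, hm, hwm⟩ := cj_neg hc hw1
    have h1 : m = 0 := h.rk.disj' hx hxc hcs hm (by rw [← hwm]; exact hw2.2)
    rw [← R.pi_eq_zero w hw3, hwm, h1, smul_zero]
  · rw [zpowers_le]
    have hz : z ∈ pb R (im M x) := h.V_le_bl hx h.odd.z_mem
    refine mem_inf.mpr ⟨?_, hz⟩
    rw [mem_cj]
    have : c⁻¹ * z * c = z := by
      rw [mul_assoc, ← h.odd.z_comm hc, inv_mul_cancel_left]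
    rw [this]; exact hz

theorem eq_of_card (hK : Nat.card (centralizer (pb R (im M x) : Set G)) ≤ 64) :
    R.pre (stb M x) = centralizer ({z} : Set G) := by
  refine le_antisymm (R.pre_le _) fun c hc => ?_
  rcases h.disj hx hxc hc with h1 | h1
  · exact h1
  exfalso
  set U0 := pb R (im M x) with hU0
  set U1 := cj c U0 with hU1
  have hle0 : U0 ≤ ws V z := fun w hw => hw.1
  have hle1 : U1 ≤ ws V z := fun w hw => (cj_neg hc hw).1
  have hcard0 : Nat.card U0 = 32 := h.card_bl hx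
  have hcard1 : Nat.card U1 = 32 := by rw [hU1, card_cj]; exact hcard0
  have hn : U1 ≤ normalizer (U0 : Set G) := by
    refine le_normalizer_of_forall fun u hu w hw => ?_
    rw [h.odd.ab u (hle1 hu) w (hle0 hw), mul_inv_cancel_right]; exact hw
  have h2 := card_sup_mul_card_inf hn
  rw [h1, hcard0, hcard1, Nat.card_zpowers, orderOf_eq_prime (by rw [pow_two]; exact h.odd.zz) h.odd.z_ne] at h2
  have h3 : U1 ⊔ U0 ≤ centralizer (U0 : Set G) := by
    refine (sup_le hle1 hle0).trans fun w hw => ?_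
    rw [mem_centralizer_iff]
    intro v hv
    exact h.odd.ab v (hle0 hv) w hw
  have h4 := (Subgroup.card_le_of_le h3).trans hK
  omega

end In

/-- **The configuration `Tri`.** -/
theorem exists_tri {R : Rep V z M X} {a : X} (h : In T V z q R a) : ∃ U C : G → Subgroup G, Tri V U C ∧
    (∀ p, Pt V p → U p ≤ ws V p) ∧
    (∀ p, Pt V p → C p = centralizer ({p} : Set G) ⊓ normalizer (U p : Set G)) ∧
    (∀ p, Pt V p → ∀ c ∈ centralizer ({p} : Set G), c ∈ C p ∨ cj c (U p) ⊓ U p = zpowers p) ∧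
    (∀ p, Pt V p → Nat.card (centralizer (U p : Set G)) ≤ 64 → C p = centralizer ({p} : Set G)) := by
  have : Finite M := h.finM
  have : Finite X := h.finX
  obtain ⟨x, hx, hxc⟩ := h.rk.exists_central
  set U0 := pb R (im M x) with hU0
  set C0 := R.pre (stb M x) with hC0
  have hU := h.norm_bl hx hxc
  have hC := h.norm_pre hx hxc
  have fU : ∀ k ∈ normalizer (V : Set G), fam V z U0 (k * z * k⁻¹) = cj k U0 := fun k hk => fam_eq hU hk
  have fC : ∀ k ∈ normalizer (V : Set G), fam V z C0 (k * z * k⁻¹) = cj k C0 := fun k hk => fam_eq hC hk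
  have hk := fun (p : G) (hp : Pt V p) => exists_k h.odd.toGeo hp
  refine ⟨fam V z U0, fam V z C0, ?_, ?_, ?_, ?_, ?_⟩
  · refine
      { cardV := h.odd.card_V
        sqV := h.odd.sq
        cardU := ?_
        sqU := ?_
        V_le := ?_
        C_le := ?_
        C_norm := ?_
        le_C := ?_
        sym := sym_of h.odd
        conjU := fun n hn p hp => cj_fam h.odd.toGeo hU hn hp
        conjC := fun n hn p hp => cj_fam h.odd.toGeo hC hn hp
        idx := ?_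
        nc := ?_
        solv := ?_
        char2 := ?_ }
    · intro p hp
      obtain ⟨k, hk, rfl⟩ := hk p hp
      rw [fU k hk, card_cj]; exact h.card_bl hx
    · intro p hp u hu
      obtain ⟨k, hk, rfl⟩ := hk p hp
      rw [fU k hk] at hu
      obtain ⟨w, hw, rfl⟩ := hu
      change k * w * k⁻¹ * (k * w * k⁻¹) = 1
      calc k * w * k⁻¹ * (k * w * k⁻¹) = k * (w * w) * k⁻¹ := by group
        _ = 1 := by rw [h.odd.ws_sq hw.1]; group
    · intro p hp
      obtain ⟨k, hk, rfl⟩ := hk p hp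
      rw [fU k hk]
      have h1 := cj_mono (g := k) (h.V_le_bl hx)
      rwa [cj_eq_of_mem_normalizer hk] at h1
    · intro p hp
      obtain ⟨k, hk, rfl⟩ := hk p hp
      rw [fC k hk, ← cj_centralizer_singleton]
      exact cj_mono (R.pre_le _)
    · intro p hp
      obtain ⟨k, hk, rfl⟩ := hk p hp
      rw [fC k hk, fU k hk, ← cj_normalizer]
      exact cj_mono (h.pre_stb_le x)
    · intro p hp
      obtain ⟨k, hk, rfl⟩ := hk p hp
      rw [fC k hk, ← cj_centralizer_singleton]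
      have h1 : normalizer (V : Set G) = cj k (normalizer (V : Set G)) := by
        rw [cj_normalizer, cj_eq_of_mem_normalizer hk]
      rw [h1, ← cj_inf]
      exact cj_mono (h.le_pre hx hxc)
    · intro p hp
      obtain ⟨k, hk, rfl⟩ := hk p hp
      rw [fC k hk, fU k hk, ← cj_kst, relIndex_cj]
      exact h.idx hx hxc
    · intro p p' hp hp' hpp
      obtain ⟨n, hn, hn1, hn2⟩ := sym_of h.odd z q p p' ⟨h.odd.z_mem, h.odd.z_ne⟩ ⟨h.q_mem, h.q_ne⟩ (Ne.symm h.q_ne')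
        hp hp' hpp
      obtain ⟨b, hb, c, hc, hbc⟩ := h.nc hx hxc
      refine ⟨n * b * n⁻¹, ?_, n * c * n⁻¹, ?_, fun e => hbc ?_⟩
      · rw [← hn1, fU n hn]; exact conj_mem_cj hb
      · rw [← hn2, ← cj_fam h.odd.toGeo hU hn ⟨h.q_mem, h.q_ne⟩]; exact conj_mem_cj hc
      · calc b * c = n⁻¹ * (n * b * n⁻¹ * (n * c * n⁻¹)) * n := by group
          _ = n⁻¹ * (n * c * n⁻¹ * (n * b * n⁻¹)) * n := by rw [e]
          _ = c * b := by group
    · intro S hS hS1
      exact h.odd.solv _ ⟨S, hS, hS1, rfl⟩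
    · intro p hp
      obtain ⟨k, hk, rfl⟩ := hk p hp
      rw [fC k hk, ← cj_o2, ← cj_centralizer, ← cj_inf]
      exact cj_mono (h.char2_pre hx)
  · intro p hp
    obtain ⟨k, hk, rfl⟩ := hk p hp
    rw [fU k hk, ← cj_ws]
    exact cj_mono fun w hw => hw.1
  · intro p hp
    obtain ⟨k, hk, rfl⟩ := hk p hp
    rw [fU k hk, fC k hk, ← cj_centralizer_singleton, ← cj_normalizer, ← cj_inf, hC0, h.pre_stb_eq]
  · intro p hp c hc
    obtain ⟨k, hk, rfl⟩ := hk p hp
    rw [fU k hk, fC k hk]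
    rw [← cj_centralizer_singleton, mem_cj] at hc
    rcases h.disj hx hxc hc with h1 | h1
    · left; rw [mem_cj]; exact h1
    · right
      have h2 := congrArg (cj k) h1
      rw [cj_inf, cj_cj, cj_zpowers] at h2
      rw [cj_cj]
      have e : k * (k⁻¹ * c * k) = c * k := by group
      rwa [e] at h2
  · intro p hp hK
    obtain ⟨k, hk, rfl⟩ := hk p hp
    rw [fU k hk, ← cj_centralizer, card_cj] at hK
    rw [fC k hk, ← cj_centralizer_singleton, ← h.eq_of_card hx hxc hK]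

end Cfsg.Agent.Classification.TitsFin.TriGlue
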