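import Mathlib
import Cfsg.Agent.Classification.TitsFin.TriGlue
import Cfsg.Agent.Classification.TitsFin.TriFin
import Cfsg.Agent.Classification.TitsFin.TriB4
import Cfsg.Agent.Classification.TitsFin.Final

/-!
# (E1)(b), case `p = 5`: the end

`finHyp_of_in`: the output `In T V z q R a` of (E1)(b) in a group without subgroups of index 2 gives `FinHyp z q`.
`false_of_in`: it does not occur in a minimal simple group.
-/

set_option autoImplicit false

namespace Cfsg.Agent.Classification.TitsFin.TriEnd

open Subgroup Cfsg Cfsg.Agent.MinSimple.Geo Cfsg.Agent.MinSimple.OddRep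

open Cfsg.Agent.Classification.TitsFin.TriGlue

universe u

variable {G : Type u} [Group G] [Finite G] {T V : Subgroup G} {z q : G} {M X : Type u} [AddCommGroup M] [Group X]
  [DistribMulAction X M]

theorem finHyp_of_in {R : Rep V z M X} {a : X} (h : In T V z q R a) (hG : ∀ N : Subgroup G, N.index ≠ 2) :
    FinHyp z q := by
  obtain ⟨U, C, ht, -, -, -, hC⟩ := exists_tri h
  have hz : Tri.Pt V z := ⟨h.odd.z_mem, h.odd.z_ne⟩
  have hq : Tri.Pt V q := ⟨h.q_mem, h.q_ne⟩
  have hzq : z ≠ q := Ne.symm h.q_ne'
  rcases TriTen.card_K ht hz with hK | hK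
  · exact TriFin.finHyp ht hz hq hzq (hC z hz (by change Nat.card ↥(Tri.K U z) ≤ 64; omega)) hK
  · exact (TriB.caseB_false ht hz hq hzq hK (hC z hz (by change Nat.card ↥(Tri.K U z) ≤ 64; omega)) hG).elim

omit [Finite G] in
theorem index_ne_two [IsSimpleGroup G] {V : Subgroup G} (hV : Nat.card V = 4) (N : Subgroup G) : N.index ≠ 2 := by
  intro hN
  have hn : N.Normal := normal_of_index_eq_two hN
  rcases hn.eq_bot_or_eq_top with e | e
  · rw [e, index_bot] at hN
    have h1 : Nat.card V ∣ Nat.card G := V.card_subgroup_dvd_card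
    rw [hV, hN] at h1
    exact absurd h1 (by norm_num)
  · rw [e, index_top] at hN
    exact absurd hN (by norm_num)

theorem false_of_in {R : Rep V z M X} {a : X} (h : In T V z q R a) (hm : IsMinimalSimple G) : False := by
  have := hm.1
  exact Final.not_minimalSimple (finHyp_of_in h (index_ne_two h.odd.card_V)) h.odd.charTwo hm

end Cfsg.Agent.Classification.TitsFin.TriEnd
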