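import Mathlib
import Cfsg.Agent.MinSimple.OddRankTwo
import Cfsg.Agent.MinSimple.OddK
import Cfsg.Agent.Classification.TitsFin.TriEnd

/-!
# (E1)(b), `n = 1`, `k = 1`, no transvections: the Tits case

`finHyp_of_one`: `One T V z`, no element of `ws V y ∖ kq V x` (`x`, `y` collinear) induces a transvection on
`ws V x / ⟨x⟩`, and the vector of `y` is in `[M, g]` for each `g ∈ O₃(X)` of order 3 inverted by the involution of `y` with
`|[M, g]| = 4`; then `FinHyp z q` (`G` without subgroups of index 2), and `G` is not minimal simple.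
-/

set_option autoImplicit false

namespace Cfsg.Agent.Classification.TitsFin.TriIn

open Subgroup Cfsg Cfsg.Agent.MinSimple.Geo Cfsg.Agent.MinSimple.OddRep
open Cfsg.Agent.MinSimple.OddOne (One)
open Cfsg.Agent.MinSimple.OddBase (Col)
open Cfsg.Agent.MinSimple.OddRTMod (cm)
open Cfsg.Agent.Classification.TitsFin.TriGlue Cfsg.Agent.Classification.TitsFin.TriBlk

universe u

variable {G : Type u} [Group G] [Finite G] {T V : Subgroup G} {z q : G} {M X : Type u} [AddCommGroup M] [Group X]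
  [DistribMulAction X M]

theorem cm_eq_im {M X : Type*} [AddCommGroup M] [Group X] [DistribMulAction X M] (g : X) : cm M g = im M g := by
  ext m; exact Iff.rfl

/-- no transvections -/
abbrev NoTv (R : Rep V z M X) : Prop := ∀ y b, Col V z y → b ∈ ws V y → b ∉ kq V z →
  ¬ ∃ n : M, ∀ m : M, R.rho b • m = m ∨ R.rho b • m = m + n

/-- (D1') at `z` -/
abbrev InD (R : Rep V z M X) : Prop := ∀ y b g, Col V z y → b ∈ ws V y → b ∉ kq V z → g ∈ pCore 3 X → g ^ 3 = 1 →
  g ≠ 1 → R.rho b * g * R.rho b = g⁻¹ → Nat.card (cm M g) = 4 → R.pi y ∈ cm M g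

theorem in_of_one (h : One T V z) (R : Rep V z M X) (htv : NoTv R) (hD : InD R) (hq : q ∈ V) (hq1 : q ≠ 1)
    (hqz : q ≠ z) : ∃ a : X, In T V z q R a := by
  have hcol : Col V z q := MinSimple.OddBase.col_of_mem h.toGeo h.z_mem hq h.z_ne hq1 (Ne.symm hqz)
  have hzz := MinSimple.OddBase.Pt.refl z
  obtain ⟨b, hb, hbn⟩ := h.exists_not_mem hcol
  have hrt := MinSimple.OddRankTwo.rt h hzz R htv hD
  have hE : R.pi q ∈ MinSimple.OddRankTwo.EE R := ⟨q, hcol, rfl⟩
  have haa := MinSimple.OddRankTwo.aa_eq h R hcol hb hbn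
  refine ⟨R.rho b,
    { odd := h.toOdd
      q_mem := hq
      q_ne := hq1
      q_ne' := hqz
      ind := ?_
      exi := ⟨b, hb, rfl⟩
      card := ?_
      mem := ?_
      nl := ?_
      r3 := ?_ }⟩
  · intro w hw
    by_cases hwn : w ∈ kq V z
    · left
      exact (Rep.rho_eq_one R (MinSimple.BTwoB.kq_le V z hwn)).mpr hwn
    · right
      exact h.rho_eq R hcol hw hb hwn hbn
  · rw [← cm_eq_im, ← haa]; exact hrt.card _ hE
  · rw [← cm_eq_im, ← haa]; exact hrt.mem _ hE
  · intro c hc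
    rw [← cm_eq_im, ← haa] at hc
    exact hrt.only _ hE _ (hrt.inv c _ hE) hc
  · intro g hg
    have h3 := MinSimple.OddRankTwo.pCore_eq_bot h hzz R htv hD Nat.prime_three (by norm_num)
    rw [h3, mem_bot] at hg
    rw [hg, mul_one, one_mul]

/-- **(R2)** -/
theorem finHyp_of_one (h : One T V z) (R : Rep V z M X) (htv : NoTv R) (hD : InD R)
    (hG : ∀ N : Subgroup G, N.index ≠ 2) : ∃ q, FinHyp z q := by
  obtain ⟨q, hq, hq1, hqz⟩ := h.exists_y
  obtain ⟨a, ha⟩ := in_of_one h R htv hD hq hq1 hqz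
  exact ⟨q, TriEnd.finHyp_of_in ha hG⟩

theorem false_of_one (h : One T V z) (R : Rep V z M X) (htv : NoTv R) (hD : InD R) (hm : IsMinimalSimple G) :
    False := by
  obtain ⟨q, hq, hq1, hqz⟩ := h.exists_y
  obtain ⟨a, ha⟩ := in_of_one h R htv hD hq hq1 hqz
  exact TriEnd.false_of_in ha hm

/-! ### (D1') always holds -/

/-- an involution on a group of order four -/
theorem exists_n0 [Finite M] (two : ∀ m : M, m + m = 0) {b g : X} (hb : b * b = 1) (hbg : b * g * b⁻¹ = g⁻¹)
    (hcard : Nat.card (im M g) = 4) :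
    ∃ n₀ : M, ∀ m : M, b • (g • m + m) + (g • m + m) = 0 ∨ b • (g • m + m) + (g • m + m) = n₀ := by
  have hinv : ∀ m ∈ im M g, b • m ∈ im M g := fun m hm => smul_im two hbg hm
  have h1 := card_eq two b (im M g)
  rw [hcard] at h1
  have h2 : im M g ⊓ fx M b ≠ ⊥ := by
    intro e
    have h3 : ∀ m ∈ im M g, b • m = m := by
      intro m hm
      have h4 : b • m + m ∈ im M g ⊓ fx M b := by
        refine ⟨add_mem (hinv m hm) hm, ?_⟩
        change b • (b • m + m) = b • m + m
        rw [smul_add, ← mul_smul, hb, one_smul, add_comm]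
      rw [e, AddSubgroup.mem_bot] at h4
      exact (add_eq_zero two).mp h4
    have h5 : im M g ≤ im M g ⊓ fx M b := fun m hm => ⟨hm, h3 m hm⟩
    rw [e, le_bot_iff] at h5
    rw [h5, AddSubgroup.card_bot] at hcard
    exact absurd hcard (by norm_num)
  have h3 : Nat.card ↥(im M g ⊓ fx M b) ≠ 1 := fun e => h2 (AddSubgroup.card_eq_one.mp e)
  have h3' : 0 < Nat.card ↥(im M g ⊓ fx M b) := Nat.card_pos
  have h4 : Nat.card ↥((im M g).map (dl M b)) ≤ 2 := by
    by_contra hcon
    have h5 : 2 * 3 ≤ Nat.card ↥(im M g ⊓ fx M b) * Nat.card ↥((im M g).map (dl M b)) :=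
      Nat.mul_le_mul (by omega) (by omega)
    omega
  have hmem : ∀ m : M, b • (g • m + m) + (g • m + m) ∈ (im M g).map (dl M b) := fun m =>
    ⟨g • m + m, im_mem g m, rfl⟩
  by_cases h0 : ∃ n₀ ∈ (im M g).map (dl M b), n₀ ≠ 0
  · obtain ⟨n₀, hn₀, hn0⟩ := h0
    refine ⟨n₀, fun m => ?_⟩
    by_contra hcon
    push Not at hcon
    set N := (im M g).map (dl M b) with hN
    have h5 : ({0, n₀, b • (g • m + m) + (g • m + m)} : Set M) ⊆ (N : Set M) := by
      rintro x (rfl | rfl | rfl)
      · exact zero_mem _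
      · exact hn₀
      · exact hmem m
    have h6 := Set.ncard_le_ncard h5 (Set.toFinite _)
    have h7 : ({0, n₀, b • (g • m + m) + (g • m + m)} : Set M).ncard = 3 := by
      rw [Set.ncard_insert_of_notMem, Set.ncard_pair]
      · exact fun e => hcon.2 e.symm
      · rintro (e | e)
        · exact hn0 e.symm
        · exact hcon.1 e.symm
    have h8 : (N : Set M).ncard = Nat.card N := rfl
    omega
  · push Not at h0
    exact ⟨0, fun m => Or.inl (h0 _ (hmem m))⟩

theorem inD (h : One T V z) (R : Rep V z M X) : InD R := by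
  intro y b g hc hb _ _ hg3 hg1 hinv hcard
  have hfin : Finite M := R.finite_left
  have hbb := h.rho_sq R hc hb
  have hbi : (R.rho b)⁻¹ = R.rho b := inv_eq_of_mul_eq_one_left hbb
  have hinv' : R.rho b * g * (R.rho b)⁻¹ = g⁻¹ := by rw [hbi]; exact hinv
  have hodd : Odd (orderOf g) := by
    rw [orderOf_eq_prime hg3 hg1]; exact ⟨1, by norm_num⟩
  have two := Rep.two h.toOdd (MinSimple.OddBase.Pt.refl z) R
  rw [cm_eq_im] at hcard
  obtain ⟨m, hm⟩ := MinSimple.OddK.pi_mem_of_inverts h.toOdd hc R hb hodd hg1 hinv' (exists_n0 two hbb hinv' hcard)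
  exact ⟨m, hm.symm⟩

/-- **(R2)**, final form: `n = 1`, no transvections at `z`. -/
theorem finHyp (h : One T V z) (R : Rep V z M X) (htv : NoTv R) (hG : ∀ N : Subgroup G, N.index ≠ 2) :
    ∃ q, FinHyp z q := finHyp_of_one h R htv (inD h R) hG

theorem false_of_noTv (h : One T V z) (R : Rep V z M X) (htv : NoTv R) (hm : IsMinimalSimple G) : False :=
  false_of_one h R htv (inD h R) hm

end Cfsg.Agent.Classification.TitsFin.TriIn
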