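import Mathlib

/-!
# Four involutions with the Coxeter relations of `S₅`

* `eq_one_of_isSolvable`: in a solvable group such involutions satisfy `a₁ a₂ = 1`;
* `not_isSolvable`: the subgroup generated by them is not solvable if `a₁ a₂ ≠ 1`;
* `card_le`: the subgroup generated by them has order at most `120`.
-/

set_option autoImplicit false

namespace Cfsg.Agent.Classification.TitsFin.CoxFive

open Subgroup
open scoped commutatorElement

/-- Four elements with the Coxeter relations of the symmetric group of degree five. -/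
structure Cox {G : Type*} [Group G] (a : Fin 4 → G) : Prop where
  sq : ∀ i, a i * a i = 1
  b01 : a 0 * a 1 * a 0 = a 1 * a 0 * a 1
  b12 : a 1 * a 2 * a 1 = a 2 * a 1 * a 2
  b23 : a 2 * a 3 * a 2 = a 3 * a 2 * a 3
  c02 : a 0 * a 2 = a 2 * a 0
  c03 : a 0 * a 3 = a 3 * a 0
  c13 : a 1 * a 3 = a 3 * a 1

variable {G : Type*} [Group G] {a : Fin 4 → G}

theorem Cox.inv (h : Cox a) (i : Fin 4) : (a i)⁻¹ = a i := inv_eq_of_mul_eq_one_left (h.sq i)

theorem Cox.mul_cancel (h : Cox a) (i : Fin 4) (x : G) : a i * (a i * x) = x := by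
  rw [← mul_assoc, h.sq, one_mul]

/-- `a₁ a₂` is a commutator of two elements of `⟨a_i a_j⟩`. -/
theorem Cox.commutator_eq (h : Cox a) : ⁅a 1 * a 3, a 0 * a 3⁆ = a 0 * a 1 := by
  have h1 : (a 1 * a 3)⁻¹ = a 1 * a 3 := by rw [mul_inv_rev, h.inv, h.inv, h.c13]
  have h2 : (a 0 * a 3)⁻¹ = a 0 * a 3 := by rw [mul_inv_rev, h.inv, h.inv, h.c03]
  rw [commutatorElement_def, h1, h2]
  have h3 : a 1 * a 3 * (a 0 * a 3) = a 1 * a 0 := by
    rw [← mul_assoc, mul_assoc (a 1) (a 3) (a 0), ← h.c03, ← mul_assoc, mul_assoc _ (a 3) (a 3),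
      h.sq, mul_one]
  rw [h3, mul_assoc, h3]
  calc a 1 * a 0 * (a 1 * a 0) = (a 1 * a 0 * a 1) * a 0 := by group
    _ = a 0 * a 1 * a 0 * a 0 := by rw [← h.b01]
    _ = a 0 * a 1 := by rw [mul_assoc _ (a 0) (a 0), h.sq, mul_one]

/-- Conjugation by `σ = a₀ a₁ a₂ a₃` shifts the generators. -/
theorem Cox.shift_zero (h : Cox a) :
    (a 0 * a 1 * a 2 * a 3) * a 0 * (a 0 * a 1 * a 2 * a 3)⁻¹ = a 1 := by
  rw [mul_inv_eq_iff_eq_mul]
  calc a 0 * a 1 * a 2 * a 3 * a 0 = a 0 * a 1 * a 2 * (a 3 * a 0) := by group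
    _ = a 0 * a 1 * (a 2 * a 0) * a 3 := by rw [← h.c03]; group
    _ = (a 0 * a 1 * a 0) * a 2 * a 3 := by rw [← h.c02]; group
    _ = a 1 * (a 0 * a 1 * a 2 * a 3) := by rw [h.b01]; group

theorem Cox.shift_one (h : Cox a) :
    (a 0 * a 1 * a 2 * a 3) * a 1 * (a 0 * a 1 * a 2 * a 3)⁻¹ = a 2 := by
  rw [mul_inv_eq_iff_eq_mul]
  calc a 0 * a 1 * a 2 * a 3 * a 1 = a 0 * a 1 * a 2 * (a 3 * a 1) := by group
    _ = a 0 * (a 1 * a 2 * a 1) * a 3 := by rw [← h.c13]; group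
    _ = (a 0 * a 2) * a 1 * a 2 * a 3 := by rw [h.b12]; group
    _ = a 2 * (a 0 * a 1 * a 2 * a 3) := by rw [h.c02]; group

theorem Cox.shift_two (h : Cox a) :
    (a 0 * a 1 * a 2 * a 3) * a 2 * (a 0 * a 1 * a 2 * a 3)⁻¹ = a 3 := by
  rw [mul_inv_eq_iff_eq_mul]
  calc a 0 * a 1 * a 2 * a 3 * a 2 = a 0 * a 1 * (a 2 * a 3 * a 2) := by group
    _ = a 0 * (a 1 * a 3) * a 2 * a 3 := by rw [h.b23]; group
    _ = (a 0 * a 3) * a 1 * a 2 * a 3 := by rw [h.c13]; group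
    _ = a 3 * (a 0 * a 1 * a 2 * a 3) := by rw [h.c03]; group

theorem Cox.mem_derivedSeries (h : Cox a) (n : ℕ) :
    a 0 * a 1 ∈ derivedSeries G n ∧ a 1 * a 2 ∈ derivedSeries G n ∧
      a 2 * a 3 ∈ derivedSeries G n := by
  induction n with
  | zero => exact ⟨mem_top _, mem_top _, mem_top _⟩
  | succ n ih =>
    obtain ⟨h0, h1, h2⟩ := ih
    have h13 : a 1 * a 3 ∈ derivedSeries G n := by
      have : a 1 * a 3 = (a 1 * a 2) * (a 2 * a 3) := by
        rw [mul_assoc, h.mul_cancel]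
      rw [this]; exact mul_mem h1 h2
    have h03 : a 0 * a 3 ∈ derivedSeries G n := by
      have : a 0 * a 3 = (a 0 * a 1) * (a 1 * a 3) := by
        rw [mul_assoc, h.mul_cancel]
      rw [this]; exact mul_mem h0 h13
    have k0 : a 0 * a 1 ∈ derivedSeries G (n + 1) := by
      rw [derivedSeries_succ, ← h.commutator_eq]
      exact commutator_mem_commutator h13 h03
    have hn : (derivedSeries G (n + 1)).Normal := inferInstance
    have k1 : a 1 * a 2 ∈ derivedSeries G (n + 1) := by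
      have := hn.conj_mem _ k0 (a 0 * a 1 * a 2 * a 3)
      rwa [show (a 0 * a 1 * a 2 * a 3) * (a 0 * a 1) * (a 0 * a 1 * a 2 * a 3)⁻¹ =
        ((a 0 * a 1 * a 2 * a 3) * a 0 * (a 0 * a 1 * a 2 * a 3)⁻¹) *
        ((a 0 * a 1 * a 2 * a 3) * a 1 * (a 0 * a 1 * a 2 * a 3)⁻¹) by group,
        h.shift_zero, h.shift_one] at this
    have k2 : a 2 * a 3 ∈ derivedSeries G (n + 1) := by
      have := hn.conj_mem _ k1 (a 0 * a 1 * a 2 * a 3)
      rwa [show (a 0 * a 1 * a 2 * a 3) * (a 1 * a 2) * (a 0 * a 1 * a 2 * a 3)⁻¹ =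
        ((a 0 * a 1 * a 2 * a 3) * a 1 * (a 0 * a 1 * a 2 * a 3)⁻¹) *
        ((a 0 * a 1 * a 2 * a 3) * a 2 * (a 0 * a 1 * a 2 * a 3)⁻¹) by group,
        h.shift_one, h.shift_two] at this
    exact ⟨k0, k1, k2⟩

/-- In a solvable group `a₀ a₁ = 1`. -/
theorem Cox.eq_one_of_isSolvable (h : Cox a) (hs : Group.IsSolvable G) : a 0 * a 1 = 1 := by
  obtain ⟨n, hn⟩ := (Group.isSolvable_def G).mp hs
  have := (h.mem_derivedSeries n).1
  rwa [hn, mem_bot] at this

/-- The subgroup generated by the four involutions is not solvable. -/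
theorem Cox.not_isSolvable (h : Cox a) (h01 : a 0 * a 1 ≠ 1) (X : Subgroup G)
    (hX : ∀ i, a i ∈ X) : ¬ Group.IsSolvable X := by
  intro hs
  have h' : Cox (fun i => (⟨a i, hX i⟩ : X)) :=
    { sq := fun i => Subtype.ext (h.sq i)
      b01 := Subtype.ext h.b01
      b12 := Subtype.ext h.b12
      b23 := Subtype.ext h.b23
      c02 := Subtype.ext h.c02
      c03 := Subtype.ext h.c03
      c13 := Subtype.ext h.c13 }
  have h1 := h'.eq_one_of_isSolvable hs
  exact h01 (congrArg Subtype.val h1)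

/-! ### The order -/

/-- A subgroup `X` covered by at most `n` right cosets of a finite subgroup `H`. -/
theorem card_le_mul (H X : Subgroup G) (hH : Finite H) (n : ℕ) (r : Fin n → G)
    (hcov : ∀ x ∈ X, ∃ i, ∃ y ∈ H, x = y * r i) : Finite X ∧ Nat.card X ≤ n * Nat.card H := by
  have hcov' : ∀ x : X, ∃ i, ∃ y ∈ H, (x : G) = y * r i := fun x => hcov x x.2
  choose i y hy hx using hcov'
  have hinj : Function.Injective (fun x : X => (i x, (⟨y x, hy x⟩ : H))) := by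
    intro x x' hxx
    have h1 : i x = i x' := congrArg Prod.fst hxx
    have h2 : y x = y x' := congrArg (fun p => (p.2 : G)) hxx
    apply Subtype.ext
    rw [hx x, hx x', h1, h2]
  have hfin : Finite (Fin n × H) := inferInstance
  refine ⟨Finite.of_injective _ hinj, ?_⟩
  calc Nat.card X ≤ Nat.card (Fin n × H) := Nat.card_le_card_of_injective _ hinj
    _ = n * Nat.card H := by rw [Nat.card_prod, Nat.card_fin]

/-- A union of right cosets of `H` containing `1` and closed under right multiplication by the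
generators contains the generated subgroup. -/
theorem cover_of_closed {n : ℕ} (H : Subgroup G) (r : Fin n → G) (T : Set G)
    (hT : ∀ s ∈ T, s * s = 1) (h1 : ∃ i, ∃ y ∈ H, (1 : G) = y * r i)
    (hmul : ∀ i, ∀ s ∈ T, ∃ j, ∃ y ∈ H, r i * s = y * r j) :
    ∀ x ∈ closure T, ∃ i, ∃ y ∈ H, x = y * r i := by
  intro x hx
  induction hx using closure_induction_right with
  | one => exact h1
  | mul_right x _ s hs ih =>
    obtain ⟨i, y, hy, rfl⟩ := ih
    obtain ⟨j, z, hz, hj⟩ := hmul i s hs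
    exact ⟨j, y * z, mul_mem hy hz, by rw [mul_assoc, hj, mul_assoc]⟩
  | mul_inv_cancel x _ s hs ih =>
    obtain ⟨i, y, hy, rfl⟩ := ih
    have hinv : s⁻¹ = s := inv_eq_of_mul_eq_one_left (hT s hs)
    obtain ⟨j, z, hz, hj⟩ := hmul i s hs
    exact ⟨j, y * z, mul_mem hy hz, by rw [hinv, mul_assoc, hj, mul_assoc]⟩

theorem Cox.c20 (h : Cox a) : a 2 * a 0 = a 0 * a 2 := h.c02.symm
theorem Cox.c30 (h : Cox a) : a 3 * a 0 = a 0 * a 3 := h.c03.symm
theorem Cox.c31 (h : Cox a) : a 3 * a 1 = a 1 * a 3 := h.c13.symm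

/-- The four steps of the coset enumeration. -/
theorem Cox.card_one (h : Cox a) : Finite (closure {a 0}) ∧ Nat.card (closure {a 0}) ≤ 2 := by
  have hmul : ∀ i : Fin 2, ∀ s ∈ ({a 0} : Set G), ∃ j, ∃ y ∈ (⊥ : Subgroup G),
      (![1, a 0] : Fin 2 → G) i * s = y * (![1, a 0] : Fin 2 → G) j := by
    intro i s hs
    rw [Set.mem_singleton_iff] at hs
    subst hs
    fin_cases i
    · exact ⟨1, 1, one_mem _, by simp⟩
    · exact ⟨0, 1, one_mem _, by simp [h.sq]⟩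
  have h1 := card_le_mul ⊥ (closure {a 0}) inferInstance 2 ![1, a 0]
    (cover_of_closed ⊥ _ _ (by simpa using h.sq 0) ⟨0, 1, one_mem _, by simp⟩ hmul)
  simpa using h1

theorem Cox.card_two (h : Cox a) :
    Finite (closure {a 0, a 1}) ∧ Nat.card (closure {a 0, a 1}) ≤ 6 := by
  have m0 : a 0 ∈ closure {a 0} := subset_closure (by simp)
  have hmul : ∀ i : Fin 3, ∀ s ∈ ({a 0, a 1} : Set G), ∃ j, ∃ y ∈ closure {a 0},
      (![1, a 1, a 1 * a 0] : Fin 3 → G) i * s = y * (![1, a 1, a 1 * a 0] : Fin 3 → G) j := by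
    intro i s hs
    rcases hs with rfl | rfl <;> fin_cases i
    · exact ⟨0, a 0, m0, by simp⟩
    · exact ⟨2, 1, one_mem _, by simp⟩
    · exact ⟨1, 1, one_mem _, by simp [mul_assoc, h.sq]⟩
    · exact ⟨1, 1, one_mem _, by simp⟩
    · exact ⟨0, 1, one_mem _, by simp [h.sq]⟩
    · exact ⟨2, a 0, m0, by
        change a 1 * a 0 * a 1 = a 0 * (a 1 * a 0)
        rw [← h.b01, mul_assoc]⟩
  obtain ⟨hf, hc⟩ := h.card_one
  have h1 := card_le_mul (closure {a 0}) (closure {a 0, a 1}) hf 3 ![1, a 1, a 1 * a 0]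
    (cover_of_closed _ _ _ (by
      intro s hs
      rcases hs with rfl | rfl
      · exact h.sq 0
      · exact h.sq 1) ⟨0, 1, one_mem _, by simp⟩ hmul)
  exact ⟨h1.1, h1.2.trans (by omega)⟩

theorem Cox.card_three (h : Cox a) :
    Finite (closure {a 0, a 1, a 2}) ∧ Nat.card (closure {a 0, a 1, a 2}) ≤ 24 := by
  have m0 : a 0 ∈ closure {a 0, a 1} := subset_closure (by simp)
  have m1 : a 1 ∈ closure {a 0, a 1} := subset_closure (by simp)
  have hmul : ∀ i : Fin 4, ∀ s ∈ ({a 0, a 1, a 2} : Set G), ∃ j, ∃ y ∈ closure {a 0, a 1},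
      (![1, a 2, a 2 * a 1, a 2 * a 1 * a 0] : Fin 4 → G) i * s =
        y * (![1, a 2, a 2 * a 1, a 2 * a 1 * a 0] : Fin 4 → G) j := by
    intro i s hs
    rcases hs with rfl | rfl | rfl <;> fin_cases i
    · exact ⟨0, a 0, m0, by simp⟩
    · exact ⟨1, a 0, m0, h.c20⟩
    · exact ⟨3, 1, one_mem _, by simp⟩
    · exact ⟨2, 1, one_mem _, by simp [mul_assoc, h.sq]⟩
    · exact ⟨0, a 1, m1, by simp⟩
    · exact ⟨2, 1, one_mem _, by simp⟩
    · exact ⟨1, 1, one_mem _, by simp [mul_assoc, h.sq]⟩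
    · refine ⟨3, a 0, m0, ?_⟩
      change a 2 * a 1 * a 0 * a 1 = a 0 * (a 2 * a 1 * a 0)
      calc a 2 * a 1 * a 0 * a 1 = a 2 * (a 1 * a 0 * a 1) := by group
        _ = (a 2 * a 0) * a 1 * a 0 := by rw [← h.b01]; group
        _ = a 0 * (a 2 * a 1 * a 0) := by rw [h.c20]; group
    · exact ⟨1, 1, one_mem _, by simp⟩
    · exact ⟨0, 1, one_mem _, by simp [h.sq]⟩
    · refine ⟨2, a 1, m1, ?_⟩
      change a 2 * a 1 * a 2 = a 1 * (a 2 * a 1)
      rw [← h.b12, mul_assoc]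
    · refine ⟨3, a 1, m1, ?_⟩
      change a 2 * a 1 * a 0 * a 2 = a 1 * (a 2 * a 1 * a 0)
      calc a 2 * a 1 * a 0 * a 2 = a 2 * a 1 * (a 0 * a 2) := by group
        _ = (a 2 * a 1 * a 2) * a 0 := by rw [h.c02]; group
        _ = a 1 * (a 2 * a 1 * a 0) := by rw [← h.b12]; group
  obtain ⟨hf, hc⟩ := h.card_two
  have h1 := card_le_mul (closure {a 0, a 1}) (closure {a 0, a 1, a 2}) hf 4
    ![1, a 2, a 2 * a 1, a 2 * a 1 * a 0]
    (cover_of_closed _ _ _ (by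
      intro s hs
      rcases hs with rfl | rfl | rfl
      · exact h.sq 0
      · exact h.sq 1
      · exact h.sq 2) ⟨0, 1, one_mem _, by simp⟩ hmul)
  exact ⟨h1.1, h1.2.trans (by omega)⟩

/-- The subgroup generated by the four involutions has order at most `120`. -/
theorem Cox.card_four (h : Cox a) :
    Finite (closure {a 0, a 1, a 2, a 3}) ∧ Nat.card (closure {a 0, a 1, a 2, a 3}) ≤ 120 := by
  have m0 : a 0 ∈ closure {a 0, a 1, a 2} := subset_closure (by simp)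
  have m1 : a 1 ∈ closure {a 0, a 1, a 2} := subset_closure (by simp)
  have m2 : a 2 ∈ closure {a 0, a 1, a 2} := subset_closure (by simp)
  have hmul : ∀ i : Fin 5, ∀ s ∈ ({a 0, a 1, a 2, a 3} : Set G), ∃ j,
      ∃ y ∈ closure {a 0, a 1, a 2},
      (![1, a 3, a 3 * a 2, a 3 * a 2 * a 1, a 3 * a 2 * a 1 * a 0] : Fin 5 → G) i * s =
        y * (![1, a 3, a 3 * a 2, a 3 * a 2 * a 1, a 3 * a 2 * a 1 * a 0] : Fin 5 → G) j := by
    intro i s hs
    rcases hs with rfl | rfl | rfl | rfl <;> fin_cases i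
    · exact ⟨0, a 0, m0, by simp⟩
    · exact ⟨1, a 0, m0, h.c30⟩
    · refine ⟨2, a 0, m0, ?_⟩
      change a 3 * a 2 * a 0 = a 0 * (a 3 * a 2)
      rw [mul_assoc, h.c20, ← mul_assoc, h.c30, mul_assoc]
    · exact ⟨4, 1, one_mem _, by simp⟩
    · exact ⟨3, 1, one_mem _, by simp [mul_assoc, h.sq]⟩
    · exact ⟨0, a 1, m1, by simp⟩
    · exact ⟨1, a 1, m1, h.c31⟩
    · exact ⟨3, 1, one_mem _, by simp⟩
    · exact ⟨2, 1, one_mem _, by simp [mul_assoc, h.sq]⟩
    · refine ⟨4, a 0, m0, ?_⟩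
      change a 3 * a 2 * a 1 * a 0 * a 1 = a 0 * (a 3 * a 2 * a 1 * a 0)
      calc a 3 * a 2 * a 1 * a 0 * a 1 = a 3 * a 2 * (a 1 * a 0 * a 1) := by group
        _ = a 3 * (a 2 * a 0) * a 1 * a 0 := by rw [← h.b01]; group
        _ = (a 3 * a 0) * a 2 * a 1 * a 0 := by rw [h.c20]; group
        _ = a 0 * (a 3 * a 2 * a 1 * a 0) := by rw [h.c30]; group
    · exact ⟨0, a 2, m2, by simp⟩
    · exact ⟨2, 1, one_mem _, by simp⟩
    · exact ⟨1, 1, one_mem _, by simp [mul_assoc, h.sq]⟩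
    · refine ⟨3, a 1, m1, ?_⟩
      change a 3 * a 2 * a 1 * a 2 = a 1 * (a 3 * a 2 * a 1)
      calc a 3 * a 2 * a 1 * a 2 = a 3 * (a 2 * a 1 * a 2) := by group
        _ = (a 3 * a 1) * a 2 * a 1 := by rw [← h.b12]; group
        _ = a 1 * (a 3 * a 2 * a 1) := by rw [h.c31]; group
    · refine ⟨4, a 1, m1, ?_⟩
      change a 3 * a 2 * a 1 * a 0 * a 2 = a 1 * (a 3 * a 2 * a 1 * a 0)
      calc a 3 * a 2 * a 1 * a 0 * a 2 = a 3 * a 2 * a 1 * (a 0 * a 2) := by group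
        _ = a 3 * (a 2 * a 1 * a 2) * a 0 := by rw [h.c02]; group
        _ = (a 3 * a 1) * a 2 * a 1 * a 0 := by rw [← h.b12]; group
        _ = a 1 * (a 3 * a 2 * a 1 * a 0) := by rw [h.c31]; group
    · exact ⟨1, 1, one_mem _, by simp⟩
    · exact ⟨0, 1, one_mem _, by simp [h.sq]⟩
    · refine ⟨2, a 2, m2, ?_⟩
      change a 3 * a 2 * a 3 = a 2 * (a 3 * a 2)
      rw [← h.b23, mul_assoc]
    · refine ⟨3, a 2, m2, ?_⟩
      change a 3 * a 2 * a 1 * a 3 = a 2 * (a 3 * a 2 * a 1)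
      calc a 3 * a 2 * a 1 * a 3 = a 3 * a 2 * (a 1 * a 3) := by group
        _ = (a 3 * a 2 * a 3) * a 1 := by rw [h.c13]; group
        _ = a 2 * (a 3 * a 2 * a 1) := by rw [← h.b23]; group
    · refine ⟨4, a 2, m2, ?_⟩
      change a 3 * a 2 * a 1 * a 0 * a 3 = a 2 * (a 3 * a 2 * a 1 * a 0)
      calc a 3 * a 2 * a 1 * a 0 * a 3 = a 3 * a 2 * a 1 * (a 0 * a 3) := by group
        _ = a 3 * a 2 * (a 1 * a 3) * a 0 := by rw [h.c03]; group
        _ = (a 3 * a 2 * a 3) * a 1 * a 0 := by rw [h.c13]; group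
        _ = a 2 * (a 3 * a 2 * a 1 * a 0) := by rw [← h.b23]; group
  obtain ⟨hf, hc⟩ := h.card_three
  have h1 := card_le_mul (closure {a 0, a 1, a 2}) (closure {a 0, a 1, a 2, a 3}) hf 5
    ![1, a 3, a 3 * a 2, a 3 * a 2 * a 1, a 3 * a 2 * a 1 * a 0]
    (cover_of_closed _ _ _ (by
      intro s hs
      rcases hs with rfl | rfl | rfl | rfl
      · exact h.sq 0
      · exact h.sq 1
      · exact h.sq 2
      · exact h.sq 3) ⟨0, 1, one_mem _, by simp⟩ hmul)
  exact ⟨h1.1, h1.2.trans (by omega)⟩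

/-- Summary: a nonsolvable subgroup of order at most `120`. -/
theorem Cox.exists_nonsolvable (h : Cox a) (h01 : a 0 * a 1 ≠ 1) :
    ∃ X : Subgroup G, Nat.card X ≤ 120 ∧ Finite X ∧ ¬ Group.IsSolvable X :=
  ⟨closure {a 0, a 1, a 2, a 3}, h.card_four.2, h.card_four.1,
    h.not_isSolvable h01 _ (fun i => subset_closure (by fin_cases i <;> simp))⟩

end Cfsg.Agent.Classification.TitsFin.CoxFive
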