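import Mathlib
import Cfsg.Agent.Classification.TitsFin.CoxFive

/-!
# The involutions `c_i` of an apartment generate a group containing `S₅`

`z i` is the point `2 i` of the apartment, `c i` the involution attached to the line `2 i + 1`
(`i` modulo `8`).
-/

set_option autoImplicit false

namespace Cfsg.Agent.Classification.TitsFin.AptFive

open Cfsg.Agent.Classification.TitsFin.CoxFive

/-- The relations between the `c i` and the points of the apartment. -/
structure Apt {G : Type*} [Group G] (c z : ZMod 8 → G) : Prop where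
  c_sq : ∀ i, c i * c i = 1
  z_sq : ∀ i, z i * z i = 1
  comm_one : ∀ i, c i * c (i + 1) = c (i + 1) * c i
  comm_two : ∀ i, c i * c (i + 2) = c (i + 2) * c i
  /-- `[c_i, c_(i+3)] = c_(i+1) c_(i+2) z_(i+2)^δ` -/
  comm_three : ∀ i, c i * c (i + 3) * c i * c (i + 3) = c (i + 1) * c (i + 2) ∨
    c i * c (i + 3) * c i * c (i + 3) = c (i + 1) * c (i + 2) * z (i + 2)
  z_comm : ∀ i, z i * z (i + 1) = z (i + 1) * z i
  z_ne : ∀ i, z i ≠ 1
  z_ne_succ : ∀ i, z i ≠ z (i + 1)
  cz_zero : ∀ i, c i * z i = z i * c i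
  cz_one : ∀ i, c i * z (i + 1) = z (i + 1) * c i
  cz_two : ∀ i, c i * z (i + 2) = z (i + 2) * c i
  cz_neg : ∀ i, c (i + 1) * z i = z i * c (i + 1)
  cz_three : ∀ i, c i * z (i + 3) * c i = z (i + 2) * z (i + 3)
  cz_negtwo : ∀ i, c (i + 2) * z i * c (i + 2) = z (i + 1) * z i
  braid : ∀ i, c i * c (i + 4) * c i = c (i + 4) * c i * c (i + 4)
  ne : ∀ i, c i ≠ c (i + 4)
  /-- the reflection `n_i` maps `c_(i+3)` to `c_(i+1)` -/
  refl : ∀ i, (c i * c (i + 4) * c i) * c (i + 3) * (c i * c (i + 4) * c i) = c (i + 1)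

variable {G : Type*} [Group G] {c z : ZMod 8 → G}

theorem Apt.c_cancel (h : Apt c z) (i : ZMod 8) (x : G) : c i * (c i * x) = x := by
  rw [← mul_assoc, h.c_sq, one_mul]

/-- Conjugation by `c i`. -/
theorem Apt.conj_mul (h : Apt c z) (i : ZMod 8) (x y : G) :
    c i * (x * y) * c i = (c i * x * c i) * (c i * y * c i) := by
  have : (c i * x * c i) * (c i * y * c i) = c i * x * (c i * c i) * y * c i := by
    simp only [mul_assoc]
  rw [this, h.c_sq, mul_one]
  simp only [mul_assoc]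

theorem Apt.conj_of_comm (h : Apt c z) (i : ZMod 8) {x : G} (hx : c i * x = x * c i) :
    c i * x * c i = x := by rw [hx, mul_assoc, h.c_sq, mul_one]

/-- The commutator `[c_(i+3), c_i]` in the form `c_i c_(i+3) c_i = c_(i+1) c_(i+2) c_(i+3) z^δ`. -/
theorem Apt.conj_three (h : Apt c z) (i : ZMod 8) :
    (c i * c (i + 3) * c i = c (i + 3) * c (i + 1) * c (i + 2)) ∨
    (c i * c (i + 3) * c i = c (i + 3) * c (i + 1) * c (i + 2) * z (i + 2)) := by
  have e1 : c (i + 3) * c (i + 2) = c (i + 2) * c (i + 3) := by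
    have := h.comm_one (i + 2)
    rw [show i + 2 + 1 = i + 3 by ring] at this
    exact this.symm
  have e2 : c (i + 3) * c (i + 1) = c (i + 1) * c (i + 3) := by
    have := h.comm_two (i + 1)
    rw [show i + 1 + 2 = i + 3 by ring] at this
    exact this.symm
  have e3 : c (i + 3) * z (i + 2) = z (i + 2) * c (i + 3) := by
    have := h.cz_neg (i + 2)
    rw [show i + 2 + 1 = i + 3 by ring] at this
    exact this
  rcases h.comm_three i with h1 | h1
  · left
    have h2 : c i * c (i + 3) * c i = c (i + 1) * c (i + 2) * c (i + 3) := by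
      rw [← h1, mul_assoc _ (c (i + 3)) (c (i + 3)), h.c_sq, mul_one]
    rw [h2, e2, mul_assoc, mul_assoc, e1]
  · right
    have h2 : c i * c (i + 3) * c i = c (i + 1) * c (i + 2) * z (i + 2) * c (i + 3) := by
      rw [← h1, mul_assoc _ (c (i + 3)) (c (i + 3)), h.c_sq, mul_one]
    rw [h2, mul_assoc _ (z (i + 2)), ← e3, e2]
    simp only [mul_assoc]
    rw [← mul_assoc (c (i + 2)) (c (i + 3)), ← e1]
    simp only [mul_assoc]


section Aux

theorem conj_mul' {y : G} (hy : y * y = 1) (u v : G) :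
    y * (u * v) * y = (y * u * y) * (y * v * y) := by
  have : (y * u * y) * (y * v * y) = y * u * (y * y) * v * y := by simp only [mul_assoc]
  rw [this, hy, mul_one]
  simp only [mul_assoc]

/-- The computation of the sign. -/
theorem delta_aux {x y a b d p q : G} (hx : x * x = 1) (hy : y * y = 1)
    (hb : b * b = 1) (hd : d * d = 1) (hq : q * q = 1)
    (hbd : b * d = d * b) (had : a * d = d * a) (hbq : b * q = q * b)
    (hxa : x * a = a * x) (hyd : y * d = d * y) (hyb : y * b = b * y)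
    (hyp : y * p * y = q * p) (hp1 : p ≠ 1) (hpq : p ≠ q)
    (h1 : x * d * x = d * a * b ∨ x * d * x = d * a * b * p)
    (h2 : y * a * y = a * b * d ∨ y * a * y = a * b * d * q)
    (h3 : (x * y * x) * d * (x * y * x) = a) :
    x * d * x = d * a * b := by
  have h4 : y * (x * d * x) * y = a := by
    have h5 : x * (y * (x * d * x) * y) * x = a := by
      rw [← h3]; simp only [mul_assoc]
    have h6 : y * (x * d * x) * y = x * a * x := by
      rw [← h5]
      calc y * (x * d * x) * y = (x * x) * (y * (x * d * x) * y) * (x * x) := by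
            rw [hx, one_mul, mul_one]
        _ = x * (x * (y * (x * d * x) * y) * x) * x := by simp only [mul_assoc]
    rw [h6, hxa, mul_assoc, hx, mul_one]
  have hyd' : y * d * y = d := by rw [hyd, mul_assoc, hy, mul_one]
  have hyb' : y * b * y = b := by rw [hyb, mul_assoc, hy, mul_one]
  have k1 : d * (a * b * d) * b = a := by
    calc d * (a * b * d) * b = (d * a) * (b * d) * b := by simp only [mul_assoc]
      _ = a * (d * d) * (b * b) := by rw [← had, hbd]; simp only [mul_assoc]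
      _ = a := by rw [hd, hb, mul_one, mul_one]
  have k2 : d * (a * b * d * q) * b = a * q := by
    calc d * (a * b * d * q) * b = d * (a * b * d) * (q * b) := by simp only [mul_assoc]
      _ = (d * (a * b * d) * b) * q := by rw [← hbq]; simp only [mul_assoc]
      _ = a * q := by rw [k1]
  rcases h1 with h1 | h1
  · exact h1
  · exfalso
    rw [h1, conj_mul' hy, conj_mul' hy, conj_mul' hy, hyd', hyb', hyp] at h4
    rcases h2 with h2 | h2
    · rw [h2, k1] at h4
      have h7 : q * p = 1 := by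
        have : a * (q * p) = a * 1 := by rw [h4, mul_one]
        exact mul_left_cancel this
      apply hpq
      have : q * (q * p) = q * 1 := by rw [h7]
      rw [← mul_assoc, hq, one_mul, mul_one] at this
      exact this
    · rw [h2, k2] at h4
      have h7 : p = 1 := by
        have h8 : a * q * (q * p) = a * p := by
          rw [mul_assoc, ← mul_assoc q q p, hq, one_mul]
        rw [h8] at h4
        have : a * p = a * 1 := by rw [h4, mul_one]
        exact mul_left_cancel this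
      exact hp1 h7

end Aux

/-- All the signs are trivial. -/
theorem Apt.delta (h : Apt c z) (i : ZMod 8) :
    c i * c (i + 3) * c i = c (i + 3) * c (i + 1) * c (i + 2) := by
  have r1 : i + 1 + 1 = i + 2 := by ring
  have r2 : i + 1 + 2 = i + 3 := by ring
  have r3 : i + 2 + 1 = i + 3 := by ring
  have r4 : i + 3 + 1 = i + 4 := by ring
  have r5 : i + 2 + 2 = i + 4 := by ring
  have r6 : i + 1 + 3 = i + 4 := by ring
  have hbd := h.comm_one (i + 2)
  rw [r3] at hbd
  have had := h.comm_two (i + 1)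
  rw [r2] at had
  have hbq := h.cz_one (i + 2)
  rw [r3] at hbq
  have hyd := h.comm_one (i + 3)
  rw [r4] at hyd
  have hyb := h.comm_two (i + 2)
  rw [r5] at hyb
  have hyp := h.cz_negtwo (i + 2)
  rw [r5, r3] at hyp
  have hpq := h.z_ne_succ (i + 2)
  rw [r3] at hpq
  have h2 := h.comm_three (i + 1)
  rw [r6, r1, r2] at h2
  have h3 := h.refl i
  refine delta_aux (x := c i) (y := c (i + 4)) (a := c (i + 1)) (b := c (i + 2))
    (d := c (i + 3)) (p := z (i + 2)) (q := z (i + 3)) (h.c_sq _) (h.c_sq _) (h.c_sq _) (h.c_sq _)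
    (h.z_sq _) hbd had hbq (h.comm_one i) hyd.symm hyb.symm hyp (h.z_ne _)
    hpq (h.conj_three i) ?_ h3
  have key : ∀ w : G, c (i + 1) * c (i + 4) * c (i + 1) * c (i + 4) = w →
      c (i + 4) * c (i + 1) * c (i + 4) = c (i + 1) * w := by
    intro w hw
    rw [← hw]
    simp only [mul_assoc]
    rw [h.c_cancel]
  rcases h2 with h2 | h2
  · left
    rw [key _ h2, mul_assoc]
  · right
    rw [key _ h2]
    simp only [mul_assoc]

/-- The four involutions `c₀, c₄, c₀^{c₅}, c₂`. -/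
def four (c : ZMod 8 → G) : Fin 4 → G := ![c 0, c 4, c 5 * c 0 * c 5, c 2]

theorem Apt.cox (h : Apt c z) : Cox (four c) := by
  -- `c₅ c₀ c₅ = c₀ c₆ c₇ = c₁ c₆ c₁`
  have e5 : c 5 * c 0 * c 5 = c 0 * c 6 * c 7 := h.delta 5
  have k1 : c 1 * c 6 * c 1 = c 0 * c 6 * c 7 := by
    have h1 : c 6 * c 1 * c 6 = c 1 * c 7 * c 0 := h.delta 6
    have h67 : c 6 * c 7 = c 7 * c 6 := h.comm_one 6
    have h60 : c 6 * c 0 = c 0 * c 6 := h.comm_two 6
    have h70 : c 7 * c 0 = c 0 * c 7 := h.comm_one 7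
    -- `c₁ (c₆ c₁ c₆) = c₇ c₀`, so `c₁ c₆ c₁ = c₇ c₀ c₆`
    have h2 : c 1 * c 6 * c 1 * c 6 = c 7 * c 0 := by
      have : c 1 * (c 6 * c 1 * c 6) = c 7 * c 0 := by
        rw [h1]
        simp only [mul_assoc]
        rw [h.c_cancel]
      rw [← this]; simp only [mul_assoc]
    have h3 : c 1 * c 6 * c 1 = c 7 * c 0 * c 6 := by
      rw [← h2, mul_assoc _ (c 6) (c 6), h.c_sq, mul_one]
    rw [h3, h70, mul_assoc, ← h67, ← mul_assoc]
  have e1 : c 5 * c 0 * c 5 = c 1 * c 6 * c 1 := by rw [e5, k1]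
  have c45 : c 4 * c 5 = c 5 * c 4 := h.comm_one 4
  have c12 : c 1 * c 2 = c 2 * c 1 := h.comm_one 1
  have c02 : c 0 * c 2 = c 2 * c 0 := h.comm_two 0
  have c24 : c 2 * c 4 = c 4 * c 2 := h.comm_two 2
  have c60 : c 6 * c 0 = c 0 * c 6 := h.comm_two 6
  have c70 : c 7 * c 0 = c 0 * c 7 := h.comm_one 7
  have b04 : c 0 * c 4 * c 0 = c 4 * c 0 * c 4 := h.braid 0
  have b26 : c 2 * c 6 * c 2 = c 6 * c 2 * c 6 := h.braid 2
  have f0 : four c 0 = c 0 := rfl
  have f1 : four c 1 = c 4 := rfl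
  have f2 : four c 2 = c 5 * c 0 * c 5 := rfl
  have f3 : four c 3 = c 2 := rfl
  have c4' : c 5 * c 4 * c 5 = c 4 := by rw [← c45, mul_assoc, h.c_sq, mul_one]
  have c2' : c 1 * c 2 * c 1 = c 2 := by rw [c12, mul_assoc, h.c_sq, mul_one]
  refine ⟨?_, ?_, ?_, ?_, ?_, ?_, ?_⟩
  · intro i
    fin_cases i
    · exact h.c_sq 0
    · exact h.c_sq 4
    · change c 5 * c 0 * c 5 * (c 5 * c 0 * c 5) = 1
      rw [← conj_mul' (h.c_sq 5), h.c_sq 0, mul_one, h.c_sq 5]
    · exact h.c_sq 2
  · rw [f0, f1]; exact b04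
  · rw [f1, f2]
    calc c 4 * (c 5 * c 0 * c 5) * c 4
        = (c 5 * c 4 * c 5) * (c 5 * c 0 * c 5) * (c 5 * c 4 * c 5) := by rw [c4']
      _ = c 5 * (c 4 * c 0 * c 4) * c 5 := by
          rw [← conj_mul' (h.c_sq 5), ← conj_mul' (h.c_sq 5)]
      _ = c 5 * (c 0 * c 4 * c 0) * c 5 := by rw [b04]
      _ = (c 5 * c 0 * c 5) * (c 5 * c 4 * c 5) * (c 5 * c 0 * c 5) := by
          rw [← conj_mul' (h.c_sq 5), ← conj_mul' (h.c_sq 5)]
      _ = (c 5 * c 0 * c 5) * c 4 * (c 5 * c 0 * c 5) := by rw [c4']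
  · rw [f2, f3, e1]
    calc (c 1 * c 6 * c 1) * c 2 * (c 1 * c 6 * c 1)
        = (c 1 * c 6 * c 1) * (c 1 * c 2 * c 1) * (c 1 * c 6 * c 1) := by rw [c2']
      _ = c 1 * (c 6 * c 2 * c 6) * c 1 := by
          rw [← conj_mul' (h.c_sq 1), ← conj_mul' (h.c_sq 1)]
      _ = c 1 * (c 2 * c 6 * c 2) * c 1 := by rw [b26]
      _ = (c 1 * c 2 * c 1) * (c 1 * c 6 * c 1) * (c 1 * c 2 * c 1) := by
          rw [← conj_mul' (h.c_sq 1), ← conj_mul' (h.c_sq 1)]
      _ = c 2 * (c 1 * c 6 * c 1) * c 2 := by rw [c2']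
  · rw [f0, f2, e5]
    calc c 0 * (c 0 * c 6 * c 7) = c 0 * ((c 0 * c 6) * c 7) := by simp only [mul_assoc]
      _ = c 0 * ((c 6 * c 0) * c 7) := by rw [c60]
      _ = c 0 * c 6 * (c 0 * c 7) := by simp only [mul_assoc]
      _ = c 0 * c 6 * (c 7 * c 0) := by rw [c70]
      _ = c 0 * c 6 * c 7 * c 0 := by simp only [mul_assoc]
  · rw [f0, f3]; exact c02
  · rw [f1, f3]; exact c24.symm

/-- The conclusion: a nonsolvable subgroup of order at most `120`. -/
theorem Apt.exists_nonsolvable (h : Apt c z) :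
    ∃ X : Subgroup G, Nat.card X ≤ 120 ∧ Finite X ∧ ¬ Group.IsSolvable X := by
  apply h.cox.exists_nonsolvable
  intro h1
  have h2 : c 0 * c 4 = 1 := h1
  apply h.ne 0
  have h3 : c 0 * (c 0 * c 4) = c 0 := by rw [h2, mul_one]
  rw [h.c_cancel] at h3
  rw [zero_add]
  exact h3.symm

end Cfsg.Agent.Classification.TitsFin.AptFive
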