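import Mathlib

set_option autoImplicit false

/-! Four elements satisfying the Coxeter relations of `S₅` in a simple group of order more than 120 generate a
proper nonsolvable subgroup. -/

namespace Cfsg.Agent.Classification.TitsFin.Coxeter

open Subgroup

/-- In a solvable group elements with the Coxeter relations of `S₅` are equal. -/
theorem eq_of_solvable {K : Type*} [Group K] (hK : Group.IsSolvable K) {a b c d : K}
    (ha : a * a = 1) (hb : b * b = 1) (hc : c * c = 1) (hd : d * d = 1)
    (hab : a * b * a = b * a * b) (hbc : b * c * b = c * b * c) (hcd : c * d * c = d * c * d)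
    (hac : a * c = c * a) (had : a * d = d * a) (hbd : b * d = d * b) : a = b := by
  have cube : ∀ x y : K, x * x = 1 → y * y = 1 → x * y * x = y * x * y → (x * y) ^ 3 = 1 := by
    intro x y hx hy hxy
    calc (x * y) ^ 3 = (x * y * x) * (y * x * y) := by rw [pow_succ, pow_two]; group
      _ = (x * y * x) * (x * y * x) := by rw [hxy]
      _ = x * y * (x * x) * y * x := by group
      _ = 1 := by rw [hx, mul_one, mul_assoc x y y, hy, mul_one, hx]
  have sq : ∀ x y : K, x * x = 1 → y * y = 1 → x * y = y * x → (x * y) ^ 2 = 1 := by
    intro x y hx hy hxy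
    calc (x * y) ^ 2 = (x * y) * (x * y) := pow_two _
      _ = (x * y) * (y * x) := by rw [hxy]
      _ = x * (y * y) * x := by group
      _ = 1 := by rw [hy, mul_one, hx]
  have h1 := cube a b ha hb hab
  have h2 := cube b c hb hc hbc
  have h3 := cube c d hc hd hcd
  have h4 : (a * b * (b * c)) ^ 2 = 1 := by
    have : a * b * (b * c) = a * c := by
      calc a * b * (b * c) = a * (b * b) * c := by group
        _ = a * c := by rw [hb, mul_one]
    rw [this]; exact sq a c ha hc hac
  have h5 : (b * c * (c * d)) ^ 2 = 1 := by
    have : b * c * (c * d) = b * d := by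
      calc b * c * (c * d) = b * (c * c) * d := by group
        _ = b * d := by rw [hc, mul_one]
    rw [this]; exact sq b d hb hd hbd
  have h6 : (a * b * (b * c) * (c * d)) ^ 2 = 1 := by
    have : a * b * (b * c) * (c * d) = a * d := by
      calc a * b * (b * c) * (c * d) = a * (b * b) * (c * c) * d := by group
        _ = a * d := by rw [hb, hc, mul_one, mul_one]
    rw [this]; exact sq a d ha hd had
  -- abelian case
  have key : ∀ n : ℕ, a * b ∈ derivedSeries K n ∧ b * c ∈ derivedSeries K n ∧ c * d ∈ derivedSeries K n := by
    intro n
    induction n with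
    | zero => exact ⟨mem_top _, mem_top _, mem_top _⟩
    | succ n ih =>
      obtain ⟨m1, m2, m3⟩ := ih
      set N := derivedSeries K n with hN
      let u : N := ⟨a * b, m1⟩
      let v : N := ⟨b * c, m2⟩
      let w : N := ⟨c * d, m3⟩
      let f : N →* Abelianization N := Abelianization.of
      have e1 : f u ^ 3 = 1 := by rw [← map_pow, show u ^ 3 = 1 from Subtype.ext h1, map_one]
      have e2 : f v ^ 3 = 1 := by rw [← map_pow, show v ^ 3 = 1 from Subtype.ext h2, map_one]
      have e3 : f w ^ 3 = 1 := by rw [← map_pow, show w ^ 3 = 1 from Subtype.ext h3, map_one]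
      have e4 : (f u * f v) ^ 2 = 1 := by
        rw [← map_mul, ← map_pow, show (u * v) ^ 2 = 1 from Subtype.ext h4, map_one]
      have e5 : (f v * f w) ^ 2 = 1 := by
        rw [← map_mul, ← map_pow, show (v * w) ^ 2 = 1 from Subtype.ext h5, map_one]
      have e6 : (f u * f v * f w) ^ 2 = 1 := by
        rw [← map_mul, ← map_mul, ← map_pow, show (u * v * w) ^ 2 = 1 from Subtype.ext h6, map_one]
      have one_of : ∀ x : Abelianization N, x ^ 3 = 1 → x ^ 2 = 1 → x = 1 := by
        intro x hx hx'
        rw [pow_succ, hx', one_mul] at hx
        exact hx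
      have w1 : f w = 1 := by
        apply one_of _ e3
        rw [mul_pow, e4, one_mul] at e6
        exact e6
      have v1 : f v = 1 := by
        apply one_of _ e2
        rw [w1, mul_one] at e5
        exact e5
      have u1 : f u = 1 := by
        apply one_of _ e1
        rw [v1, mul_one] at e4
        exact e4
      have hmem : ∀ x : N, f x = 1 → (x : K) ∈ derivedSeries K (n + 1) := by
        intro x hx
        have h7 : x ∈ commutator N := by
          rw [← Abelianization.ker_of]
          exact hx
        have h8 : (commutator N).map N.subtype ≤ derivedSeries K (n + 1) := by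
          rw [derivedSeries_succ, _root_.commutator_def, map_commutator]
          refine commutator_mono ?_ ?_ <;>
          · rw [← MonoidHom.range_eq_map, range_subtype]
        exact h8 ⟨x, h7, rfl⟩
      exact ⟨hmem u u1, hmem v v1, hmem w w1⟩
  obtain ⟨n, hn⟩ := hK
  have := (key n).1
  rw [hn, mem_bot] at this
  calc a = a * (b * b) := by rw [hb, mul_one]
    _ = (a * b) * b := by group
    _ = b := by rw [this, one_mul]

theorem card_le {G : Type*} [Group G] [Finite G] {n : ℕ} (K : Subgroup G) (S : Set G)
    (hS : ∀ s ∈ S, s * s = 1) (T : Fin n → G) (i0 : Fin n) (h0 : T i0 = 1)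
    (hmul : ∀ i, ∀ s ∈ S, ∃ j, ∃ k ∈ K, T i * s = k * T j) :
    Nat.card (closure S) ≤ n * Nat.card K := by
  have key : ∀ x ∈ closure S, ∃ k ∈ K, ∃ i, x = k * T i := by
    intro x hx
    induction hx using closure_induction_right with
    | one => exact ⟨1, K.one_mem, i0, by rw [h0, mul_one]⟩
    | mul_right x hx y hy ih =>
      obtain ⟨k, hk, i, rfl⟩ := ih
      obtain ⟨j, k', hk', hj⟩ := hmul i y hy
      exact ⟨k * k', K.mul_mem hk hk', j, by rw [mul_assoc, hj, mul_assoc]⟩
    | mul_inv_cancel x hx y hy ih =>
      obtain ⟨k, hk, i, rfl⟩ := ih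
      have hyi : y⁻¹ = y := by rw [inv_eq_iff_mul_eq_one]; exact hS y hy
      obtain ⟨j, k', hk', hj⟩ := hmul i y hy
      exact ⟨k * k', K.mul_mem hk hk', j, by rw [hyi, mul_assoc, hj, mul_assoc]⟩
  let f : Fin n × K → G := fun p => p.2 * T p.1
  have hsub : (closure S : Set G) ⊆ Set.range f := by
    intro x hx
    obtain ⟨k, hk, i, rfl⟩ := key x hx
    exact ⟨(i, ⟨k, hk⟩), rfl⟩
  calc Nat.card (closure S) = (closure S : Set G).ncard := Nat.card_coe_set_eq _
    _ ≤ (Set.range f).ncard := Set.ncard_le_ncard hsub (Set.toFinite _)
    _ = Nat.card (Set.range f) := (Nat.card_coe_set_eq _).symm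
    _ ≤ Nat.card (Fin n × K) := Finite.card_range_le f
    _ = n * Nat.card K := by rw [Nat.card_prod, Nat.card_fin]

theorem card_closure_le {G : Type*} [Group G] [Finite G] {a b c d : G}
    (ha : a * a = 1) (hb : b * b = 1) (hc : c * c = 1) (hd : d * d = 1)
    (hab : a * b * a = b * a * b) (hbc : b * c * b = c * b * c) (hcd : c * d * c = d * c * d)
    (hac : a * c = c * a) (had : a * d = d * a) (hbd : b * d = d * b) :
    Nat.card (closure ({a, b, c, d} : Set G)) ≤ 120 := by
  have k1 : Nat.card (closure ({a} : Set G)) ≤ 2 * Nat.card (⊥ : Subgroup G) := by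
    refine card_le ⊥ _ ?_ ![1, a] 0 rfl ?_
    · intro s hs; rw [Set.mem_singleton_iff] at hs; rw [hs]; exact ha
    · intro i s hs
      rw [Set.mem_singleton_iff] at hs
      subst hs
      fin_cases i
      · exact ⟨1, 1, one_mem _, by simp⟩
      · exact ⟨0, 1, one_mem _, by simpa using ha⟩
  have k2 : Nat.card (closure ({a, b} : Set G)) ≤ 3 * Nat.card (closure ({a} : Set G)) := by
    have mA : a ∈ closure ({a} : Set G) := subset_closure rfl
    refine card_le _ _ ?_ ![1, b, b * a] 0 rfl ?_
    · rintro s (rfl | hs)
      · exact ha
      · rw [Set.mem_singleton_iff] at hs; rw [hs]; exact hb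
    · intro i s hs
      have hs' : s = a ∨ s = b := by simpa using hs
      fin_cases i
      · rcases hs' with rfl | rfl
        · exact ⟨0, _, mA, by simp⟩
        · exact ⟨1, 1, one_mem _, by simp⟩
      · rcases hs' with rfl | rfl
        · exact ⟨2, 1, one_mem _, by simp⟩
        · exact ⟨0, 1, one_mem _, by simpa using hb⟩
      · rcases hs' with rfl | rfl
        · exact ⟨1, 1, one_mem _, by simp [mul_assoc, ha]⟩
        · exact ⟨2, _, mA, by simp [← mul_assoc, hab]⟩
  have k3 : Nat.card (closure ({a, b, c} : Set G)) ≤ 4 * Nat.card (closure ({a, b} : Set G)) := by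
    have mA : a ∈ closure ({a, b} : Set G) := subset_closure (by simp)
    have mB : b ∈ closure ({a, b} : Set G) := subset_closure (by simp)
    refine card_le _ _ ?_ ![1, c, c * b, c * b * a] 0 rfl ?_
    · rintro s (rfl | rfl | hs)
      · exact ha
      · exact hb
      · rw [Set.mem_singleton_iff] at hs; rw [hs]; exact hc
    · intro i s hs
      have hs' : s = a ∨ s = b ∨ s = c := by simpa using hs
      fin_cases i
      · rcases hs' with rfl | rfl | rfl
        · exact ⟨0, _, mA, by simp⟩
        · exact ⟨0, _, mB, by simp⟩
        · exact ⟨1, 1, one_mem _, by simp⟩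
      · rcases hs' with rfl | rfl | rfl
        · exact ⟨1, _, mA, by simpa using hac.symm⟩
        · exact ⟨2, 1, one_mem _, by simp⟩
        · exact ⟨0, 1, one_mem _, by simpa using hc⟩
      · rcases hs' with rfl | rfl | rfl
        · exact ⟨3, 1, one_mem _, by simp⟩
        · exact ⟨1, 1, one_mem _, by simp [mul_assoc, hb]⟩
        · exact ⟨2, _, mB, by simp [← mul_assoc, hbc]⟩
      · rcases hs' with rfl | rfl | rfl
        · exact ⟨2, 1, one_mem _, by simp [mul_assoc, ha]⟩
        · refine ⟨3, _, mA, ?_⟩
          show c * s * a * s = a * (c * s * a)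
          calc c * s * a * s = c * (s * a * s) := by group
            _ = c * (a * s * a) := by rw [hab]
            _ = (c * a) * s * a := by group
            _ = (a * c) * s * a := by rw [hac]
            _ = _ := by group
        · refine ⟨3, _, mB, ?_⟩
          show s * b * a * s = b * (s * b * a)
          calc s * b * a * s = s * b * (a * s) := by group
            _ = (s * b * s) * a := by rw [hac]; group
            _ = (b * s * b) * a := by rw [hbc]
            _ = _ := by group
  have k4 : Nat.card (closure ({a, b, c, d} : Set G)) ≤ 5 * Nat.card (closure ({a, b, c} : Set G)) := by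
    have mA : a ∈ closure ({a, b, c} : Set G) := subset_closure (by simp)
    have mB : b ∈ closure ({a, b, c} : Set G) := subset_closure (by simp)
    have mC : c ∈ closure ({a, b, c} : Set G) := subset_closure (by simp)
    refine card_le _ _ ?_ ![1, d, d * c, d * c * b, d * c * b * a] 0 rfl ?_
    · rintro s (rfl | rfl | rfl | hs)
      · exact ha
      · exact hb
      · exact hc
      · rw [Set.mem_singleton_iff] at hs; rw [hs]; exact hd
    · intro i s hs
      have hs' : s = a ∨ s = b ∨ s = c ∨ s = d := by simpa using hs
      fin_cases i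
      · rcases hs' with rfl | rfl | rfl | rfl
        · exact ⟨0, _, mA, by simp⟩
        · exact ⟨0, _, mB, by simp⟩
        · exact ⟨0, _, mC, by simp⟩
        · exact ⟨1, 1, one_mem _, by simp⟩
      · rcases hs' with rfl | rfl | rfl | rfl
        · exact ⟨1, _, mA, by simpa using had.symm⟩
        · exact ⟨1, _, mB, by simpa using hbd.symm⟩
        · exact ⟨2, 1, one_mem _, by simp⟩
        · exact ⟨0, 1, one_mem _, by simpa using hd⟩
      · rcases hs' with rfl | rfl | rfl | rfl
        · refine ⟨2, _, mA, ?_⟩
          show d * c * s = s * (d * c)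
          calc d * c * s = d * (c * s) := by group
            _ = (d * s) * c := by rw [← hac]; group
            _ = (s * d) * c := by rw [had]
            _ = _ := by group
        · exact ⟨3, 1, one_mem _, by simp⟩
        · exact ⟨1, 1, one_mem _, by simp [mul_assoc, hc]⟩
        · refine ⟨2, _, mC, ?_⟩
          show s * c * s = c * (s * c)
          rw [← hcd]; group
      · rcases hs' with rfl | rfl | rfl | rfl
        · exact ⟨4, 1, one_mem _, by simp⟩
        · exact ⟨2, 1, one_mem _, by simp [mul_assoc, hb]⟩
        · refine ⟨3, _, mB, ?_⟩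
          show d * s * b * s = b * (d * s * b)
          calc d * s * b * s = d * (s * b * s) := by group
            _ = d * (b * s * b) := by rw [hbc]
            _ = (d * b) * s * b := by group
            _ = (b * d) * s * b := by rw [hbd]
            _ = _ := by group
        · refine ⟨3, _, mC, ?_⟩
          show s * c * b * s = c * (s * c * b)
          calc s * c * b * s = s * c * (b * s) := by group
            _ = (s * c * s) * b := by rw [hbd]; group
            _ = (c * s * c) * b := by rw [hcd]
            _ = _ := by group
      · rcases hs' with rfl | rfl | rfl | rfl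
        · exact ⟨3, 1, one_mem _, by simp [mul_assoc, ha]⟩
        · refine ⟨4, _, mA, ?_⟩
          show d * c * s * a * s = a * (d * c * s * a)
          calc d * c * s * a * s = d * c * (s * a * s) := by group
            _ = d * c * (a * s * a) := by rw [hab]
            _ = d * (c * a) * s * a := by group
            _ = (d * a) * c * s * a := by rw [← hac]; group
            _ = (a * d) * c * s * a := by rw [had]
            _ = _ := by group
        · refine ⟨4, _, mB, ?_⟩
          show d * s * b * a * s = b * (d * s * b * a)
          calc d * s * b * a * s = d * s * b * (a * s) := by group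
            _ = d * (s * b * s) * a := by rw [hac]; group
            _ = d * (b * s * b) * a := by rw [hbc]
            _ = (d * b) * s * b * a := by group
            _ = (b * d) * s * b * a := by rw [hbd]
            _ = _ := by group
        · refine ⟨4, _, mC, ?_⟩
          show s * c * b * a * s = c * (s * c * b * a)
          calc s * c * b * a * s = s * c * b * (a * s) := by group
            _ = s * c * (b * s) * a := by rw [had]; group
            _ = (s * c * s) * b * a := by rw [hbd]; group
            _ = (c * s * c) * b * a := by rw [hcd]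
            _ = _ := by group
  rw [card_bot] at k1
  omega

/-- Four elements satisfying the Coxeter relations of `S₅` in a simple group of order more than 120 generate a
proper nonsolvable subgroup. -/
theorem coxeter_nonsolvable {G : Type*} [Group G] [Finite G] [IsSimpleGroup G] (hG : 120 < Nat.card G)
    {a b c d : G} (ha : a * a = 1) (hb : b * b = 1) (hc : c * c = 1) (hd : d * d = 1)
    (hab : a * b * a = b * a * b) (hbc : b * c * b = c * b * c) (hcd : c * d * c = d * c * d)
    (hac : a * c = c * a) (had : a * d = d * a) (hbd : b * d = d * b) (hne : a ≠ b) :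
    ∃ H : Subgroup G, H ≠ ⊤ ∧ ¬ Group.IsSolvable H := by
  refine ⟨closure ({a, b, c, d} : Set G), ?_, ?_⟩
  · intro h
    have h1 := card_closure_le ha hb hc hd hab hbc hcd hac had hbd
    rw [h, card_top] at h1
    omega
  · intro h
    have mA : a ∈ closure ({a, b, c, d} : Set G) := subset_closure (by simp)
    have mB : b ∈ closure ({a, b, c, d} : Set G) := subset_closure (by simp)
    have mC : c ∈ closure ({a, b, c, d} : Set G) := subset_closure (by simp)
    have mD : d ∈ closure ({a, b, c, d} : Set G) := subset_closure (by simp)
    have := eq_of_solvable h (a := ⟨a, mA⟩) (b := ⟨b, mB⟩) (c := ⟨c, mC⟩) (d := ⟨d, mD⟩)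
      (Subtype.ext ha) (Subtype.ext hb) (Subtype.ext hc) (Subtype.ext hd) (Subtype.ext hab) (Subtype.ext hbc)
      (Subtype.ext hcd) (Subtype.ext hac) (Subtype.ext had) (Subtype.ext hbd)
    exact hne (congrArg Subtype.val this)

end Cfsg.Agent.Classification.TitsFin.Coxeter

namespace Cfsg.Agent.Classification.TitsFin

/-- Four elements satisfying the Coxeter relations of `S₅` in a simple group of order more than 120 generate a
proper nonsolvable subgroup. -/
theorem coxeter_nonsolvable {G : Type*} [Group G] [Finite G] [IsSimpleGroup G] (hG : 120 < Nat.card G)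
    {a b c d : G} (ha : a * a = 1) (hb : b * b = 1) (hc : c * c = 1) (hd : d * d = 1)
    (hab : a * b * a = b * a * b) (hbc : b * c * b = c * b * c) (hcd : c * d * c = d * c * d)
    (hac : a * c = c * a) (had : a * d = d * a) (hbd : b * d = d * b) (hne : a ≠ b) :
    ∃ H : Subgroup G, H ≠ ⊤ ∧ ¬ Group.IsSolvable H :=
  Coxeter.coxeter_nonsolvable hG ha hb hc hd hab hbc hcd hac had hbd hne

end Cfsg.Agent.Classification.TitsFin
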