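import Mathlib
import Cfsg.Agent.Classification.TitsFin.Defs

/-!
# Frames: coordinates for `U_x` and the action of `C(x)` on it
-/

set_option autoImplicit false

namespace Cfsg.Agent.Classification.TitsFin

open Subgroup

variable {G : Type*} [Group G]

/-- the `i`-th unit vector times `c` -/
def sg (i : ZMod 5) (c : ZMod 2) : ZMod 5 → ZMod 2 := Pi.single i c

theorem ext_F {F F' : ZMod 2 → (ZMod 5 → ZMod 2) → G}
    (m : ∀ a b s t, F a s * F b t = F (a + b) (s + t))
    (m' : ∀ a b s t, F' a s * F' b t = F' (a + b) (s + t)) (h0 : F 0 0 = F' 0 0)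
    (h1 : F 1 0 = F' 1 0) (h2 : ∀ i, F 0 (Pi.single i 1) = F' 0 (Pi.single i 1))
    (a : ZMod 2) (s : ZMod 5 → ZMod 2) : F a s = F' a s := by
  have hs : ∀ s : ZMod 5 → ZMod 2, s = 0 + (sg 0 (s 0) + (sg 1 (s 1) + (sg 2 (s 2) +
      (sg 3 (s 3) + sg 4 (s 4))))) := by decide
  have h3 : ∀ (i : ZMod 5) (c : ZMod 2), F 0 (sg i c) = F' 0 (sg i c) := by
    intro i c
    rcases zmod2 c with rfl | rfl
    · simpa [sg] using h0
    · exact h2 i
  have h4 : F a 0 = F' a 0 := by
    rcases zmod2 a with rfl | rfl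
    · exact h0
    · exact h1
  have h5 : ∀ F : ZMod 2 → (ZMod 5 → ZMod 2) → G, (∀ a b s t, F a s * F b t = F (a + b) (s + t)) →
      F a s = F a 0 * (F 0 (sg 0 (s 0)) * (F 0 (sg 1 (s 1)) * (F 0 (sg 2 (s 2)) *
        (F 0 (sg 3 (s 3)) * F 0 (sg 4 (s 4)))))) := by
    intro F m
    rw [m, m, m, m, m, ← hs s]
    simp
  rw [h5 F m, h5 F' m', h4, h3, h3, h3, h3, h3]

theorem el_aff {x : G} {y : ZMod 5 → G} (E : Elem x y) {k k' : ZMod 5} (hk : k * k' = 1) (j : ZMod 5)
    (e : ZMod 5 → ZMod 2) (a : ZMod 2) (s : ZMod 5 → ZMod 2) :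
    el x (fun i => tw x (e i) * y (k * i + j)) a s
      = el x y (a + ∑ i, e i * s i) (fun m => s (k' * (m - j))) := by
  have hE : Elem x (fun i => tw x (e i) * y (k * i + j)) := by
    have hc : ∀ i (a : ZMod 2), tw x a * y i = y i * tw x a := by
      intro i a
      simpa using tw_comm (E.xy i) a 1
    refine ⟨E.xx, fun i => ?_, fun i => ?_, fun i j' => ?_⟩
    · show tw x (e i) * y (k * i + j) * (tw x (e i) * y (k * i + j)) = 1
      rw [mul4 (hc _ _).symm, tw_sq E.xx, E.yy, one_mul]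
    · show x * (tw x (e i) * y (k * i + j)) = tw x (e i) * y (k * i + j) * x
      have h1 : x * tw x (e i) = tw x (e i) * x := by
        simpa using tw_comm (rfl : x * x = x * x) 1 (e i)
      rw [← mul_assoc, h1, mul_assoc, E.xy, mul_assoc]
    · show tw x (e i) * y (k * i + j) * (tw x (e j') * y (k * j' + j)) =
        tw x (e j') * y (k * j' + j) * (tw x (e i) * y (k * i + j))
      rw [mul4 (hc _ _).symm, mul4 (hc _ _).symm, E.yc, ← tw_add E.xx, ← tw_add E.xx, add_comm (e i)]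
  refine ext_F (F := fun a s => el x (fun i => tw x (e i) * y (k * i + j)) a s)
    (F' := fun a s => el x y (a + ∑ i, e i * s i) (fun m => s (k' * (m - j))))
    (fun a b s t => hE.el_mul a b s t) (fun a b s t => ?_) ?_ ?_ (fun i => ?_) a s
  · show el x y _ _ * el x y _ _ = el x y _ _
    rw [E.el_mul]
    congr 1
    simp only [Pi.add_apply, mul_add, Finset.sum_add_distrib]
    ring
  · show el x _ 0 0 = el x y _ _
    simp only [Pi.zero_apply, mul_zero, Finset.sum_const_zero, add_zero, el_zero]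
    exact (el_zero x y).symm
  · show el x _ 1 0 = el x y _ _
    simp only [Pi.zero_apply, mul_zero, Finset.sum_const_zero, add_zero, el_x]
    exact (el_x x y).symm
  · show el x (fun i => tw x (e i) * y (k * i + j)) 0 (Pi.single i 1) = el x y _ _
    rw [el_single]
    have h1 : (fun m => (Pi.single i 1 : ZMod 5 → ZMod 2) (k' * (m - j))) = Pi.single (k * i + j) 1 := by
      funext m
      rw [Pi.single_apply, Pi.single_apply]
      congr 1
      apply propext
      constructor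
      · intro h
        rw [← h, ← mul_assoc, hk, one_mul, sub_add_cancel]
      · intro h
        rw [h, add_sub_cancel_right, ← mul_assoc, mul_comm k', hk, one_mul]
    rw [h1]
    have h2 : ∑ l, e l * (Pi.single i 1 : ZMod 5 → ZMod 2) l = e i := by
      simp [Pi.single_apply]
    rw [h2]
    have h3 : el x y (0 + e i) (Pi.single (k * i + j) 1) = el x y (e i) 0 * el x y 0 (Pi.single (k * i + j) 1) := by
      rw [E.el_mul]; simp
    rw [h3, el_tw, el_single]

theorem el_conj (g x : G) (y : ZMod 5 → G) (a : ZMod 2) (s : ZMod 5 → ZMod 2) :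
    g * el x y a s * g⁻¹ = el (g * x * g⁻¹) (fun i => g * y i * g⁻¹) a s := by
  unfold el
  rw [← tw_conj, ← tw_conj, ← tw_conj, ← tw_conj, ← tw_conj, ← tw_conj]
  group

/-- A frame at the point `x`. -/
structure Frame (z p x : G) (y : ZMod 5 → G) : Prop extends Elem x y where
  adj : ∀ w, Adj z p x w ↔ ∃ i, w = y i ∨ w = x * y i
  prod : el x y 0 1 = 1
  inj : ∀ a s, el x y a s = 1 → a = 0 ∧ (s = 0 ∨ s = 1)
  mem : ∀ u, u ∈ U z p x ↔ ∃ a s, u = el x y a s
  act : ∀ g, g * x = x * g → ∃ k j : ZMod 5, ∃ e : ZMod 5 → ZMod 2, k ≠ 0 ∧ ∑ i, e i = 0 ∧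
    ∀ i, g * y i * g⁻¹ = tw x (e i) * y (k * i + j)
  real : ∀ (k j : ZMod 5) (e : ZMod 5 → ZMod 2), k ≠ 0 → ∑ i, e i = 0 → ∃ g, g * x = x * g ∧
    ∀ i, g * y i * g⁻¹ = tw x (e i) * y (k * i + j)
  cent : ∀ g, g * x = x * g → (∀ i, g * y i = y i * g) → g ∈ U z p x

/-- the first part of the construction: five points on different lines permuted by `f` -/
structure Pre (z p : G) (f : G) (y : ZMod 5 → G) : Prop where
  fz : f * z = z * f
  shift : ∀ i, f * y i * f⁻¹ = y (i + 1)
  adj : ∀ i, Adj z p z (y i)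
  ne : y 0 ≠ y 1

namespace FinHyp

variable {z p : G}

theorem symm (h : FinHyp z p) {x w : G} (a : Adj z p x w) : Adj z p w x := by
  obtain ⟨g, h1, h2⟩ := a
  obtain ⟨r, h3, h4⟩ := h.swap
  refine ⟨g * r, ?_, ?_⟩
  · rw [← h2, ← h3]; group
  · have e : g * r * p * (g * r)⁻¹ = g * (r * p * r⁻¹) * g⁻¹ := by group
    rw [e, h4, h1]

theorem third (h : FinHyp z p) {x w : G} (a : Adj z p x w) : Adj z p x (x * w) := by
  obtain ⟨g, h1, h2⟩ := a
  obtain ⟨r, h3, h4⟩ := h.rot
  refine ⟨g * r, ?_, ?_⟩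
  · have e : g * r * z * (g * r)⁻¹ = g * (r * z * r⁻¹) * g⁻¹ := by group
    rw [e, h3, h1]
  · have e : g * r * p * (g * r)⁻¹ = g * (r * p * r⁻¹) * g⁻¹ := by group
    rw [e, h4, ← h1, ← h2]
    group

theorem adj_sq (h : FinHyp z p) {x w : G} (a : Adj z p x w) : x * x = 1 := by
  obtain ⟨g, h1, h2⟩ := a
  rw [← h1]
  have e : g * z * g⁻¹ * (g * z * g⁻¹) = g * (z * z) * g⁻¹ := by group
  rw [e, h.z_sq]
  group

theorem adj_comm (h : FinHyp z p) {x w : G} (a : Adj z p x w) : x * w = w * x := by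
  obtain ⟨g, h1, h2⟩ := a
  rw [← h1, ← h2]
  have e : g * z * g⁻¹ * (g * p * g⁻¹) = g * (z * p) * g⁻¹ := by group
  rw [e, h.zp]
  group

theorem adj_zp (_h : FinHyp z p) : Adj z p z p := ⟨1, by simp, by simp⟩

section pre

variable {f : G} {y : ZMod 5 → G}

theorem pre_pow (P : Pre z p f y) (n : ℕ) (i : ZMod 5) : f ^ n * y i * (f ^ n)⁻¹ = y (i + n) := by
  induction n generalizing i with
  | zero => simp
  | succ n ih =>
    have e : f ^ (n + 1) * y i * (f ^ (n + 1))⁻¹ = f ^ n * (f * y i * f⁻¹) * (f ^ n)⁻¹ := by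
      rw [pow_succ]; group
    rw [e, P.shift, ih]
    congr 1
    push_cast
    ring

theorem pre_pow_z (P : Pre z p f y) (n : ℕ) : f ^ n * z * (f ^ n)⁻¹ = z := by
  have h1 : Commute f z := P.fz
  have h2 := h1.pow_left n
  rw [h2.eq]
  group

omit [Group G] in
theorem const_of {y : ZMod 5 → G} (d : ZMod 5) (hd : d ≠ 0) (hy : ∀ i, y i = y (i + d)) : ∀ i, y i = y (i + 1) := by
  intro i
  have h1 : ∀ n : ℕ, ∀ i, y i = y (i + n * d) := by
    intro n
    induction n with
    | zero => intro i; simp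
    | succ n ih =>
      intro i
      rw [ih i, hy (i + n * d)]
      congr 1
      push_cast
      ring
  have h2 : ∀ d : ZMod 5, d ≠ 0 → ∃ n : ℕ, (n : ZMod 5) * d = 1 := by
    intro d hd
    have : Fact (Nat.Prime 5) := ⟨by norm_num⟩
    exact ⟨(d⁻¹).val, by rw [ZMod.natCast_zmod_val, inv_mul_cancel₀ hd]⟩
  obtain ⟨n, hn⟩ := h2 d hd
  rw [h1 n i, hn]

theorem pre_inj (P : Pre z p f y) {i j : ZMod 5} (hij : y i = y j) : i = j := by
  by_contra hne
  have h1 : ∀ k, y k = y (k + (j - i)) := by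
    intro k
    have h2 := pre_pow P (k - i).val i
    have h3 := pre_pow P (k - i).val j
    rw [ZMod.natCast_zmod_val] at h2 h3
    rw [hij, h3] at h2
    rw [show k + (j - i) = j + (k - i) by ring, h2]
    congr 1
    ring
  have h2 := const_of (j - i) (sub_ne_zero.mpr (Ne.symm hne)) h1 0
  exact P.ne (by simpa using h2)

theorem pre_ne (h : FinHyp z p) (P : Pre z p f y) {i j : ZMod 5} (hij : y i = z * y j) : False := by
  have h1 : ∀ k, y k = z * y (k + (j - i)) := by
    intro k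
    have h2 := pre_pow P (k - i).val i
    have h3 := pre_pow P (k - i).val j
    have h4 := pre_pow_z P (k - i).val
    rw [ZMod.natCast_zmod_val] at h2 h3
    have e : f ^ (k - i).val * (z * y j) * (f ^ (k - i).val)⁻¹ =
      (f ^ (k - i).val * z * (f ^ (k - i).val)⁻¹) * (f ^ (k - i).val * y j * (f ^ (k - i).val)⁻¹) := by group
    rw [hij, e, h3, h4] at h2
    rw [show k + (j - i) = j + (k - i) by ring, h2]
    congr 1
    ring
  by_cases hd : j - i = 0
  · have h2 := h1 0
    rw [hd, add_zero] at h2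
    exact h.z_ne (mul_eq_right.mp h2.symm)
  · have h2 : ∀ k, y k = y (k + (2 * (j - i))) := by
      intro k
      rw [h1 k, h1 (k + (j - i)), ← mul_assoc, h.z_sq, one_mul]
      congr 1
      ring
    have h3 := const_of (2 * (j - i)) (by
      intro h4
      have : ∀ d : ZMod 5, 2 * d = 0 → d = 0 := by decide
      exact hd (this _ h4)) h2 0
    exact P.ne (by simpa using h3)

theorem pre_adj_iff [Finite G] (h : FinHyp z p) (P : Pre z p f y) (w : G) :
    Adj z p z w ↔ ∃ i, w = y i ∨ w = z * y i := by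
  have hA : ∀ q : ZMod 5 × ZMod 2, Adj z p z (tw z q.2 * y q.1) := by
    rintro ⟨i, a⟩
    rcases zmod2 a with rfl | rfl
    · simpa using P.adj i
    · simpa using h.third (P.adj i)
  have hb : Function.Bijective
      (fun q : ZMod 5 × ZMod 2 => (⟨tw z q.2 * y q.1, hA q⟩ : {x // Adj z p z x})) := by
    rw [Nat.bijective_iff_injective_and_card]
    constructor
    · rintro ⟨i, a⟩ ⟨j, b⟩ hab
      have h1 : tw z a * y i = tw z b * y j := congrArg Subtype.val hab
      rcases zmod2 a with rfl | rfl <;> rcases zmod2 b with rfl | rfl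
      · simp only [tw_zero, one_mul] at h1
        rw [pre_inj P h1]
      · simp only [tw_zero, one_mul, tw_one] at h1
        exact (pre_ne h P h1).elim
      · simp only [tw_zero, one_mul, tw_one] at h1
        exact (pre_ne h P h1.symm).elim
      · simp only [tw_one] at h1
        rw [pre_inj P (mul_left_cancel h1)]
    · rw [h.cardA, Nat.card_prod, Nat.card_zmod, Nat.card_zmod]
  constructor
  · intro hw
    obtain ⟨⟨i, a⟩, hq⟩ := hb.2 ⟨w, hw⟩
    have h1 : tw z a * y i = w := congrArg Subtype.val hq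
    refine ⟨i, ?_⟩
    rcases zmod2 a with rfl | rfl
    · left; simpa using h1.symm
    · right; simpa using h1.symm
  · rintro ⟨i, rfl | rfl⟩
    · exact P.adj i
    · exact h.third (P.adj i)

theorem pre_elem (h : FinHyp z p) (P : Pre z p f y) : Elem z y :=
  ⟨h.z_sq, fun i => h.adj_sq (h.symm (P.adj i)), fun i => h.adj_comm (P.adj i),
    fun i j => h.comm _ _ (P.adj i) (P.adj j)⟩

theorem el_mem_U {y : ZMod 5 → G} {x : G} (hy : ∀ i, y i ∈ U z p x) (a : ZMod 2)
    (s : ZMod 5 → ZMod 2) : el x y a s ∈ U z p x := by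
  have h1 : ∀ {u : G} (a : ZMod 2), u ∈ U z p x → tw u a ∈ U z p x := by
    intro u a hu
    rcases zmod2 a with rfl | rfl
    · simp
    · simpa using hu
  unfold el
  exact mul_mem (h1 _ self_mem_U) (mul_mem (h1 _ (hy _)) (mul_mem (h1 _ (hy _)) (mul_mem (h1 _ (hy _))
    (mul_mem (h1 _ (hy _)) (h1 _ (hy _))))))

theorem pre_mem [Finite G] (h : FinHyp z p) (P : Pre z p f y) (u : G) :
    u ∈ U z p z ↔ ∃ a s, u = el z y a s := by
  have E := pre_elem h P
  constructor
  · intro hu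
    refine closure_induction (p := fun u _ => ∃ a s, u = el z y a s) ?_ ?_ ?_ ?_ hu
    · rintro u (rfl | hu)
      · exact ⟨1, 0, (el_x _ _).symm⟩
      · obtain ⟨i, hi | hi⟩ := (pre_adj_iff h P u).mp hu
        · exact ⟨0, Pi.single i 1, by rw [el_single, hi]⟩
        · refine ⟨1, Pi.single i 1, ?_⟩
          have h1 : el z y 1 (Pi.single i 1) = el z y 1 0 * el z y 0 (Pi.single i 1) := by
            rw [E.el_mul]; simp
          rw [h1, el_single, el_x, hi]
    · exact ⟨0, 0, (el_zero _ _).symm⟩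
    · rintro u v _ _ ⟨a, s, rfl⟩ ⟨b, t, rfl⟩
      exact ⟨a + b, s + t, E.el_mul _ _ _ _⟩
    · rintro u _ ⟨a, s, rfl⟩
      exact ⟨a, s, E.el_inv _ _⟩
  · rintro ⟨a, s, rfl⟩
    exact el_mem_U (fun i => mem_U_of_adj (P.adj i)) a s

theorem pre_conj (h : FinHyp z p) (P : Pre z p f y) (a : ZMod 2) (s : ZMod 5 → ZMod 2) :
    f * el z y a s * f⁻¹ = el z y a (fun m => s (m - 1)) := by
  rw [el_conj]
  have h1 : f * z * f⁻¹ = z := by rw [P.fz]; group
  have h2 : (fun i => f * y i * f⁻¹) = fun i => tw z ((0 : ZMod 5 → ZMod 2) i) * y (1 * i + 1) := by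
    funext i
    rw [P.shift]
    simp
  rw [h1, h2, el_aff (pre_elem h P) (k' := 1) (by decide)]
  simp

theorem pre_ker [Finite G] (h : FinHyp z p) (P : Pre z p f y) :
    ∃ a0 : ZMod 2, ∀ a s, el z y a s = 1 ↔ (a = 0 ∧ s = 0) ∨ (a = a0 ∧ s = 1) := by
  have E := pre_elem h P
  let φ : Multiplicative (ZMod 2 × (ZMod 5 → ZMod 2)) →* G :=
    { toFun := fun v => el z y v.toAdd.1 v.toAdd.2
      map_one' := el_zero _ _
      map_mul' := fun u v => (E.el_mul _ _ _ _).symm }
  have hφ : ∀ a s, φ (Multiplicative.ofAdd (a, s)) = el z y a s := fun a s => rfl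
  have hr : φ.range = U z p z := by
    ext u
    rw [pre_mem h P]
    constructor
    · rintro ⟨v, rfl⟩
      exact ⟨_, _, rfl⟩
    · rintro ⟨a, s, rfl⟩
      exact ⟨Multiplicative.ofAdd (a, s), rfl⟩
  have h1 : Nat.card φ.ker = 2 := by
    have h2 := Subgroup.card_mul_index φ.ker
    rw [Subgroup.index_ker, hr, h.cardU] at h2
    have h3 : Nat.card (Multiplicative (ZMod 2 × (ZMod 5 → ZMod 2))) = 64 := by
      rw [Nat.card_eq_fintype_card]
      simp
    rw [h3] at h2
    omega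
  obtain ⟨v, hv⟩ : ∃ v : φ.ker, v ≠ 1 := by
    by_contra hcon
    push Not at hcon
    have : Subsingleton φ.ker := ⟨fun a b => by rw [hcon a, hcon b]⟩
    rw [Nat.card_of_subsingleton (1 : φ.ker)] at h1
    omega
  have h4 : ∀ w : φ.ker, w = 1 ∨ w = v := by
    intro w
    by_contra hcon
    push Not at hcon
    have h5 : Finset.card ({1, v, w} : Finset φ.ker) = 3 := by
      rw [Finset.card_eq_three]
      exact ⟨1, v, w, hv.symm, hcon.1.symm, hcon.2.symm, rfl⟩
    have : Fintype φ.ker := Fintype.ofFinite _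
    have h6 := Finset.card_le_univ ({1, v, w} : Finset φ.ker)
    rw [← Nat.card_eq_fintype_card, h1, h5] at h6
    omega
  obtain ⟨a0, s0, hv0⟩ : ∃ a0 s0, (v : Multiplicative (ZMod 2 × (ZMod 5 → ZMod 2))) =
    Multiplicative.ofAdd (a0, s0) := ⟨_, _, rfl⟩
  have h5 : el z y a0 s0 = 1 := by
    rw [← hφ, ← hv0]
    exact v.2
  have h6 : ∀ a s, el z y a s = 1 → (a = 0 ∧ s = 0) ∨ (a = a0 ∧ s = s0) := by
    intro a s has
    rcases h4 ⟨Multiplicative.ofAdd (a, s), has⟩ with h7 | h7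
    · left
      have h8 : Multiplicative.ofAdd (a, s) = 1 := Subtype.ext_iff.mp h7
      exact Prod.mk.inj (Multiplicative.ofAdd.injective h8)
    · right
      have h8 : Multiplicative.ofAdd (a, s) = (v : Multiplicative (ZMod 2 × (ZMod 5 → ZMod 2))) :=
        Subtype.ext_iff.mp h7
      rw [hv0] at h8
      exact Prod.mk.inj (Multiplicative.ofAdd.injective h8)
  have h7 : ¬ (a0 = 0 ∧ s0 = 0) := by
    rintro ⟨rfl, rfl⟩
    exact hv (Subtype.ext (by rw [hv0]; rfl))
  have h8 : el z y a0 (fun m => s0 (m - 1)) = 1 := by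
    rw [← pre_conj h P, h5]
    group
  have h9 : (fun m => s0 (m - 1)) = s0 := by
    rcases h6 _ _ h8 with ⟨h9, h10⟩ | h9
    · exfalso
      refine h7 ⟨h9, ?_⟩
      funext m
      have := congrFun h10 (m + 1)
      simpa using this
    · exact h9.2
  have h10 : ∀ s : ZMod 5 → ZMod 2, (fun m => s (m - 1)) = s → s = 0 ∨ s = 1 := by decide
  rcases h10 s0 h9 with h11 | h11
  · exfalso
    subst h11
    rcases zmod2 a0 with rfl | rfl
    · exact h7 ⟨rfl, rfl⟩
    · rw [el_x] at h5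
      exact h.z_ne h5
  · subst h11
    refine ⟨a0, fun a s => ⟨h6 a s, ?_⟩⟩
    rintro (⟨rfl, rfl⟩ | ⟨rfl, rfl⟩)
    · exact el_zero _ _
    · exact h5

omit [Group G] in
theorem sum_one_aux :
    (0 : ZMod 2) + ∑ i : ZMod 5, (1 : ZMod 5 → ZMod 2) i * (1 : ZMod 5 → ZMod 2) i = 1 := by decide

omit [Group G] in
theorem val_succ_mod (i : ZMod 5) : (i.val + 1) % 5 = (i + 1).val := by revert i; decide

/-- the construction, second part: the product of the five points is 1 -/
theorem exists_pre [Finite G] (h : FinHyp z p) :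
    ∃ f y, Pre z p f y ∧ f ^ 5 = 1 ∧ el z y 0 1 = 1 := by
  have h5 : Fact (Nat.Prime 5) := ⟨by norm_num⟩
  obtain ⟨⟨f, hfz⟩, hf⟩ := exists_prime_orderOf_dvd_card' (G := centralizer ({z} : Set G)) 5
    (by rw [h.cardC]; norm_num)
  rw [Subgroup.orderOf_mk] at hf
  have hfz' : f * z = z * f := (mem_centralizer_singleton_iff.mp hfz)
  have hf5 : f ^ 5 = 1 := by rw [← hf]; exact pow_orderOf_eq_one f
  obtain ⟨y0, hy0, hy1⟩ : ∃ y0, Adj z p z y0 ∧ f * y0 * f⁻¹ ≠ y0 := by
    by_contra hcon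
    push Not at hcon
    have h1 : f ∈ U z p z := by
      apply h.cent
      intro u hu
      have h2 : f ∈ centralizer ((U z p z : Subgroup G) : Set G) := by
        rw [U, centralizer_closure, mem_centralizer_iff]
        rintro u (rfl | hu)
        · exact hfz'.symm
        · have := hcon u hu
          rw [mul_inv_eq_iff_eq_mul] at this
          exact this.symm
      exact ((mem_centralizer_iff.mp h2) u hu).symm
    have h2 : orderOf f ∣ Nat.card (U z p z) := by
      have := orderOf_dvd_natCard (⟨f, h1⟩ : U z p z)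
      rwa [Subgroup.orderOf_mk] at this
    rw [hf, h.cardU] at h2
    norm_num at h2
  have hfn : ∀ n : ℕ, f ^ n * z * (f ^ n)⁻¹ = z := by
    intro n
    have h1 : Commute f z := hfz'
    rw [(h1.pow_left n).eq]
    group
  have key : ∀ y0, Adj z p z y0 → f * y0 * f⁻¹ ≠ y0 →
      Pre z p f (fun i => f ^ i.val * y0 * (f ^ i.val)⁻¹) := by
    intro y0 hy0 hy1
    refine ⟨hfz', fun i => ?_, fun i => ?_, ?_⟩
    · have e : f * (f ^ i.val * y0 * (f ^ i.val)⁻¹) * f⁻¹ = f ^ (i.val + 1) * y0 * (f ^ (i.val + 1))⁻¹ := by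
        rw [pow_succ']; group
      have h2 : f ^ (i.val + 1) = f ^ (i + 1).val := by
        rw [← val_succ_mod, ← pow_mod_orderOf, hf]
      rw [e, h2]
    · have h2 := hy0.conj (f ^ i.val)
      rwa [hfn] at h2
    · intro h2
      apply hy1
      have h3 : (1 : ZMod 5).val = 1 := rfl
      simpa [h3] using h2.symm
  have hP := key y0 hy0 hy1
  obtain ⟨a0, ha0⟩ := pre_ker h hP
  rcases zmod2 a0 with rfl | rfl
  · exact ⟨f, _, hP, hf5, (ha0 0 1).mpr (Or.inr ⟨rfl, rfl⟩)⟩
  · have hzz : f * (z * y0) * f⁻¹ = z * (f * y0 * f⁻¹) := by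
      rw [← mul_assoc, hfz']; group
    have hQ := key (z * y0) (h.third hy0) (by
      rw [hzz]
      exact fun h2 => hy1 (mul_left_cancel h2))
    refine ⟨f, _, hQ, hf5, ?_⟩
    have E := pre_elem h hP
    have h2 := (ha0 1 1).mpr (Or.inr ⟨rfl, rfl⟩)
    have h3 : (fun i : ZMod 5 => f ^ i.val * (z * y0) * (f ^ i.val)⁻¹) =
        fun i => tw z ((1 : ZMod 5 → ZMod 2) i) * (fun i : ZMod 5 => f ^ i.val * y0 * (f ^ i.val)⁻¹) (1 * i + 0) := by
      funext i
      have h4 := hfn i.val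
      simp only [Pi.one_apply, tw_one, one_mul, add_zero]
      calc f ^ i.val * (z * y0) * (f ^ i.val)⁻¹
          = (f ^ i.val * z * (f ^ i.val)⁻¹) * (f ^ i.val * y0 * (f ^ i.val)⁻¹) := by group
        _ = _ := by rw [h4]
    rw [h3, el_aff E (k' := 1) (one_mul 1), sum_one_aux]
    exact h2

end pre

end FinHyp

end Cfsg.Agent.Classification.TitsFin
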