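import Mathlib
import Cfsg.Agent.Classification.TitsFin.Frame

/-!
# Existence of frames
-/

set_option autoImplicit false

namespace Cfsg.Agent.Classification.TitsFin

open Subgroup

theorem normal_five {C : Type*} [Group C] [Finite C] (hC : Nat.card C = 20) {f : C} (hf : f ^ 5 = 1)
    (hf1 : f ≠ 1) (g : C) : ∃ n : ℕ, g * f * g⁻¹ = f ^ n := by
  have h5 : Fact (Nat.Prime 5) := ⟨by norm_num⟩
  have ho : orderOf f = 5 := orderOf_eq_prime hf hf1
  have hp : IsPGroup 5 (zpowers f) := IsPGroup.of_card (n := 1) (by rw [Nat.card_zpowers, ho, pow_one])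
  obtain ⟨P, hP⟩ := hp.exists_le_sylow
  have hPc : Nat.card P = 5 := by
    rw [P.card_eq_multiplicity, hC]
    have : Nat.factorization 20 5 = 1 := by
      rw [show (20 : ℕ) = 5 * 4 by norm_num, Nat.factorization_mul (by norm_num) (by norm_num),
        Finsupp.add_apply, Nat.Prime.factorization_self (by norm_num),
        Nat.factorization_eq_zero_of_not_dvd (by norm_num)]
    rw [this, pow_one]
  have hPe : zpowers f = (P : Subgroup C) := by
    apply Subgroup.eq_of_le_of_card_ge hP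
    rw [Nat.card_zpowers, ho]
    exact hPc.le
  have hidx : (P : Subgroup C).index = 4 := by
    have := (P : Subgroup C).card_mul_index
    rw [show Nat.card (P : Subgroup C) = 5 from hPc, hC] at this
    omega
  have h1 := P.card_dvd_index
  have h2 := card_sylow_modEq_one 5 C
  rw [hidx] at h1
  have h3 : Nat.card (Sylow 5 C) = 1 := by
    have h4 := Nat.le_of_dvd (by norm_num) h1
    have h5 : Nat.card (Sylow 5 C) % 5 = 1 := h2
    interval_cases h : Nat.card (Sylow 5 C) <;> omega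
  have : Subsingleton (Sylow 5 C) := (Nat.card_eq_one_iff_unique.mp h3).1
  have hn : (P : Subgroup C).Normal := P.normal_of_subsingleton
  have h6 : g * f * g⁻¹ ∈ zpowers f := by
    rw [hPe]
    exact hn.conj_mem f (hPe ▸ mem_zpowers f) g
  rw [mem_zpowers_iff] at h6
  obtain ⟨k, hk⟩ := h6
  refine ⟨(k % 5).toNat, ?_⟩
  rw [← hk, ← zpow_natCast, Int.toNat_of_nonneg (Int.emod_nonneg k (by norm_num)), ← zpow_mod_orderOf, ho]
  rfl

namespace FinHyp

variable {G : Type*} [Group G] [Finite G] {z p f : G} {y : ZMod 5 → G}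

theorem pre_inQ (h : FinHyp z p) (P : Pre z p f y) (g : G) :
    InQ z p z g ↔ g * z = z * g ∧ ∀ i, g * y i * g⁻¹ = y i ∨ g * y i * g⁻¹ = z * y i := by
  constructor
  · rintro ⟨h1, h2⟩
    exact ⟨h1, fun i => h2 _ (P.adj i)⟩
  · rintro ⟨h1, h2⟩
    refine ⟨h1, fun w hw => ?_⟩
    obtain ⟨i, rfl | rfl⟩ := (pre_adj_iff h P w).mp hw
    · exact h2 i
    · have e : g * (z * y i) * g⁻¹ = z * (g * y i * g⁻¹) := by
        rw [← mul_assoc, h1]; group
      rcases h2 i with h3 | h3
      · left; rw [e, h3]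
      · right; rw [e, h3]

omit [Finite G] in
theorem tw_unique (h : FinHyp z p) (P : Pre z p f y) {i j : ZMod 5} {a b : ZMod 2}
    (h1 : tw z a * y i = tw z b * y j) : i = j ∧ a = b := by
  rcases zmod2 a with rfl | rfl <;> rcases zmod2 b with rfl | rfl
  · simp only [tw_zero, one_mul] at h1
    exact ⟨pre_inj P h1, rfl⟩
  · simp only [tw_zero, one_mul, tw_one] at h1
    exact (pre_ne h P h1).elim
  · simp only [tw_zero, one_mul, tw_one] at h1
    exact (pre_ne h P h1.symm).elim
  · simp only [tw_one] at h1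
    exact ⟨pre_inj P (mul_left_cancel h1), rfl⟩

theorem pre_conj_f (h : FinHyp z p) (P : Pre z p f y) {g : G} (hg : g * z = z * g) :
    ∃ n : ℕ, ∃ q, InQ z p z q ∧ g * f * g⁻¹ = f ^ n * q := by
  let C := centralizer ({z} : Set G)
  let K : Subgroup C :=
    { carrier := {g | InQ z p z (g : G)}
      one_mem' := ⟨by simp, fun w _ => Or.inl (by simp)⟩
      mul_mem' := by
        rintro ⟨a, ha⟩ ⟨b, hb⟩ h1 h2
        have ha' : a * z = z * a := mem_centralizer_singleton_iff.mp ha
        have h1' : InQ z p z a := h1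
        have h2' : InQ z p z b := h2
        refine ⟨?_, fun w hw => ?_⟩
        · show a * b * z = z * (a * b)
          rw [mul_assoc, h2'.1, ← mul_assoc, h1'.1, mul_assoc]
        · have e : (a * b) * w * (a * b)⁻¹ = a * (b * w * b⁻¹) * a⁻¹ := by group
          show (a * b) * w * (a * b)⁻¹ = w ∨ (a * b) * w * (a * b)⁻¹ = z * w
          rw [e]
          rcases h2'.2 w hw with h3 | h3
          · rw [h3]; exact h1'.2 w hw
          · rw [h3]
            have e2 : a * (z * w) * a⁻¹ = z * (a * w * a⁻¹) := by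
              rw [← mul_assoc, ha']; group
            rw [e2]
            rcases h1'.2 w hw with h4 | h4
            · right; rw [h4]
            · left; rw [h4, ← mul_assoc, h.z_sq, one_mul]
      inv_mem' := by
        rintro ⟨a, ha⟩ h1
        have ha' : a * z = z * a := mem_centralizer_singleton_iff.mp ha
        have h1' : InQ z p z a := h1
        have hai : a⁻¹ * z = z * a⁻¹ := by
          rw [inv_mul_eq_iff_eq_mul, ← mul_assoc, ha']; group
        refine ⟨hai, fun w hw => ?_⟩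
        show a⁻¹ * w * a⁻¹⁻¹ = w ∨ a⁻¹ * w * a⁻¹⁻¹ = z * w
        rcases h1'.2 w hw with h3 | h3
        · left
          nth_rewrite 1 [← h3]
          group
        · right
          have h4 : a⁻¹ * (a * w * a⁻¹) * a⁻¹⁻¹ = w := by group
          rw [h3] at h4
          have h5 : a⁻¹ * (z * w) * a⁻¹⁻¹ = z * (a⁻¹ * w * a⁻¹⁻¹) := by
            rw [← mul_assoc, hai]; group
          rw [h5] at h4
          have h6 : a⁻¹ * w * a⁻¹⁻¹ = z * (z * (a⁻¹ * w * a⁻¹⁻¹)) := by
            rw [← mul_assoc, h.z_sq, one_mul]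
          rw [h6, h4] }
  have hKmem : ∀ (a : G) (ha : a ∈ C), (⟨a, ha⟩ : C) ∈ K ↔ InQ z p z a := fun a ha => Iff.rfl
  have hKn : K.Normal := by
    refine ⟨?_⟩
    rintro ⟨a, ha⟩ h1 ⟨b, hb⟩
    have hb' : b * z = z * b := mem_centralizer_singleton_iff.mp hb
    have h2 : InQ z p (b * z * b⁻¹) (b * a * b⁻¹) := InQ.conj ((hKmem a ha).mp h1) b
    have h3 : b * z * b⁻¹ = z := by rw [hb']; group
    rw [h3] at h2
    exact h2
  have hKc : Nat.card K = 512 := by
    rw [← h.cardQ]
    refine Nat.card_congr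
      { toFun := fun k => ⟨k.1.1, k.2⟩
        invFun := fun g => ⟨⟨g.1, mem_centralizer_singleton_iff.mpr g.2.1⟩, g.2⟩
        left_inv := fun k => rfl
        right_inv := fun g => rfl }
  have hidx : Nat.card (C ⧸ K) = 20 := by
    have h1 := K.card_mul_index
    rw [hKc, h.cardC, Subgroup.index] at h1
    omega
  have hfC : f ∈ C := mem_centralizer_singleton_iff.mpr P.fz
  have hgC : g ∈ C := mem_centralizer_singleton_iff.mpr hg
  have hf5 : ((⟨f, hfC⟩ : C) : C ⧸ K) ^ 5 = 1 := by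
    rw [← QuotientGroup.mk_pow, QuotientGroup.eq_one_iff]
    show InQ z p z (f ^ 5)
    rw [pre_inQ h P]
    refine ⟨?_, fun i => ?_⟩
    · have h1 : Commute f z := P.fz
      exact (h1.pow_left 5).eq
    · left
      rw [pre_pow P]
      congr 1
      have : ((5 : ℕ) : ZMod 5) = 0 := by decide
      rw [this, add_zero]
  have hf1 : ((⟨f, hfC⟩ : C) : C ⧸ K) ≠ 1 := by
    rw [Ne, QuotientGroup.eq_one_iff]
    intro h1
    have h2 : InQ z p z f := h1
    rw [pre_inQ h P] at h2
    rcases h2.2 0 with h3 | h3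
    · rw [P.shift] at h3
      have := pre_inj P h3
      exact absurd this (by decide)
    · rw [P.shift] at h3
      exact pre_ne h P h3
  obtain ⟨n, hn⟩ := normal_five hidx hf5 hf1 ((⟨g, hgC⟩ : C) : C ⧸ K)
  have h2 : (((⟨f, hfC⟩ : C) ^ n)⁻¹ * ((⟨g, hgC⟩ : C) * ⟨f, hfC⟩ * (⟨g, hgC⟩ : C)⁻¹)) ∈ K := by
    rw [← QuotientGroup.eq_one_iff]
    simp only [QuotientGroup.mk_mul, QuotientGroup.mk_inv, QuotientGroup.mk_pow]
    rw [hn, inv_mul_cancel]
  exact ⟨n, (f ^ n)⁻¹ * (g * f * g⁻¹), h2, by group⟩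

theorem pre_act (h : FinHyp z p) (P : Pre z p f y) (hprod : el z y 0 1 = 1) {g : G} (hg : g * z = z * g) :
    ∃ k j : ZMod 5, ∃ e : ZMod 5 → ZMod 2, k ≠ 0 ∧ ∑ i, e i = 0 ∧
    ∀ i, g * y i * g⁻¹ = tw z (e i) * y (k * i + j) := by
  have hgz : g * z * g⁻¹ = z := by rw [hg]; group
  have h1 : ∀ i, ∃ m : ZMod 5, ∃ a : ZMod 2, g * y i * g⁻¹ = tw z a * y m := by
    intro i
    have h2 : Adj z p z (g * y i * g⁻¹) := by
      have := (P.adj i).conj g
      rwa [hgz] at this
    obtain ⟨m, hm | hm⟩ := (pre_adj_iff h P _).mp h2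
    · exact ⟨m, 0, by simpa using hm⟩
    · exact ⟨m, 1, by simpa using hm⟩
  choose σ e hσ using h1
  obtain ⟨n, q, hq, hn⟩ := pre_conj_f h P hg
  have h2 : ∀ i, σ (i + 1) = σ i + n := by
    intro i
    have e1 : g * y (i + 1) * g⁻¹ = (g * f * g⁻¹) * (g * y i * g⁻¹) * (g * f * g⁻¹)⁻¹ := by
      rw [← P.shift]; group
    rw [hσ, hσ, hn] at e1
    have e2 : f ^ n * q * (tw z (e i) * y (σ i)) * (f ^ n * q)⁻¹ =
        f ^ n * (q * tw z (e i) * q⁻¹ * (q * y (σ i) * q⁻¹)) * (f ^ n)⁻¹ := by group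
    have hqz : q * z * q⁻¹ = z := by rw [hq.1]; group
    have e3 : ∃ b : ZMod 2, q * y (σ i) * q⁻¹ = tw z b * y (σ i) := by
      rcases hq.2 _ (P.adj (σ i)) with h3 | h3
      · exact ⟨0, by simpa using h3⟩
      · exact ⟨1, by simpa using h3⟩
    obtain ⟨b, hb⟩ := e3
    have e6 : tw z (e i) * (tw z b * y (σ i)) = tw z (e i + b) * y (σ i) := by
      rw [← mul_assoc, ← tw_add h.z_sq]
    rw [e2, hb, tw_conj, hqz, e6] at e1
    have e4 : f ^ n * (tw z (e i + b) * y (σ i)) * (f ^ n)⁻¹ = tw z (e i + b) * y (σ i + n) := by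
      rw [← pre_pow P n (σ i)]
      have e5 := tw_conj (f ^ n) z (e i + b)
      rw [pre_pow_z P] at e5
      nth_rewrite 2 [← e5]
      group
    rw [e4] at e1
    exact (tw_unique h P e1).1
  have h3 : ∀ m : ℕ, σ m = n * m + σ 0 := by
    intro m
    induction m with
    | zero => simp
    | succ m ih =>
      push_cast
      rw [h2, ih]
      ring
  have h4 : ∀ i, σ i = n * i + σ 0 := by
    intro i
    have := h3 i.val
    rwa [ZMod.natCast_zmod_val] at this
  have hn0 : (n : ZMod 5) ≠ 0 := by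
    intro hn0
    have h5 : σ 1 = σ 0 := by rw [h4 1, hn0]; ring
    have h6 := hσ 1
    have h7 := hσ 0
    rw [h5] at h6
    have h8 : y 1 = tw z (e 1 + e 0) * y 0 := by
      have h9 : g * y 1 * g⁻¹ = g * (tw z (e 1 + e 0) * y 0) * g⁻¹ := by
        have e5 := tw_conj g z (e 1 + e 0)
        rw [hgz] at e5
        calc g * y 1 * g⁻¹ = tw z (e 1) * y (σ 0) := h6
          _ = tw z (e 1) * (tw z (e 0) * tw z (e 0) * y (σ 0)) := by rw [tw_sq h.z_sq, one_mul]
          _ = tw z (e 1) * tw z (e 0) * (tw z (e 0) * y (σ 0)) := by group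
          _ = tw z (e 1 + e 0) * (g * y 0 * g⁻¹) := by rw [tw_add h.z_sq, h7]
          _ = (g * tw z (e 1 + e 0) * g⁻¹) * (g * y 0 * g⁻¹) := by rw [e5]
          _ = _ := by group
      exact mul_left_cancel (mul_right_cancel h9)
    have h9 : tw z (0 : ZMod 2) * y 1 = tw z (e 1 + e 0) * y 0 := by simpa using h8
    exact absurd (tw_unique h P h9).1 (by decide)
  refine ⟨n, σ 0, e, hn0, ?_, fun i => by rw [hσ, h4]⟩
  obtain ⟨a0, ha0⟩ := pre_ker h P
  have ha : a0 = 0 := by
    rcases (ha0 0 1).mp hprod with h5 | h5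
    · exact absurd h5.2 (by decide)
    · exact h5.1.symm
  subst ha
  have hk : ∀ k : ZMod 5, k ≠ 0 → ∃ k', k * k' = 1 := by decide
  obtain ⟨k', hk'⟩ := hk _ hn0
  have h5 : g * el z y 0 1 * g⁻¹ = 1 := by rw [hprod]; group
  rw [el_conj, hgz] at h5
  have h6 : (fun i => g * y i * g⁻¹) = fun i => tw z (e i) * y (n * i + σ 0) := by
    funext i
    rw [hσ, h4]
  rw [h6, el_aff (pre_elem h P) hk'] at h5
  rcases (ha0 _ _).mp h5 with h7 | h7
  · exact absurd (congrFun h7.2 0) (by
      show ¬ ((1 : ZMod 2) = 0)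
      decide)
  · simpa using h7.1

theorem pre_cent (h : FinHyp z p) (P : Pre z p f y) {g : G} (hg : g * z = z * g)
    (hy : ∀ i, g * y i = y i * g) : g ∈ U z p z := by
  apply h.cent
  intro u hu
  obtain ⟨a, s, rfl⟩ := (pre_mem h P u).mp hu
  have h1 := el_conj g z y a s
  have h2 : g * z * g⁻¹ = z := by rw [hg]; group
  have h3 : (fun i => g * y i * g⁻¹) = y := by
    funext i
    rw [hy]; group
  rw [h2, h3, mul_inv_eq_iff_eq_mul] at h1
  exact h1

theorem card_T : Nat.card ({k : ZMod 5 // k ≠ 0} × ZMod 5 × {e : ZMod 5 → ZMod 2 // ∑ i, e i = 0}) = 320 := by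
  rw [Nat.card_prod, Nat.card_prod, Nat.card_eq_fintype_card, Nat.card_eq_fintype_card,
    Nat.card_eq_fintype_card]
  have h1 : Fintype.card {k : ZMod 5 // k ≠ 0} = 4 := by decide
  have h2 : Fintype.card {e : ZMod 5 → ZMod 2 // ∑ i, e i = 0} = 16 := by decide
  rw [h1, h2, ZMod.card]

theorem pre_real (h : FinHyp z p) (P : Pre z p f y) (hprod : el z y 0 1 = 1) (k j : ZMod 5)
    (e : ZMod 5 → ZMod 2) (hk : k ≠ 0) (he : ∑ i, e i = 0) : ∃ g, g * z = z * g ∧
    ∀ i, g * y i * g⁻¹ = tw z (e i) * y (k * i + j) := by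
  classical
  let C := centralizer ({z} : Set G)
  let T := {k : ZMod 5 // k ≠ 0} × ZMod 5 × {e : ZMod 5 → ZMod 2 // ∑ i, e i = 0}
  have h1 : ∀ c : C, ∃ t : T, ∀ i, (c : G) * y i * (c : G)⁻¹ = tw z (t.2.2.1 i) * y (t.1.1 * i + t.2.1) := by
    intro c
    obtain ⟨k, j, e, h1, h2, h3⟩ := pre_act h P hprod (mem_centralizer_singleton_iff.mp c.2)
    exact ⟨⟨⟨k, h1⟩, j, ⟨e, h2⟩⟩, h3⟩
  choose Ψ hΨ using h1
  have : Fintype C := Fintype.ofFinite C
  have h2 : (Finset.univ : Finset C).card ≤ 32 * (Finset.univ.image Ψ).card := by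
    refine Finset.card_le_mul_card_image _ _ fun t ht => ?_
    obtain ⟨c0, _, hc0⟩ := Finset.mem_image.mp ht
    have : Fintype (U z p z) := Fintype.ofFinite _
    have h3 : Fintype.card (U z p z) = 32 := by rw [← Nat.card_eq_fintype_card, h.cardU]
    rw [← h3, ← Finset.card_univ]
    have h4 : ∀ c : C, Ψ c = t → (c0 : G)⁻¹ * c ∈ U z p z := by
      intro c hc
      have c1 : (c0 : G) * z = z * c0 := mem_centralizer_singleton_iff.mp c0.2
      have c2 : (c : G) * z = z * c := mem_centralizer_singleton_iff.mp c.2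
      apply pre_cent h P
      · rw [mul_assoc, c2, ← mul_assoc, ← mul_assoc]
        congr 1
        rw [inv_mul_eq_iff_eq_mul, ← mul_assoc, c1]
        group
      · intro i
        have e1 := hΨ c0 i
        have e2 := hΨ c i
        rw [hc, ← hc0, ← e1] at e2
        have e3 : (c0 : G)⁻¹ * ((c : G) * y i * (c : G)⁻¹) * c = (c0 : G)⁻¹ * c * y i := by group
        rw [← e3, e2]
        group
    refine Finset.card_le_card_of_injOn
      (fun c => if hc : Ψ c = t then (⟨(c0 : G)⁻¹ * c, h4 c hc⟩ : U z p z) else 1) (fun c _ => Finset.mem_univ _) ?_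
    intro c hc d hd hcd
    have hc' : Ψ c = t := (Finset.mem_filter.mp hc).2
    have hd' : Ψ d = t := (Finset.mem_filter.mp hd).2
    simp only [dif_pos hc', dif_pos hd'] at hcd
    exact Subtype.ext (mul_left_cancel (Subtype.ext_iff.mp hcd))
  have h3 : (Finset.univ : Finset C).card = 10240 := by
    rw [Finset.card_univ, ← Nat.card_eq_fintype_card, h.cardC]
  have h4 : Fintype.card T = 320 := by rw [← Nat.card_eq_fintype_card, card_T]
  have h5 : Finset.univ.image Ψ = Finset.univ := by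
    rw [← Finset.card_eq_iff_eq_univ]
    have := Finset.card_le_univ (Finset.univ.image Ψ)
    omega
  have h6 : (⟨⟨k, hk⟩, j, ⟨e, he⟩⟩ : T) ∈ Finset.univ.image Ψ := by rw [h5]; exact Finset.mem_univ _
  obtain ⟨c, _, hc⟩ := Finset.mem_image.mp h6
  refine ⟨c, mem_centralizer_singleton_iff.mp c.2, fun i => ?_⟩
  rw [hΨ c i, hc]

theorem exists_frame_z (h : FinHyp z p) : ∃ y, Frame z p z y := by
  obtain ⟨f, y, P, _, hprod⟩ := exists_pre h
  obtain ⟨a0, ha0⟩ := pre_ker h P
  have ha : a0 = 0 := by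
    rcases (ha0 0 1).mp hprod with h5 | h5
    · exact absurd h5.2 (by decide)
    · exact h5.1.symm
  subst ha
  exact ⟨y, { toElem := pre_elem h P
              adj := pre_adj_iff h P
              prod := hprod
              inj := fun a s has => by
                rcases (ha0 a s).mp has with h5 | h5
                · exact ⟨h5.1, Or.inl h5.2⟩
                · exact ⟨h5.1, Or.inr h5.2⟩
              mem := pre_mem h P
              act := fun g hg => pre_act h P hprod hg
              real := fun k j e hk he => pre_real h P hprod k j e hk he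
              cent := fun g hg hy => pre_cent h P hg hy }⟩

end FinHyp

/-- frames are conjugation invariant -/
theorem Frame.conj {G : Type*} [Group G] {z p x : G} {y : ZMod 5 → G} (F : Frame z p x y) (g : G) :
    Frame z p (g * x * g⁻¹) (fun i => g * y i * g⁻¹) := by
  have hm : ∀ u v : G, g * u * g⁻¹ * (g * v * g⁻¹) = g * (u * v) * g⁻¹ := fun u v => by group
  have hc : ∀ k : G, k * (g * x * g⁻¹) = (g * x * g⁻¹) * k → (g⁻¹ * k * g) * x = x * (g⁻¹ * k * g) := by
    intro k hk
    calc (g⁻¹ * k * g) * x = g⁻¹ * (k * (g * x * g⁻¹)) * g := by group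
      _ = g⁻¹ * ((g * x * g⁻¹) * k) * g := by rw [hk]
      _ = _ := by group
  refine { toElem := ⟨?_, fun i => ?_, fun i => ?_, fun i j => ?_⟩, adj := fun w => ?_, prod := ?_,
           inj := fun a s has => ?_, mem := fun u => ?_, act := fun k hk => ?_,
           real := fun k j e hk he => ?_, cent := fun k hk hy => ?_ }
  · rw [hm, F.xx]; group
  · rw [hm, F.yy]; group
  · rw [hm, hm, F.xy]
  · rw [hm, hm, F.yc]
  · rw [← adj_iff_of_conj (g := g⁻¹) (x' := x) (y' := g⁻¹ * w * g) (by group) (by group), F.adj]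
    constructor
    · rintro ⟨i, hi | hi⟩
      · exact ⟨i, Or.inl (by rw [← hi]; group)⟩
      · refine ⟨i, Or.inr ?_⟩
        rw [hm, ← hi]; group
    · rintro ⟨i, hi | hi⟩
      · exact ⟨i, Or.inl (by rw [hi]; group)⟩
      · refine ⟨i, Or.inr ?_⟩
        rw [hi, hm]; group
  · rw [← el_conj, F.prod]; group
  · rw [← el_conj] at has
    apply F.inj
    have h1 := congrArg (fun v => g⁻¹ * v * g) has
    simpa [mul_assoc] using h1
  · have h1 : u = g * (g⁻¹ * u * g) * g⁻¹ := by group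
    rw [h1, conj_mem_U, F.mem]
    constructor
    · rintro ⟨a, s, h2⟩
      exact ⟨a, s, by rw [h2, el_conj]⟩
    · rintro ⟨a, s, h2⟩
      refine ⟨a, s, ?_⟩
      rw [← el_conj] at h2
      exact mul_left_cancel (mul_right_cancel h2)
  · obtain ⟨k', j, e, h1, h2, h3⟩ := F.act _ (hc k hk)
    refine ⟨k', j, e, h1, h2, fun i => ?_⟩
    rw [← tw_conj, hm, ← h3]
    group
  · obtain ⟨k', h1, h2⟩ := F.real k j e hk he
    refine ⟨g * k' * g⁻¹, by rw [hm, hm, h1], fun i => ?_⟩
    have e1 : g * k' * g⁻¹ * (g * y i * g⁻¹) * (g * k' * g⁻¹)⁻¹ = g * (k' * y i * k'⁻¹) * g⁻¹ := by group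
    rw [e1, h2, ← tw_conj, hm]
  · have h1 := F.cent (g⁻¹ * k * g) (hc k hk) (fun i => by
      calc (g⁻¹ * k * g) * y i = g⁻¹ * (k * (g * y i * g⁻¹)) * g := by group
        _ = g⁻¹ * ((g * y i * g⁻¹) * k) * g := by rw [hy]
        _ = _ := by group)
    have h2 : k = g * (g⁻¹ * k * g) * g⁻¹ := by group
    rw [h2, conj_mem_U]
    exact h1

end Cfsg.Agent.Classification.TitsFin
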