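import Mathlib
import Cfsg.Agent.Classification.TitsFin.FrameAct

/-!
# Local structure: the points `x` and `w` of a line
-/

set_option autoImplicit false

namespace Cfsg.Agent.Classification.TitsFin

open Subgroup

variable {G : Type*} [Group G]

/-- `x` is a point -/
def IsPt (z x : G) : Prop := ∃ g : G, g * z * g⁻¹ = x

/-- `v ∈ E_l - V_l` for the line `l = {x, w, xw}` -/
def TL (z p v x w : G) : Prop :=
  Adj z p x w ∧ v ∈ U z p x ∧ v ∈ U z p w ∧ v ≠ 1 ∧ v ≠ x ∧ v ≠ w ∧ v ≠ x * w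

theorem IsPt.conj {z x : G} (h : IsPt z x) (g : G) : IsPt z (g * x * g⁻¹) := by
  obtain ⟨k, hk⟩ := h
  exact ⟨g * k, by rw [← hk]; group⟩

/-! ### Coordinates -/

/-- symmetric about `m` -/
def Sy (m : ZMod 5) (s : ZMod 5 → ZMod 2) : Prop := ∀ i, s (2 * m - i) = s i

/-- orthogonal to `m` -/
def Fs (m : ZMod 5) (s : ZMod 5 → ZMod 2) : ZMod 2 := s (m + 1) + s (m + 2) + s (m + 3) + s (m + 4)

instance (m : ZMod 5) (s : ZMod 5 → ZMod 2) : Decidable (Sy m s) := by unfold Sy; infer_instance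

namespace Frame

variable {z p x : G} {y : ZMod 5 → G}

theorem el_inj (F : Frame z p x y) {a b : ZMod 2} {s t : ZMod 5 → ZMod 2}
    (h : el x y a s = el x y b t) : a = b ∧ (s = t ∨ s = t + 1) := by
  have h1 : el x y (a + b) (s + t) = 1 := by
    rw [← F.el_mul, h, F.el_sq]
  obtain ⟨h2, h3⟩ := F.inj _ _ h1
  have e1 : ∀ a b : ZMod 2, a + b = 0 → a = b := by decide
  have e2 : ∀ s t : ZMod 5 → ZMod 2, s + t = 0 → s = t := fun s t h => by
    funext i
    exact e1 _ _ (congrFun h i)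
  refine ⟨e1 _ _ h2, ?_⟩
  rcases h3 with h3 | h3
  · exact Or.inl (e2 _ _ h3)
  · right
    funext i
    have := congrFun h3 i
    have e3 : ∀ a b : ZMod 2, a + b = 1 → a = b + 1 := by decide
    exact e3 _ _ this

theorem el_add_one (F : Frame z p x y) (a : ZMod 2) (s : ZMod 5 → ZMod 2) :
    el x y a (s + 1) = el x y a s := by
  have h := F.el_mul a 0 s 1
  rw [F.prod, mul_one, add_zero] at h
  exact h.symm

theorem comm_U (F : Frame z p x y) {u v : G} (hu : u ∈ U z p x) (hv : v ∈ U z p x) : u * v = v * u := by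
  obtain ⟨a, s, rfl⟩ := (F.mem u).mp hu
  obtain ⟨b, t, rfl⟩ := (F.mem v).mp hv
  exact F.el_comm a b s t

theorem sq_U (F : Frame z p x y) {u : G} (hu : u ∈ U z p x) : u * u = 1 := by
  obtain ⟨a, s, rfl⟩ := (F.mem u).mp hu
  exact F.el_sq a s

theorem tw_y (F : Frame z p x y) (a : ZMod 2) (i : ZMod 5) :
    tw x a * y i = el x y a (Pi.single i 1) := by
  have h := F.el_mul a 0 0 (Pi.single i 1)
  rw [el_tw, el_single, add_zero, zero_add] at h
  exact h

theorem tw_unique (F : Frame z p x y) {i j : ZMod 5} {a b : ZMod 2}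
    (h : tw x a * y i = tw x b * y j) : i = j ∧ a = b := by
  rw [F.tw_y, F.tw_y] at h
  obtain ⟨h1, h2⟩ := F.el_inj h
  refine ⟨?_, h1⟩
  have e : ∀ i j : ZMod 5, ((Pi.single i 1 : ZMod 5 → ZMod 2) = Pi.single j 1 ∨
    (Pi.single i 1 : ZMod 5 → ZMod 2) = Pi.single j 1 + 1) → i = j := by decide
  exact e i j h2

theorem adj_y (F : Frame z p x y) (i : ZMod 5) : Adj z p x (y i) := (F.adj _).mpr ⟨i, Or.inl rfl⟩

theorem adj_tw (F : Frame z p x y) (a : ZMod 2) (i : ZMod 5) : Adj z p x (tw x a * y i) := by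
  rcases zmod2 a with rfl | rfl
  · simpa using F.adj_y i
  · exact (F.adj _).mpr ⟨i, Or.inr (by simp)⟩

theorem adj_iff (F : Frame z p x y) {w : G} : Adj z p x w ↔ ∃ a i, w = tw x a * y i := by
  constructor
  · intro h
    obtain ⟨i, hi | hi⟩ := (F.adj w).mp h
    · exact ⟨0, i, by simpa using hi⟩
    · exact ⟨1, i, by simpa using hi⟩
  · rintro ⟨a, i, rfl⟩
    exact F.adj_tw a i

theorem el_mem (F : Frame z p x y) (a : ZMod 2) (s : ZMod 5 → ZMod 2) : el x y a s ∈ U z p x :=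
  (F.mem _).mpr ⟨a, s, rfl⟩

/-- twisting a frame -/
theorem twist (F : Frame z p x y) {k : ZMod 5} (hk : k ≠ 0) (j : ZMod 5) {e : ZMod 5 → ZMod 2}
    (he : ∑ i, e i = 0) : Frame z p x (fun i => tw x (e i) * y (k * i + j)) := by
  obtain ⟨g, h1, h2⟩ := F.real k j e hk he
  have h3 := F.conj g
  have h4 : g * x * g⁻¹ = x := by rw [h1]; group
  have h5 : (fun i => g * y i * g⁻¹) = fun i => tw x (e i) * y (k * i + j) := funext h2
  rwa [h4, h5] at h3

/-- a frame with two given neighbours -/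
theorem exists_two (F : Frame z p x y) {w v : G} (hw : Adj z p x w) (hv : Adj z p x v) (h1 : v ≠ w)
    (h2 : v ≠ x * w) : ∃ y', Frame z p x y' ∧ y' 0 = w ∧ y' 1 = v := by
  obtain ⟨a, i, rfl⟩ := F.adj_iff.mp hw
  obtain ⟨b, j, rfl⟩ := F.adj_iff.mp hv
  have hij : j ≠ i := by
    rintro rfl
    rcases zmod2 a with rfl | rfl <;> rcases zmod2 b with rfl | rfl
    · exact h1 rfl
    · exact h2 (by simp)
    · exact h2 (by rw [tw_one, tw_zero, ← mul_assoc, F.xx])
    · exact h1 rfl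
  let e : ZMod 5 → ZMod 2 := ![a, b, a + b, 0, 0]
  have he : ∑ i, e i = 0 := by
    have : ∀ a b : ZMod 2, ∑ i : ZMod 5, (![a, b, a + b, 0, 0] : ZMod 5 → ZMod 2) i = 0 := by decide
    exact this a b
  refine ⟨_, F.twist (k := j - i) (sub_ne_zero.mpr hij) i he, ?_, ?_⟩
  · show tw x (e 0) * y ((j - i) * 0 + i) = _
    rw [mul_zero, zero_add]
    rfl
  · show tw x (e 1) * y ((j - i) * 1 + i) = _
    rw [mul_one, sub_add_cancel]
    rfl

theorem exists_one (F : Frame z p x y) {w : G} (hw : Adj z p x w) : ∃ y', Frame z p x y' ∧ y' 0 = w := by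
  obtain ⟨a, i, rfl⟩ := F.adj_iff.mp hw
  obtain ⟨y', h1, h2, _⟩ := F.exists_two (F.adj_tw a i) (F.adj_tw 0 (i + 1)) (by
    intro h
    have := (F.tw_unique h).1
    revert this
    have e : ∀ i : ZMod 5, i + 1 = i → False := by decide
    exact e i) (by
    intro h
    have h3 : tw x 0 * y (i + 1) = tw x (1 + a) * y i := by
      rw [h, tw_add F.xx, tw_one, mul_assoc]
    have := (F.tw_unique h3).1
    revert this
    have e : ∀ i : ZMod 5, i + 1 = i → False := by decide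
    exact e i)
  exact ⟨y', h1, h2⟩

theorem inQ_iff (F : Frame z p x y) {g : G} : InQ z p x g ↔
    g * x = x * g ∧ ∃ e : ZMod 5 → ZMod 2, ∑ i, e i = 0 ∧ ∀ i, g * y i * g⁻¹ = tw x (e i) * y i := by
  constructor
  · rintro ⟨h1, h2⟩
    refine ⟨h1, ?_⟩
    obtain ⟨k, j, e, hk, he, hy⟩ := F.act g h1
    have h3 : ∀ i, k * i + j = i := by
      intro i
      rcases h2 _ (F.adj_y i) with h4 | h4
      · have h5 : tw x (e i) * y (k * i + j) = tw x 0 * y i := by rw [← hy, h4, tw_zero, one_mul]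
        exact (F.tw_unique h5).1
      · have h5 : tw x (e i) * y (k * i + j) = tw x 1 * y i := by rw [← hy, h4, tw_one]
        exact (F.tw_unique h5).1
    exact ⟨e, he, fun i => by rw [hy, h3]⟩
  · rintro ⟨h1, e, he, hy⟩
    refine ⟨h1, fun w hw => ?_⟩
    obtain ⟨a, i, rfl⟩ := F.adj_iff.mp hw
    have h2 : g * x * g⁻¹ = x := by rw [h1]; group
    have h3 : g * (tw x a * y i) * g⁻¹ = tw x (e i) * (tw x a * y i) := by
      calc g * (tw x a * y i) * g⁻¹ = (g * tw x a * g⁻¹) * (g * y i * g⁻¹) := by group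
        _ = tw x a * (tw x (e i) * y i) := by rw [tw_conj, h2, hy]
        _ = _ := by rw [← mul_assoc, ← mul_assoc, ← tw_add F.xx, ← tw_add F.xx, add_comm]
    rcases zmod2 (e i) with h4 | h4
    · left; rw [h3, h4]; simp
    · right; rw [h3, h4]; simp

/-- an element of `Q_x` acts on `U_x` as a transvection with centre `x` -/
theorem inQ_act (F : Frame z p x y) {g u : G} (hg : InQ z p x g) (hu : u ∈ U z p x) :
    g * u * g⁻¹ = u ∨ g * u * g⁻¹ = x * u := by
  obtain ⟨h1, e, he, hy⟩ := F.inQ_iff.mp hg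
  obtain ⟨a, s, rfl⟩ := (F.mem u).mp hu
  have h2 : g * x * g⁻¹ = x := by rw [h1]; group
  have h3 : (fun i => g * y i * g⁻¹) = fun i => tw x (e i) * y (1 * i + 0) := by
    funext i
    rw [hy]
    simp
  rw [el_conj, h2, h3, el_aff F.toElem (mul_one 1)]
  have h4 : (fun m => s (1 * (m - 0))) = s := by funext m; simp
  rw [h4]
  rcases zmod2 (∑ i, e i * s i) with h5 | h5
  · left; rw [h5, add_zero]
  · right
    rw [h5, add_comm]
    have := F.el_mul 1 a 0 s
    rw [el_x, zero_add] at this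
    exact this.symm

theorem inQ_of_mem (F : Frame z p x y) {u : G} (hu : u ∈ U z p x) : InQ z p x u := by
  refine ⟨F.comm_U hu self_mem_U, fun w hw => Or.inl ?_⟩
  rw [F.comm_U hu (mem_U_of_adj hw)]
  group

theorem inQ_mul (F : Frame z p x y) {g k : G} (hg : InQ z p x g) (hk : InQ z p x k) :
    InQ z p x (g * k) := by
  obtain ⟨h1, e, he, hy⟩ := F.inQ_iff.mp hg
  obtain ⟨h2, e', he', hy'⟩ := F.inQ_iff.mp hk
  have hgx : g * x * g⁻¹ = x := by rw [h1]; group
  refine F.inQ_iff.mpr ⟨by rw [mul_assoc, h2, ← mul_assoc, h1, mul_assoc], e + e', ?_, fun i => ?_⟩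
  · simp only [Pi.add_apply, Finset.sum_add_distrib, he, he', add_zero]
  · calc g * k * y i * (g * k)⁻¹ = g * (k * y i * k⁻¹) * g⁻¹ := by group
      _ = (g * tw x (e' i) * g⁻¹) * (g * y i * g⁻¹) := by rw [hy']; group
      _ = tw x (e' i) * (tw x (e i) * y i) := by rw [tw_conj, hgx, hy]
      _ = _ := by rw [← mul_assoc, ← tw_add F.xx, Pi.add_apply, add_comm]

end Frame

/-! ### Two collinear points -/

namespace FinHyp

variable [Finite G] {z p x w y f g u v : G}

omit [Finite G] in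
theorem isPt_left (_h : FinHyp z p) (a : Adj z p x w) : IsPt z x := by
  obtain ⟨g, h1, _⟩ := a
  exact ⟨g, h1⟩

omit [Finite G] in
theorem isPt_right (h : FinHyp z p) (a : Adj z p x w) : IsPt z w := h.isPt_left (h.symm a)

theorem exists_frame (h : FinHyp z p) (hx : IsPt z x) : ∃ y, Frame z p x y := by
  obtain ⟨g, rfl⟩ := hx
  obtain ⟨y, hy⟩ := h.exists_frame_z
  exact ⟨_, hy.conj g⟩

theorem exists_frame_adj (h : FinHyp z p) (a : Adj z p x w) : ∃ y, Frame z p x y ∧ y 0 = w := by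
  obtain ⟨y, hy⟩ := h.exists_frame (h.isPt_left a)
  exact hy.exists_one a

theorem U_comm (h : FinHyp z p) (hx : IsPt z x) (hu : u ∈ U z p x) (hv : v ∈ U z p x) : u * v = v * u := by
  obtain ⟨y, hy⟩ := h.exists_frame hx
  exact hy.comm_U hu hv

theorem U_sq (h : FinHyp z p) (hx : IsPt z x) (hu : u ∈ U z p x) : u * u = 1 := by
  obtain ⟨y, hy⟩ := h.exists_frame hx
  exact hy.sq_U hu

theorem sq (h : FinHyp z p) (hx : IsPt z x) : x * x = 1 := h.U_sq hx self_mem_U

omit [Finite G] in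
theorem ne_one (h : FinHyp z p) (hx : IsPt z x) : x ≠ 1 := by
  obtain ⟨g, rfl⟩ := hx
  intro h1
  apply h.z_ne
  have h2 : z = g⁻¹ * (g * z * g⁻¹) * g := by group
  rw [h2, h1]; group

omit [Finite G] in
theorem ne (h : FinHyp z p) (a : Adj z p x w) : w ≠ x := by
  obtain ⟨g, h1, h2⟩ := a
  intro h3
  apply h.p_ne
  rw [← h1, ← h2] at h3
  exact mul_left_cancel (mul_right_cancel h3)

theorem cent_U (h : FinHyp z p) (hx : IsPt z x) (hg : ∀ u ∈ U z p x, g * u = u * g) : g ∈ U z p x := by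
  obtain ⟨y, hy⟩ := h.exists_frame hx
  exact hy.cent g (hg x self_mem_U) (fun i => hg _ (mem_U_of_adj (hy.adj_y i)))

omit [Finite G] in
theorem card_cent (h : FinHyp z p) (hx : IsPt z x) : Nat.card (centralizer ({x} : Set G)) = 10240 := by
  obtain ⟨g, rfl⟩ := hx
  rw [← h.cardC]
  have h1 : (centralizer ({z} : Set G)).map (MulAut.conj g).toMonoidHom =
      centralizer ({g * z * g⁻¹} : Set G) := by
    ext k
    rw [mem_centralizer_singleton_iff]
    constructor
    · rintro ⟨c, hc, rfl⟩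
      have hc' : c * z = z * c := mem_centralizer_singleton_iff.mp hc
      show g * c * g⁻¹ * (g * z * g⁻¹) = g * z * g⁻¹ * (g * c * g⁻¹)
      calc g * c * g⁻¹ * (g * z * g⁻¹) = g * (c * z) * g⁻¹ := by group
        _ = g * (z * c) * g⁻¹ := by rw [hc']
        _ = _ := by group
    · intro hk
      refine ⟨g⁻¹ * k * g, ?_, ?_⟩
      · show g⁻¹ * k * g ∈ centralizer ({z} : Set G)
        rw [mem_centralizer_singleton_iff]
        calc g⁻¹ * k * g * z = g⁻¹ * (k * (g * z * g⁻¹)) * g := by group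
          _ = g⁻¹ * ((g * z * g⁻¹) * k) * g := by rw [hk]
          _ = _ := by group
      · show g * (g⁻¹ * k * g) * g⁻¹ = k
        group
  rw [← h1]
  exact (Nat.card_congr ((centralizer ({z} : Set G)).equivMapOfInjective _
    (MulAut.conj g).injective).toEquiv).symm

theorem inQ_of_mem (h : FinHyp z p) (hx : IsPt z x) (hu : u ∈ U z p x) : InQ z p x u := by
  obtain ⟨y, hy⟩ := h.exists_frame hx
  exact hy.inQ_of_mem hu

theorem inQ_act (h : FinHyp z p) (hx : IsPt z x) (hg : InQ z p x g) (hu : u ∈ U z p x) :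
    g * u * g⁻¹ = u ∨ g * u * g⁻¹ = x * u := by
  obtain ⟨y, hy⟩ := h.exists_frame hx
  exact hy.inQ_act hg hu

theorem inQ_mul' (h : FinHyp z p) (hx : IsPt z x) (hg : InQ z p x g) (hk : InQ z p x u) :
    InQ z p x (g * u) := by
  obtain ⟨y, hy⟩ := h.exists_frame hx
  exact hy.inQ_mul hg hk

theorem F_comm (h : FinHyp z p) (a : Adj z p x w) (hu : u ∈ U z p x) (hu1 : InQ z p w u)
    (hv : v ∈ U z p w) (hv1 : InQ z p x v) : u * v = v * u := by
  have h1 := h.inQ_act (h.isPt_left a) hv1 hu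
  have h2 := h.inQ_act (h.isPt_right a) hu1 hv
  rcases h2 with h2 | h2
  · rw [mul_inv_eq_iff_eq_mul] at h2
    exact h2
  rcases h1 with h1 | h1
  · rw [mul_inv_eq_iff_eq_mul] at h1
    exact h1.symm
  · exfalso
    have hu2 := h.U_sq (h.isPt_left a) hu
    have hv2 := h.U_sq (h.isPt_right a) hv
    have hui : u⁻¹ = u := inv_eq_of_mul_eq_one_left hu2
    have hvi : v⁻¹ = v := inv_eq_of_mul_eq_one_left hv2
    rw [hui] at h2
    rw [hvi] at h1
    -- u v u = w v, v u v = x u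
    have h3 : w = u * v * u * v := by rw [h2, mul_assoc, hv2, mul_one]
    have h4 : x = v * u * v * u := by rw [h1, mul_assoc, hu2, mul_one]
    have h5 : w * x = 1 := by
      rw [h3, h4]
      calc u * v * u * v * (v * u * v * u) = u * v * (u * (v * v) * u) * v * u := by group
        _ = u * v * (u * u) * v * u := by rw [hv2, mul_one]
        _ = u * (v * v) * u := by rw [hu2]; group
        _ = 1 := by rw [hv2, mul_one, hu2]
    have h6 := h.sq (h.isPt_left a)
    exact h.ne a (mul_right_cancel (h5.trans h6.symm))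

/-- some element of `U_x` moves lines on `w` -/
theorem exists_not_inQ (h : FinHyp z p) (a : Adj z p x w) : ∃ u ∈ U z p x, ¬ InQ z p w u := by
  by_contra hcon
  push Not at hcon
  have key : ∀ x' w', Adj z p x' w' → ∀ u ∈ U z p x', InQ z p w' u := by
    intro x' w' a' u hu
    obtain ⟨g, h1, h2⟩ := a
    obtain ⟨k, h3, h4⟩ := a'
    have h5 : (k * g⁻¹) * x * (k * g⁻¹)⁻¹ = x' := by rw [← h1, ← h3]; group
    have h6 : (k * g⁻¹) * w * (k * g⁻¹)⁻¹ = w' := by rw [← h2, ← h4]; group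
    have h7 : u = (k * g⁻¹) * ((k * g⁻¹)⁻¹ * u * (k * g⁻¹)) * (k * g⁻¹)⁻¹ := by group
    rw [h7, ← h6, inQ_conj_iff]
    apply hcon
    rw [h7, ← h5, conj_mem_U] at hu
    exact hu
  obtain ⟨x0, y0, hx0, hy0, hne⟩ := h.ncomm
  exact hne (h.F_comm h.adj_zp (mem_U_of_adj hx0) (key z p h.adj_zp _ (mem_U_of_adj hx0))
    (mem_U_of_adj hy0) (key p z (h.symm h.adj_zp) _ (mem_U_of_adj hy0)))

/-- an element `u` of `U_x` acts on a frame at `w` in one of two ways -/
theorem act_cases (h : FinHyp z p) (a : Adj z p x w) (hu : u ∈ U z p x) {y' : ZMod 5 → G}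
    (F' : Frame z p w y') (h0 : y' 0 = x) : ∃ e : ZMod 5 → ZMod 2, e 0 = 0 ∧
      ((InQ z p w u ∧ ∑ i, e i = 0 ∧ ∀ i, u * y' i * u⁻¹ = tw w (e i) * y' i) ∨
      (¬ InQ z p w u ∧ (∀ i, e (-i) = e i) ∧ ∀ i, u * y' i * u⁻¹ = tw w (e i) * y' (-i))) := by
  have hux : u * x * u⁻¹ = x := by
    rw [h.U_comm (h.isPt_left a) hu self_mem_U]; group
  have huw : u * w = w * u := h.U_comm (h.isPt_left a) hu (mem_U_of_adj a)
  have huw' : u * w * u⁻¹ = w := by rw [huw]; group
  have hu2 := h.U_sq (h.isPt_left a) hu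
  obtain ⟨k, j, e, hk, he, hy⟩ := F'.act u huw
  have h1 : tw w (e 0) * y' (k * 0 + j) = tw w 0 * y' 0 := by
    rw [← hy, h0, hux, tw_zero, one_mul]
  obtain ⟨h2, h3⟩ := F'.tw_unique h1
  have hj : j = 0 := by simpa using h2
  subst hj
  simp only [add_zero] at hy
  have h4 : ∀ i, tw w (e i + e (k * i)) * y' (k * (k * i)) = tw w 0 * y' i := by
    intro i
    have h5 : u * (u * y' i * u⁻¹) * u⁻¹ = y' i := by
      calc u * (u * y' i * u⁻¹) * u⁻¹ = (u * u) * y' i * (u * u)⁻¹ := by group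
        _ = y' i := by rw [hu2]; group
    have h6 : u * (tw w (e i) * y' (k * i)) * u⁻¹ = (u * tw w (e i) * u⁻¹) * (u * y' (k * i) * u⁻¹) := by group
    rw [hy, h6, tw_conj, huw', hy, ← mul_assoc, ← tw_add F'.xx] at h5
    rw [h5, tw_zero, one_mul]
  have h5 := F'.tw_unique (h4 1)
  have hkk : k = 1 ∨ k = -1 := by
    have : ∀ k : ZMod 5, k * (k * 1) = 1 → k = 1 ∨ k = -1 := by decide
    exact this k h5.1
  refine ⟨e, h3, ?_⟩
  rcases hkk with rfl | rfl
  · left
    have hy' : ∀ i, u * y' i * u⁻¹ = tw w (e i) * y' i := fun i => by rw [hy, one_mul]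
    exact ⟨F'.inQ_iff.mpr ⟨huw, e, he, hy'⟩, he, hy'⟩
  · right
    have hy' : ∀ i, u * y' i * u⁻¹ = tw w (e i) * y' (-i) := fun i => by rw [hy, neg_one_mul]
    refine ⟨?_, ?_, hy'⟩
    · intro h6
      obtain ⟨_, e', _, h7⟩ := F'.inQ_iff.mp h6
      have h8 := hy' 1
      rw [h7] at h8
      have := (F'.tw_unique h8).1
      exact absurd this (by decide)
    · intro i
      have h6 := (F'.tw_unique (h4 i)).2
      rw [neg_one_mul] at h6
      have e1 : ∀ a b : ZMod 2, a + b = 0 → b = a := by decide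
      exact e1 _ _ h6

omit [Finite G] in
theorem conj_refl {y : ZMod 5 → G} (F : Frame z p x y) (hv : v * x = x * v) {e : ZMod 5 → ZMod 2}
    (hy : ∀ i, v * y i * v⁻¹ = tw x (e i) * y (-i)) (a : ZMod 2) (s : ZMod 5 → ZMod 2) :
    v * el x y a s * v⁻¹ = el x y (a + ∑ i, e i * s i) (fun m => s (-m)) := by
  have h2 : v * x * v⁻¹ = x := by rw [hv]; group
  have h3 : (fun i => v * y i * v⁻¹) = fun i => tw x (e i) * y (-1 * i + 0) := by
    funext i
    rw [hy]
    simp
  rw [el_conj, h2, h3, el_aff F.toElem (show (-1 : ZMod 5) * (-1) = 1 by decide)]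
  congr 1
  funext m
  simp

omit [Finite G] in
theorem conj_trans {y : ZMod 5 → G} (F : Frame z p x y) (hv : v * x = x * v) {e : ZMod 5 → ZMod 2}
    (hy : ∀ i, v * y i * v⁻¹ = tw x (e i) * y i) (a : ZMod 2) (s : ZMod 5 → ZMod 2) :
    v * el x y a s * v⁻¹ = el x y (a + ∑ i, e i * s i) s := by
  have h2 : v * x * v⁻¹ = x := by rw [hv]; group
  have h3 : (fun i => v * y i * v⁻¹) = fun i => tw x (e i) * y (1 * i + 0) := by
    funext i
    rw [hy]
    simp
  rw [el_conj, h2, h3, el_aff F.toElem (mul_one (1 : ZMod 5))]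
  congr 1
  funext m
  simp

/-- a reflection: an element of `U_w` moving lines on `x` -/
theorem exists_refl (h : FinHyp z p) {y : ZMod 5 → G} (F : Frame z p x y) :
    ∃ v ∈ U z p (y 0), ¬ InQ z p x v ∧ v * x = x * v ∧ ∃ e : ZMod 5 → ZMod 2, e 0 = 0 ∧
      (∀ i, e (-i) = e i) ∧ ∀ i, v * y i * v⁻¹ = tw x (e i) * y (-i) := by
  have a := h.symm (F.adj_y 0)
  obtain ⟨v, hv, hv1⟩ := h.exists_not_inQ a
  obtain ⟨e, he, h1 | h1⟩ := h.act_cases a hv F rfl
  · exact absurd h1.1 hv1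
  · exact ⟨v, hv, hv1, h.U_comm (h.isPt_left a) hv (mem_U_of_adj a), e, he, h1.2.1, h1.2.2⟩

theorem mem_U_zero (h : FinHyp z p) {y : ZMod 5 → G} (F : Frame z p x y) (a : ZMod 2)
    (s : ZMod 5 → ZMod 2) : el x y a s ∈ U z p (y 0) ↔ Sy 0 s := by
  obtain ⟨v, hv, _, hvx, e, he0, he, hy⟩ := h.exists_refl F
  have ha := h.symm (F.adj_y 0)
  have hw := h.isPt_left ha
  constructor
  · intro hu
    have h1 := conj_refl F hvx hy a s
    have h2 : v * el x y a s * v⁻¹ = el x y a s := by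
      rw [h.U_comm hw hv hu]; group
    rw [h2] at h1
    have h3 := (F.el_inj h1).2
    have e1 : ∀ s : ZMod 5 → ZMod 2, (s = (fun m => s (-m)) ∨ s = (fun m => s (-m)) + 1) → Sy 0 s := by
      decide
    exact e1 s h3
  · intro hs
    have hx : x ∈ U z p (y 0) := mem_U_of_adj ha
    have hxt : ∀ c, el x y c 0 ∈ U z p (y 0) := by
      intro c
      rw [el_tw]
      rcases zmod2 c with rfl | rfl
      · rw [tw_zero]; exact one_mem _
      · rw [tw_one]; exact hx
    have h1 : ∀ i, el x y (e i) (Pi.single i 1 + Pi.single (-i) 1) ∈ U z p (y 0) := by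
      intro i
      have h2 : y i * v * (y i)⁻¹ ∈ U z p (y 0) := by
        have h3 : y i * y 0 * (y i)⁻¹ = y 0 := by rw [F.yc]; group
        have h4 := (conj_mem_U (g := y i) (u := v) (x := y 0) (z := z) (p := p)).mpr hv
        rwa [h3] at h4
      have h3 : y i * v * (y i)⁻¹ * v⁻¹ ∈ U z p (y 0) := mul_mem h2 (inv_mem hv)
      have h4 : y i * v * (y i)⁻¹ * v⁻¹ = y i * (v * y i * v⁻¹)⁻¹ := by group
      rw [h4, hy, F.tw_y, F.el_inv] at h3
      have h5 : y i = el x y 0 (Pi.single i 1) := (el_single _ _ _).symm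
      rw [h5, F.el_mul, zero_add] at h3
      exact h3
    have h2 : ∀ i c, el x y c (Pi.single i 1 + Pi.single (-i) 1) ∈ U z p (y 0) := by
      intro i c
      have h3 := mul_mem (hxt (c + e i)) (h1 i)
      rw [F.el_mul, zero_add] at h3
      have e1 : ∀ c e : ZMod 2, c + e + e = c := by decide
      rwa [e1] at h3
    have h3 : ∀ c, el x y c (Pi.single 0 1) ∈ U z p (y 0) := by
      intro c
      have h4 := mul_mem (hxt c) (show y 0 ∈ U z p (y 0) from self_mem_U)
      have h5 : y 0 = el x y 0 (Pi.single 0 1) := (el_single _ _ _).symm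
      nth_rewrite 2 [h5] at h4
      rw [F.el_mul, zero_add, add_zero] at h4
      exact h4
    have e2 : ∀ s : ZMod 5 → ZMod 2, Sy 0 s → s = (if s 0 = 0 then 0 else Pi.single 0 1) +
        ((if s 1 = 0 then 0 else (Pi.single 1 1 + Pi.single (-1) 1)) +
        (if s 2 = 0 then 0 else (Pi.single 2 1 + Pi.single (-2) 1))) := by decide
    have h4 := e2 s hs
    rw [h4]
    have h5 : ∀ t t' : ZMod 5 → ZMod 2, (∀ c, el x y c t ∈ U z p (y 0)) →
        (∀ c, el x y c t' ∈ U z p (y 0)) → ∀ c, el x y c (t + t') ∈ U z p (y 0) := by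
      intro t t' h6 h7 c
      have := mul_mem (h6 c) (h7 0)
      rwa [F.el_mul, add_zero] at this
    refine h5 _ _ ?_ (h5 _ _ ?_ ?_) a
    · split_ifs
      · exact hxt
      · exact h3
    · split_ifs
      · exact hxt
      · exact h2 1
    · split_ifs
      · exact hxt
      · exact h2 2

omit [Finite G] in
/-- move the index `m` to `0` -/
theorem shift_frame {y : ZMod 5 → G} (F : Frame z p x y) (m : ZMod 5) (b : ZMod 2) :
    ∃ y', Frame z p x y' ∧ y' 0 = tw x b * y m ∧ ∀ a s, ∃ a', el x y a s = el x y' a' (fun i => s (i + m)) := by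
  let e : ZMod 5 → ZMod 2 := ![b, b, 0, 0, 0]
  have he : ∑ i, e i = 0 := by
    have : ∀ b : ZMod 2, ∑ i : ZMod 5, (![b, b, 0, 0, 0] : ZMod 5 → ZMod 2) i = 0 := by decide
    exact this b
  refine ⟨_, F.twist (k := 1) (by decide) m he, ?_, fun a s => ⟨a + ∑ i, e i * s (i + m), ?_⟩⟩
  · show tw x (e 0) * y (1 * 0 + m) = _
    rw [mul_zero, zero_add]
    rfl
  · rw [el_aff F.toElem (mul_one (1 : ZMod 5))]
    have e1 : ∀ a b : ZMod 2, a + b + b = a := by decide
    rw [e1]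
    congr 1
    funext i
    simp

theorem mem_U_iff (h : FinHyp z p) {y : ZMod 5 → G} (F : Frame z p x y) (m : ZMod 5) (b : ZMod 2)
    (a : ZMod 2) (s : ZMod 5 → ZMod 2) : el x y a s ∈ U z p (tw x b * y m) ↔ Sy m s := by
  obtain ⟨y', F', h0, h1⟩ := shift_frame F m b
  obtain ⟨a', ha'⟩ := h1 a s
  rw [ha', ← h0, h.mem_U_zero F']
  constructor
  · intro h2 i
    have := h2 (i - m)
    simp only at this
    convert this using 2 <;> ring
  · intro h2 i
    have := h2 (i + m)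
    simp only
    convert this using 2
    ring

theorem inQ_mul_iff (h : FinHyp z p) (a : Adj z p x w) (hu : u ∈ U z p x) (hv : v ∈ U z p x) :
    InQ z p w (u * v) ↔ (InQ z p w u ↔ InQ z p w v) := by
  obtain ⟨y', F', h0⟩ := h.exists_frame_adj (h.symm a)
  have key : ∀ {u : G}, u ∈ U z p x → ∃ σ : ZMod 5, ∃ e : ZMod 5 → ZMod 2, (InQ z p w u ↔ σ = 1) ∧
      (σ = 1 ∨ σ = -1) ∧ ∀ i, u * y' i * u⁻¹ = tw w (e i) * y' (σ * i) := by
    intro u hu
    obtain ⟨e, _, h1 | h1⟩ := h.act_cases a hu F' h0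
    · exact ⟨1, e, ⟨fun _ => rfl, fun _ => h1.1⟩, Or.inl rfl, fun i => by rw [one_mul]; exact h1.2.2 i⟩
    · exact ⟨-1, e, ⟨fun h2 => absurd h2 h1.1, fun h2 => absurd h2 (by decide)⟩, Or.inr rfl,
        fun i => by rw [neg_one_mul]; exact h1.2.2 i⟩
  obtain ⟨σ, e, h1, h2, h3⟩ := key hu
  obtain ⟨σ', e', h1', h2', h3'⟩ := key hv
  obtain ⟨σ'', e'', h1'', h2'', h3''⟩ := key (mul_mem hu hv)
  have huw : u * w * u⁻¹ = w := by
    rw [h.U_comm (h.isPt_left a) hu (mem_U_of_adj a)]; group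
  have h4 : tw w (e'' 1) * y' (σ'' * 1) = tw w (e' 1 + e (σ' * 1)) * y' (σ * (σ' * 1)) := by
    rw [← h3'']
    calc u * v * y' 1 * (u * v)⁻¹ = u * (v * y' 1 * v⁻¹) * u⁻¹ := by group
      _ = (u * tw w (e' 1) * u⁻¹) * (u * y' (σ' * 1) * u⁻¹) := by rw [h3']; group
      _ = _ := by rw [tw_conj, huw, h3, ← mul_assoc, ← tw_add F'.xx]
  have h5 := (F'.tw_unique h4).1
  rw [h1, h1', h1'']
  have e1 : ∀ σ σ' σ'' : ZMod 5, (σ = 1 ∨ σ = -1) → (σ' = 1 ∨ σ' = -1) → σ'' * 1 = σ * (σ' * 1) →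
    (σ'' = 1 ↔ (σ = 1 ↔ σ' = 1)) := by decide
  exact e1 σ σ' σ'' h2 h2' h5

theorem inQ_self (h : FinHyp z p) (a : Adj z p x w) : InQ z p w x :=
  h.inQ_of_mem (h.isPt_right a) (mem_U_of_adj (h.symm a))

theorem not_inQ_y (h : FinHyp z p) {y : ZMod 5 → G} (F : Frame z p x y) {i : ZMod 5} (hi : i ≠ 0) :
    ¬ InQ z p (y 0) (y i) := by
  intro h1
  obtain ⟨v, hv, hv1, hvx, e, he0, he, hy⟩ := h.exists_refl F
  have a := h.symm (F.adj_y 0)
  have hw := h.isPt_left a
  rcases h.inQ_act hw h1 hv with h2 | h2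
  · have h3 : tw x (e i) * y (-i) = tw x 0 * y i := by
      rw [← hy, tw_zero, one_mul, mul_inv_eq_iff_eq_mul]
      rw [mul_inv_eq_iff_eq_mul] at h2
      exact h2.symm
    have h4 := (F.tw_unique h3).1
    have e1 : ∀ i : ZMod 5, -i = i → i = 0 := by decide
    exact hi (e1 i h4)
  · have h3 : tw x (e i) * y (-i) = y 0 * y i := by
      rw [← hy, mul_inv_eq_iff_eq_mul]
      rw [mul_inv_eq_iff_eq_mul] at h2
      calc v * y i = y 0 * (y 0 * v * y i) := by
            rw [← mul_assoc, ← mul_assoc, F.yy, one_mul]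
        _ = y 0 * y i * v := by rw [← h2, mul_assoc]
    have h4 : el x y (e i) (Pi.single (-i) 1) = el x y 0 (Pi.single 0 1 + Pi.single i 1) := by
      have := F.el_mul 0 0 (Pi.single 0 1) (Pi.single i 1)
      rw [el_single, el_single, add_zero] at this
      rw [← this, ← h3, F.tw_y]
    have h5 := (F.el_inj h4).2
    have e1 : ∀ i : ZMod 5, ((Pi.single (-i) 1 : ZMod 5 → ZMod 2) = Pi.single 0 1 + Pi.single i 1 ∨
      (Pi.single (-i) 1 : ZMod 5 → ZMod 2) = Pi.single 0 1 + Pi.single i 1 + 1) → i = 0 := by decide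
    exact hi (e1 i h5)

theorem inQ_zero (h : FinHyp z p) {y : ZMod 5 → G} (F : Frame z p x y) (a : ZMod 2)
    (s : ZMod 5 → ZMod 2) : InQ z p (y 0) (el x y a s) ↔ Fs 0 s = 0 := by
  have ha := F.adj_y 0
  have h1 : InQ z p (y 0) x := h.inQ_self ha
  have h2 : InQ z p (y 0) (y 0) := h.inQ_of_mem (h.isPt_right ha) self_mem_U
  have h3 : InQ z p (y 0) (1 : G) := h.inQ_of_mem (h.isPt_right ha) (one_mem _)
  have h4 : ∀ i, i ≠ 0 → ∀ c : ZMod 2, (InQ z p (y 0) (tw (y i) c) ↔ c = 0) := by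
    intro i hi c
    rcases zmod2 c with rfl | rfl
    · simpa using h3
    · simpa using h.not_inQ_y F hi
  have h5 : ∀ c : ZMod 2, InQ z p (y 0) (tw x c) := by
    intro c
    rcases zmod2 c with rfl | rfl
    · simpa using h3
    · simpa using h1
  have h6 : ∀ c : ZMod 2, InQ z p (y 0) (tw (y 0) c) := by
    intro c
    rcases zmod2 c with rfl | rfl
    · simpa using h3
    · simpa using h2
  have m1 : ∀ c, tw x c ∈ U z p x := by
    intro c
    rcases zmod2 c with rfl | rfl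
    · simp
    · simpa using self_mem_U
  have m2 : ∀ i c, tw (y i) c ∈ U z p x := by
    intro i c
    rcases zmod2 c with rfl | rfl
    · simp
    · simpa using mem_U_of_adj (F.adj_y i)
  unfold el
  rw [h.inQ_mul_iff ha (m1 _) (mul_mem (m2 _ _) (mul_mem (m2 _ _) (mul_mem (m2 _ _) (mul_mem (m2 _ _) (m2 _ _))))),
    h.inQ_mul_iff ha (m2 _ _) (mul_mem (m2 _ _) (mul_mem (m2 _ _) (mul_mem (m2 _ _) (m2 _ _)))),
    h.inQ_mul_iff ha (m2 _ _) (mul_mem (m2 _ _) (mul_mem (m2 _ _) (m2 _ _))),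
    h.inQ_mul_iff ha (m2 _ _) (mul_mem (m2 _ _) (m2 _ _)),
    h.inQ_mul_iff ha (m2 _ _) (m2 _ _),
    h4 1 (by decide), h4 2 (by decide), h4 3 (by decide), h4 4 (by decide)]
  simp only [h5, h6, true_iff]
  unfold Fs
  simp only [zero_add]
  generalize s 1 = s1
  generalize s 2 = s2
  generalize s 3 = s3
  generalize s 4 = s4
  revert s1 s2 s3 s4
  decide

theorem inQ_iff (h : FinHyp z p) {y : ZMod 5 → G} (F : Frame z p x y) (m : ZMod 5) (b : ZMod 2)
    (a : ZMod 2) (s : ZMod 5 → ZMod 2) : InQ z p (tw x b * y m) (el x y a s) ↔ Fs m s = 0 := by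
  obtain ⟨y', F', h0, h1⟩ := shift_frame F m b
  obtain ⟨a', ha'⟩ := h1 a s
  rw [ha', ← h0, h.inQ_zero F']
  unfold Fs
  simp only [zero_add, add_comm m]

end FinHyp

end Cfsg.Agent.Classification.TitsFin
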