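import Mathlib
import Cfsg.Agent.Classification.TitsFin.LocalOne

/-!
# Local structure: the list of facts about two collinear points
-/

set_option autoImplicit false

namespace Cfsg.Agent.Classification.TitsFin

open Subgroup

variable {G : Type*} [Group G]

namespace FinHyp

variable [Finite G] {z p x w y f g u v : G}

theorem mem_U_w (h : FinHyp z p) {y : ZMod 5 → G} (F : Frame z p x y) (h0 : y 0 = w) (a : ZMod 2)
    (s : ZMod 5 → ZMod 2) : el x y a s ∈ U z p w ↔ Sy 0 s := by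
  have := h.mem_U_iff F 0 0 a s
  rwa [tw_zero, one_mul, h0] at this

theorem mem_U_xw (h : FinHyp z p) {y : ZMod 5 → G} (F : Frame z p x y) (h0 : y 0 = w) (a : ZMod 2)
    (s : ZMod 5 → ZMod 2) : el x y a s ∈ U z p (x * w) ↔ Sy 0 s := by
  have := h.mem_U_iff F 0 1 a s
  rwa [tw_one, h0] at this

theorem inQ_w (h : FinHyp z p) {y : ZMod 5 → G} (F : Frame z p x y) (h0 : y 0 = w) (a : ZMod 2)
    (s : ZMod 5 → ZMod 2) : InQ z p w (el x y a s) ↔ Fs 0 s = 0 := by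
  have := h.inQ_iff F 0 0 a s
  rwa [tw_zero, one_mul, h0] at this

theorem inQ_xw (h : FinHyp z p) {y : ZMod 5 → G} (F : Frame z p x y) (h0 : y 0 = w) (a : ZMod 2)
    (s : ZMod 5 → ZMod 2) : InQ z p (x * w) (el x y a s) ↔ Fs 0 s = 0 := by
  have := h.inQ_iff F 0 1 a s
  rwa [tw_one, h0] at this

theorem mem_U_v (h : FinHyp z p) {y : ZMod 5 → G} (F : Frame z p x y) (h0 : y 1 = v) (a : ZMod 2)
    (s : ZMod 5 → ZMod 2) : el x y a s ∈ U z p v ↔ Sy 1 s := by
  have := h.mem_U_iff F 1 0 a s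
  rwa [tw_zero, one_mul, h0] at this

theorem inQ_v (h : FinHyp z p) {y : ZMod 5 → G} (F : Frame z p x y) (h0 : y 1 = v) (a : ZMod 2)
    (s : ZMod 5 → ZMod 2) : InQ z p v (el x y a s) ↔ Fs 1 s = 0 := by
  have := h.inQ_iff F 1 0 a s
  rwa [tw_zero, one_mul, h0] at this

theorem inQ_third (h : FinHyp z p) (a : Adj z p x w) (hu : u ∈ U z p x) :
    InQ z p (x * w) u ↔ InQ z p w u := by
  obtain ⟨y, F, h0⟩ := h.exists_frame_adj a
  obtain ⟨a, s, rfl⟩ := (F.mem u).mp hu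
  rw [h.inQ_xw F h0, h.inQ_w F h0]

theorem mem_U_third (h : FinHyp z p) (a : Adj z p x w) (hu : u ∈ U z p x) :
    u ∈ U z p (x * w) ↔ u ∈ U z p w := by
  obtain ⟨y, F, h0⟩ := h.exists_frame_adj a
  obtain ⟨a, s, rfl⟩ := (F.mem u).mp hu
  rw [h.mem_U_xw F h0, h.mem_U_w F h0]

omit [Finite G] in
theorem el_s1 (x : G) (y : ZMod 5 → G) : el x y 0 (Pi.single 1 1) = y 1 := el_single x y 1

/-- two lines on `x`: a frame -/
theorem exists_frame_two (h : FinHyp z p) (a : Adj z p x w) (b : Adj z p x v) (h1 : v ≠ w)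
    (h2 : v ≠ x * w) : ∃ y', Frame z p x y' ∧ y' 0 = w ∧ y' 1 = v := by
  obtain ⟨y, hy⟩ := h.exists_frame (h.isPt_left a)
  exact hy.exists_two a b h1 h2

theorem not_inQ (h : FinHyp z p) (a : Adj z p x w) (b : Adj z p x y) (h1 : y ≠ w) (h2 : y ≠ x * w) :
    ¬ InQ z p w y := by
  obtain ⟨y', F, h0, h3⟩ := h.exists_frame_two a b h1 h2
  rw [← h3, ← el_s1 x y', h.inQ_w F h0]
  decide

theorem inQ_mul (h : FinHyp z p) (a : Adj z p x w) (hu : u ∈ U z p x) (hv : v ∈ U z p x)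
    (h1 : ¬ InQ z p w u) (h2 : ¬ InQ z p w v) : InQ z p w (u * v) := by
  rw [h.inQ_mul_iff a hu hv]
  simp [h1, h2]

omit [Finite G] in
theorem x_mul_el {y : ZMod 5 → G} (E : Elem x y) (a : ZMod 2) (s : ZMod 5 → ZMod 2) :
    x * el x y a s = el x y (a + 1) s := by
  have := E.el_mul 1 a 0 s
  rwa [el_x, zero_add, add_comm] at this

/-- the action of the elements of `F_w - E` on a frame at `x` -/
theorem F_frame (h : FinHyp z p) {y : ZMod 5 → G} (F : Frame z p x y) (h0 : y 0 = w)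
    (hf : f ∈ U z p w) (hf1 : InQ z p x f) (hf2 : f ∉ U z p x) :
    ∀ i, i ≠ 0 → f * y i * f⁻¹ = x * y i := by
  subst h0
  have a := h.symm (F.adj_y 0)
  obtain ⟨e, he0, h1 | h1⟩ := h.act_cases a hf F rfl
  · obtain ⟨_, he, hy⟩ := h1
    have hfx : f * x = x * f := hf1.1
    have hfx' : f * x * f⁻¹ = x := by rw [hfx]; group
    -- f commutes with y i * y j for i, j ≠ 0
    have h2 : ∀ i j, i ≠ 0 → j ≠ 0 → i ≠ j → e i = e j := by
      intro i j hi hj hij
      have h3 : y i * y j = el x y 0 (Pi.single i 1 + Pi.single j 1) := by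
        have := F.el_mul 0 0 (Pi.single i 1) (Pi.single j 1)
        rwa [el_single, el_single, add_zero] at this
      have h4 : InQ z p (y 0) (y i * y j) := by
        rw [h3, h.inQ_zero F]
        have : ∀ i j : ZMod 5, i ≠ 0 → j ≠ 0 → i ≠ j →
          Fs 0 (Pi.single i 1 + Pi.single j 1 : ZMod 5 → ZMod 2) = 0 := by decide
        exact this i j hi hj hij
      have h5 := h.F_comm (F.adj_y 0) (mul_mem (mem_U_of_adj (F.adj_y i)) (mem_U_of_adj (F.adj_y j)))
        h4 hf hf1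
      have h6 : f * (y i * y j) * f⁻¹ = y i * y j := by rw [← h5]; group
      have h7 : f * (y i * y j) * f⁻¹ = (f * y i * f⁻¹) * (f * y j * f⁻¹) := by group
      rw [h7, hy, hy, F.tw_y, F.tw_y, F.el_mul, h3] at h6
      have h8 := (F.el_inj h6).1
      have e1 : ∀ a b : ZMod 2, a + b = 0 → a = b := by decide
      exact e1 _ _ h8
    intro i hi
    rcases zmod2 (e 1) with h3 | h3
    · exfalso
      apply hf2
      apply F.cent f hfx
      intro i
      have h4 : e i = 0 := by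
        by_cases hi0 : i = 0
        · rw [hi0, he0]
        · by_cases hi1 : i = 1
          · rw [hi1, h3]
          · rw [h2 i 1 hi0 (by decide) hi1, h3]
      have h5 := hy i
      rw [h4, tw_zero, one_mul, mul_inv_eq_iff_eq_mul] at h5
      exact h5
    · have h4 : e i = 1 := by
        by_cases hi1 : i = 1
        · rw [hi1, h3]
        · rw [h2 i 1 hi (by decide) hi1, h3]
      rw [hy, h4, tw_one]
  · exact absurd hf1 h1.1

theorem F_act (h : FinHyp z p) (a : Adj z p x w) (hf : f ∈ U z p w) (hf1 : InQ z p x f)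
    (hf2 : f ∉ U z p x) (hv : v ∈ U z p x) (hv1 : ¬ InQ z p w v) : f * v * f⁻¹ = x * v := by
  obtain ⟨y, F, h0⟩ := h.exists_frame_adj a
  obtain ⟨a, s, rfl⟩ := (F.mem v).mp hv
  rw [h.inQ_w F h0] at hv1
  have h1 := h.F_frame F h0 hf hf1 hf2
  let e : ZMod 5 → ZMod 2 := fun i => if i = 0 then 0 else 1
  have hw : IsPt z w := h0 ▸ h.isPt_right (F.adj_y 0)
  have hfw : f * w * f⁻¹ = w := by
    rw [h.U_comm hw hf self_mem_U, mul_inv_cancel_right]
  have h2 : ∀ i, f * y i * f⁻¹ = tw x (e i) * y i := by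
    intro i
    by_cases hi : i = 0
    · subst hi
      show _ = tw x 0 * y 0
      rw [tw_zero, one_mul, h0, hfw]
    · rw [h1 i hi]
      show _ = tw x (if i = 0 then 0 else 1) * y i
      rw [if_neg hi, tw_one]
  rw [conj_trans F hf1.1 h2, x_mul_el F.toElem]
  congr 2
  have e2 : ∀ s : ZMod 5 → ZMod 2, ¬ Fs 0 s = 0 →
    ∑ i : ZMod 5, (if i = 0 then 0 else 1) * s i = 1 := by decide
  exact e2 s hv1

theorem cent_eq (h : FinHyp z p) (a : Adj z p x w) (hu : u ∈ U z p w) (hu1 : ¬ InQ z p x u)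
    (hv : v ∈ U z p x) (hc : u * v = v * u) : v ∈ U z p w := by
  obtain ⟨y, F, rfl⟩ := h.exists_frame_adj a
  obtain ⟨b, s, rfl⟩ := (F.mem v).mp hv
  obtain ⟨e, he0, h1 | h1⟩ := h.act_cases (h.symm a) hu F rfl
  · exact absurd h1.1 hu1
  · have hux : u * x = x * u := h.U_comm (h.isPt_right a) hu (mem_U_of_adj (h.symm a))
    have h2 := conj_refl F hux h1.2.2 b s
    rw [hc, mul_inv_cancel_right] at h2
    rw [h.mem_U_zero F]
    have e1 : ∀ s : ZMod 5 → ZMod 2, (s = (fun m => s (-m)) ∨ s = (fun m => s (-m)) + 1) → Sy 0 s := by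
      decide
    exact e1 s (F.el_inj h2).2

/-- coordinates for `E - V` -/
theorem tl_iff (h : FinHyp z p) {y : ZMod 5 → G} (F : Frame z p x y) (h0 : y 0 = w) (a : ZMod 2)
    (s : ZMod 5 → ZMod 2) : TL z p (el x y a s) x w ↔
      Sy 0 s ∧ s ≠ 0 ∧ s ≠ 1 ∧ s ≠ Pi.single 0 1 ∧ s ≠ Pi.single 0 1 + 1 := by
  have hadj : Adj z p x w := h0 ▸ F.adj_y 0
  have k1 : el x y 0 0 = 1 := el_zero _ _
  have k2 : el x y 0 (Pi.single 0 1) = w := by rw [el_single, h0]
  have k3 : el x y 1 (Pi.single 0 1) = x * w := by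
    have := x_mul_el F.toElem 0 (Pi.single 0 1)
    rw [zero_add] at this
    rw [← this, k2]
  have k4 : el x y 1 0 = x := el_x _ _
  constructor
  · rintro ⟨_, _, h2, h3, h4, h5, h6⟩
    rw [h.mem_U_w F h0] at h2
    have key : ∀ t, (s = t ∨ s = t + 1) → el x y a s = el x y a t := by
      rintro t (rfl | rfl)
      · rfl
      · exact F.el_add_one a t
    refine ⟨h2, ?_, ?_, ?_, ?_⟩
    · rintro rfl
      rcases zmod2 a with rfl | rfl
      · exact h3 k1
      · exact h4 k4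
    · intro h7
      have h8 := key 0 (Or.inr (by rw [h7, zero_add]))
      rcases zmod2 a with rfl | rfl
      · exact h3 (h8.trans k1)
      · exact h4 (h8.trans k4)
    · rintro rfl
      rcases zmod2 a with rfl | rfl
      · exact h5 k2
      · exact h6 k3
    · intro h7
      have h8 := key (Pi.single 0 1) (Or.inr h7)
      rcases zmod2 a with rfl | rfl
      · exact h5 (h8.trans k2)
      · exact h6 (h8.trans k3)
  · rintro ⟨h1, h2, h3, h4, h5⟩
    refine ⟨hadj, F.el_mem a s, (h.mem_U_w F h0 a s).mpr h1, ?_, ?_, ?_, ?_⟩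
    · intro h6
      rcases (F.inj _ _ h6).2 with h7 | h7
      · exact h2 h7
      · exact h3 h7
    · intro h6
      rcases (F.el_inj (h6.trans k4.symm)).2 with h7 | h7
      · exact h2 h7
      · exact h3 (by rw [h7, zero_add])
    · intro h6
      rcases (F.el_inj (h6.trans k2.symm)).2 with h7 | h7
      · exact h4 h7
      · exact h5 h7
    · intro h6
      rcases (F.el_inj (h6.trans k3.symm)).2 with h7 | h7
      · exact h4 h7
      · exact h5 h7

theorem comm_TL (h : FinHyp z p) (a : Adj z p x w) (hu : u ∈ U z p w) (hu1 : ¬ InQ z p x u)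
    (hv : v ∈ U z p x) (hv1 : ¬ InQ z p w v) : TL z p (u * v * u⁻¹ * v⁻¹) x w := by
  obtain ⟨y, F, rfl⟩ := h.exists_frame_adj a
  obtain ⟨b, s, rfl⟩ := (F.mem v).mp hv
  rw [h.inQ_zero F] at hv1
  obtain ⟨e, he0, h1 | h1⟩ := h.act_cases (h.symm a) hu F rfl
  · exact absurd h1.1 hu1
  · have hux : u * x = x * u := h.U_comm (h.isPt_right a) hu (mem_U_of_adj (h.symm a))
    rw [conj_refl F hux h1.2.2 b s, F.el_inv, F.el_mul, h.tl_iff F rfl]
    have e1 : ∀ s : ZMod 5 → ZMod 2, ¬ Fs 0 s = 0 → Sy 0 ((fun m => s (-m)) + s) ∧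
      (fun m => s (-m)) + s ≠ 0 ∧ (fun m => s (-m)) + s ≠ 1 ∧ (fun m => s (-m)) + s ≠ Pi.single 0 1 ∧
      (fun m => s (-m)) + s ≠ Pi.single 0 1 + 1 := by decide
    exact e1 s hv1

theorem TL_mul (h : FinHyp z p) (a : TL z p u x w) (b : TL z p v x w) :
    u * v = 1 ∨ u * v = x ∨ u * v = w ∨ u * v = x * w := by
  obtain ⟨y, F, h0⟩ := h.exists_frame_adj a.1
  obtain ⟨c, s, rfl⟩ := (F.mem u).mp a.2.1
  obtain ⟨d, t, rfl⟩ := (F.mem v).mp b.2.1
  rw [h.tl_iff F h0] at a b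
  rw [F.el_mul]
  have e1 : ∀ s t : ZMod 5 → ZMod 2, (Sy 0 s ∧ s ≠ 0 ∧ s ≠ 1 ∧ s ≠ Pi.single 0 1 ∧ s ≠ Pi.single 0 1 + 1) →
      (Sy 0 t ∧ t ≠ 0 ∧ t ≠ 1 ∧ t ≠ Pi.single 0 1 ∧ t ≠ Pi.single 0 1 + 1) →
      s + t = 0 ∨ s + t = 0 + 1 ∨ s + t = Pi.single 0 1 ∨ s + t = Pi.single 0 1 + 1 := by decide
  have k2 : ∀ c, el x y c (Pi.single 0 1) = tw x c * w := by
    intro c
    rw [← F.tw_y, h0]
  have h1 : el x y (c + d) (s + t) = tw x (c + d) ∨ el x y (c + d) (s + t) = tw x (c + d) * w := by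
    rcases e1 s t a b with h2 | h2 | h2 | h2 <;> rw [h2]
    · left; rw [el_tw]
    · left; rw [F.el_add_one, el_tw]
    · right; rw [k2]
    · right; rw [F.el_add_one, k2]
  rcases zmod2 (c + d) with h3 | h3 <;> rcases h1 with h2 | h2 <;> rw [h3] at h2 ⊢ <;> simp [h2]

theorem inter_two (h : FinHyp z p) (a : Adj z p x w) (b : Adj z p x y) (h1 : y ≠ w) (h2 : y ≠ x * w)
    (hu : u ∈ U z p x) (hu1 : u ∈ U z p w) (hu2 : u ∈ U z p y) : u = 1 ∨ u = x := by
  obtain ⟨y', F, h0, h3⟩ := h.exists_frame_two a b h1 h2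
  obtain ⟨c, s, rfl⟩ := (F.mem u).mp hu
  rw [h.mem_U_w F h0] at hu1
  rw [h.mem_U_v F h3] at hu2
  have e1 : ∀ s : ZMod 5 → ZMod 2, Sy 0 s → Sy 1 s → s = 0 ∨ s = 0 + 1 := by decide
  have h4 : el x y' c s = tw x c := by
    rcases e1 s hu1 hu2 with h4 | h4 <;> rw [h4]
    · rw [el_tw]
    · rw [F.el_add_one, el_tw]
  rw [h4]
  rcases zmod2 c with rfl | rfl <;> simp

theorem inter_gen (h : FinHyp z p) (a : Adj z p x w) (b : Adj z p x y) (h1 : y ≠ w) (h2 : y ≠ x * w)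
    (hu : u ∈ U z p x) : ∃ v ∈ U z p x ⊓ U z p w, ∃ v' ∈ U z p x ⊓ U z p y, u = v * v' := by
  obtain ⟨y', F, h0, h3⟩ := h.exists_frame_two a b h1 h2
  obtain ⟨c, s, rfl⟩ := (F.mem u).mp hu
  have e1 : ∀ s : ZMod 5 → ZMod 2, ∃ t : ZMod 5 → ZMod 2, Sy 0 t ∧ Sy 1 (t + s) := by decide
  obtain ⟨t, h4, h5⟩ := e1 s
  refine ⟨el x y' c t, ⟨F.el_mem _ _, (h.mem_U_w F h0 _ _).mpr h4⟩, el x y' 0 (t + s),
    ⟨F.el_mem _ _, (h.mem_U_v F h3 _ _).mpr h5⟩, ?_⟩
  rw [F.el_mul, add_zero]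
  congr 1
  have e2 : ∀ s t : ZMod 5 → ZMod 2, s = t + (t + s) := by
    intro s t
    funext i
    have : ∀ a b : ZMod 2, a = b + (b + a) := by decide
    exact this _ _
  exact e2 s t

theorem inQ_of_two (h : FinHyp z p) (a : Adj z p x w) (b : Adj z p x y) (h1 : y ≠ w) (h2 : y ≠ x * w)
    (hg : g * x = x * g) (hw : g * w * g⁻¹ = w ∨ g * w * g⁻¹ = x * w)
    (hy : g * y * g⁻¹ = y ∨ g * y * g⁻¹ = x * y) : InQ z p x g := by
  obtain ⟨y', F, h0, h3⟩ := h.exists_frame_two a b h1 h2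
  subst h0 h3
  obtain ⟨k, j, e, hk, he, hy'⟩ := F.act g hg
  have h4 : k * 0 + j = 0 := by
    rcases hw with hw | hw
    · have h5 : tw x (e 0) * y' (k * 0 + j) = tw x 0 * y' 0 := by rw [← hy', hw, tw_zero, one_mul]
      exact (F.tw_unique h5).1
    · have h5 : tw x (e 0) * y' (k * 0 + j) = tw x 1 * y' 0 := by rw [← hy', hw, tw_one]
      exact (F.tw_unique h5).1
  have h5 : k * 1 + j = 1 := by
    rcases hy with hw | hw
    · have h5 : tw x (e 1) * y' (k * 1 + j) = tw x 0 * y' 1 := by rw [← hy', hw, tw_zero, one_mul]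
      exact (F.tw_unique h5).1
    · have h5 : tw x (e 1) * y' (k * 1 + j) = tw x 1 * y' 1 := by rw [← hy', hw, tw_one]
      exact (F.tw_unique h5).1
  have h6 : ∀ k j i : ZMod 5, k * 0 + j = 0 → k * 1 + j = 1 → k * i + j = i := by decide
  exact F.inQ_iff.mpr ⟨hg, e, he, fun i => by rw [hy', h6 k j i h4 h5]⟩

theorem pair_unique (h : FinHyp z p) (a : Adj z p x w) (b : Adj z p x y) (h1 : y ≠ w) (h2 : y ≠ x * w)
    (hu : u ∈ U z p x) (hv : v ∈ U z p x)
    (u1 : InQ z p w u) (u2 : InQ z p y u) (u3 : u ∉ U z p w) (u4 : u ∉ U z p y)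
    (v1 : InQ z p w v) (v2 : InQ z p y v) (v3 : v ∉ U z p w) (v4 : v ∉ U z p y) : u = v ∨ u = x * v := by
  obtain ⟨y', F, h0, h3⟩ := h.exists_frame_two a b h1 h2
  obtain ⟨c, s, rfl⟩ := (F.mem u).mp hu
  obtain ⟨d, t, rfl⟩ := (F.mem v).mp hv
  rw [h.inQ_w F h0] at u1 v1
  rw [h.inQ_v F h3] at u2 v2
  rw [h.mem_U_w F h0] at u3 v3
  rw [h.mem_U_v F h3] at u4 v4
  have e1 : ∀ s : ZMod 5 → ZMod 2, Fs 0 s = 0 → Fs 1 s = 0 → ¬ Sy 0 s → ¬ Sy 1 s →
      s = (Pi.single 2 1 + Pi.single 4 1) ∨ s = (Pi.single 2 1 + Pi.single 4 1) + 1 := by decide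
  have key : ∀ c s, (s = (Pi.single 2 1 + Pi.single 4 1) ∨ s = (Pi.single 2 1 + Pi.single 4 1) + 1) →
      el x y' c s = tw x c * el x y' 0 (Pi.single 2 1 + Pi.single 4 1) := by
    intro c s hs
    have h4 : tw x c * el x y' 0 (Pi.single 2 1 + Pi.single 4 1) = el x y' c (Pi.single 2 1 + Pi.single 4 1) := by
      rw [← el_tw x y', F.el_mul, add_zero, zero_add]
    rw [h4]
    rcases hs with rfl | rfl
    · rfl
    · rw [F.el_add_one]
  rw [key c s (e1 s u1 u2 u3 u4), key d t (e1 t v1 v2 v3 v4)]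
  rcases zmod2 c with rfl | rfl <;> rcases zmod2 d with rfl | rfl
  · left; rfl
  · right; rw [tw_one, ← mul_assoc, F.xx, tw_zero]
  · right; rw [tw_one, tw_zero, one_mul]
  · left; rfl

theorem F_mul (h : FinHyp z p) (a : Adj z p x w) (hf : f ∈ U z p w) (hf1 : InQ z p x f) (hf2 : f ∉ U z p x)
    (hg : g ∈ U z p (x * w)) (hg1 : InQ z p x g) (hg2 : g ∉ U z p x) :
    f * g ∈ U z p x ∧ InQ z p w (f * g) ∧ f * g ∉ U z p w := by
  classical
  have hxw := h.third a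
  have hxpt := h.isPt_left a
  have hwpt := h.isPt_right a
  have hxwpt := h.isPt_right hxw
  obtain ⟨y, F, h0⟩ := h.exists_frame_adj a
  obtain ⟨y', F', h0'⟩ := h.exists_frame_adj hxw
  have e1 : ∀ u ∈ U z p x, f * g * u = u * (f * g) := by
    intro u hu
    have hfi : ∀ v ∈ U z p x, f * v * f⁻¹ = (if InQ z p w v then v else x * v) := by
      intro v hv
      split_ifs with hq
      · rw [← h.F_comm a hv hq hf hf1, mul_inv_cancel_right]
      · exact h.F_act a hf hf1 hf2 hv hq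
    have hgi : ∀ v ∈ U z p x, g * v * g⁻¹ = (if InQ z p w v then v else x * v) := by
      intro v hv
      split_ifs with hq
      · rw [← h.F_comm hxw hv ((h.inQ_third a hv).mpr hq) hg hg1, mul_inv_cancel_right]
      · exact h.F_act hxw hg hg1 hg2 hv (fun hq' => hq ((h.inQ_third a hv).mp hq'))
    have h1 : f * g * u * (f * g)⁻¹ = u := by
      have e2 : f * g * u * (f * g)⁻¹ = f * (g * u * g⁻¹) * f⁻¹ := by group
      rw [e2, hgi u hu]
      split_ifs with hq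
      · rw [hfi u hu, if_pos hq]
      · have h3 : x * u ∈ U z p x := mul_mem self_mem_U hu
        rw [hfi _ h3]
        have h4 : ¬ InQ z p w (x * u) := by
          rw [h.inQ_mul_iff a self_mem_U hu]
          simp [h.inQ_self a, hq]
        rw [if_neg h4, ← mul_assoc, h.sq hxpt, one_mul]
    rw [mul_inv_eq_iff_eq_mul] at h1
    exact h1
  have h2 : f * g ∈ U z p x := h.cent_U hxpt e1
  have hxw2 : (x * w) * x = w := by
    rw [h.adj_comm a, mul_assoc, h.sq hxpt, mul_one]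
  -- g ∈ Q_w
  have h3 : InQ z p w g := by
    have := h.inQ_third (h.symm hxw) hg
    rw [hxw2] at this
    exact this.mpr hg1
  refine ⟨h2, h.inQ_mul' hwpt (h.inQ_of_mem hwpt hf) h3, fun h4 => hg2 ?_⟩
  have h5 : g ∈ U z p w := by
    have := mul_mem (inv_mem hf) h4
    rwa [inv_mul_cancel_left] at this
  have h6 := h.mem_U_third (h.symm hxw) hg
  rw [hxw2] at h6
  exact h6.mp h5

end FinHyp

end Cfsg.Agent.Classification.TitsFin
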