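import Mathlib
import Cfsg.Agent.Classification.TitsFin.LocalTwo

/-!
# Local structure: involutions commuting with a point
-/

set_option autoImplicit false

namespace Cfsg.Agent.Classification.TitsFin

open Subgroup

variable {G : Type*} [Group G]

/-- `g` acts on the frame `y` at `x` as the reflection `i ↦ -i` with signs `e` -/
def Refl (x : G) (y : ZMod 5 → G) (g : G) (e : ZMod 5 → ZMod 2) : Prop :=
  g * x = x * g ∧ e 0 = 0 ∧ (∀ i, e (-i) = e i) ∧ ∀ i, g * y i * g⁻¹ = tw x (e i) * y (-i)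

/-- `g` acts on the frame `y` at `x` as a transvection with signs `e` -/
def Trv (x : G) (y : ZMod 5 → G) (g : G) (e : ZMod 5 → ZMod 2) : Prop :=
  g * x = x * g ∧ ∀ i, g * y i * g⁻¹ = tw x (e i) * y i

namespace FinHyp

variable [Finite G] {z p x w f g u v : G} {y : ZMod 5 → G} {e e' : ZMod 5 → ZMod 2}

omit [Finite G] in
theorem conj_tw (hg : g * x = x * g) (a : ZMod 2) : g * tw x a * g⁻¹ = tw x a := by
  rw [tw_conj, hg, mul_inv_cancel_right]

omit [Finite G] in
theorem Refl.mul (E : Elem x y) (h1 : Refl x y g e) (h2 : Refl x y u e') :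
    Trv x y (g * u) (e + e') := by
  refine ⟨by rw [mul_assoc, h2.1, ← mul_assoc, h1.1, mul_assoc], fun i => ?_⟩
  calc g * u * y i * (g * u)⁻¹ = g * (u * y i * u⁻¹) * g⁻¹ := by group
    _ = (g * tw x (e' i) * g⁻¹) * (g * y (-i) * g⁻¹) := by rw [h2.2.2.2]; group
    _ = tw x (e' i + e (-i)) * y i := by
        rw [conj_tw h1.1, h1.2.2.2, neg_neg, ← mul_assoc, ← tw_add E.xx]
    _ = _ := by rw [h1.2.2.1, Pi.add_apply, add_comm]

omit [Finite G] in
theorem Refl.mul_trv (E : Elem x y) (h1 : Refl x y g e) (h2 : Trv x y u e') (h0 : e' 0 = 0)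
    (hs : ∀ i, e' (-i) = e' i) : Refl x y (g * u) (e + e') := by
  refine ⟨by rw [mul_assoc, h2.1, ← mul_assoc, h1.1, mul_assoc], by simp [h0, h1.2.1],
    fun i => by simp [hs, h1.2.2.1], fun i => ?_⟩
  calc g * u * y i * (g * u)⁻¹ = g * (u * y i * u⁻¹) * g⁻¹ := by group
    _ = (g * tw x (e' i) * g⁻¹) * (g * y i * g⁻¹) := by rw [h2.2]; group
    _ = tw x (e' i + e i) * y (-i) := by
        rw [conj_tw h1.1, h1.2.2.2, ← mul_assoc, ← tw_add E.xx]
    _ = _ := by rw [Pi.add_apply, add_comm]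

omit [Finite G] in
theorem Trv.mem (F : Frame z p x y) (h1 : Trv x y g e) (h0 : ∀ i, e i = 0) : g ∈ U z p x := by
  apply F.cent g h1.1
  intro i
  have := h1.2 i
  rw [h0, tw_zero, one_mul, mul_inv_eq_iff_eq_mul] at this
  exact this

/-- elements of `U_w` moving lines on `x` are reflections -/
theorem refl_of (h : FinHyp z p) (F : Frame z p x y) (a : Adj z p x w) (hw : y 0 = w ∨ y 0 = x * w)
    (hu : u ∈ U z p w) (hu1 : ¬ InQ z p x u) : ∃ e, Refl x y u e := by
  have hux : u * x = x * u := h.U_comm (h.isPt_right a) hu (mem_U_of_adj (h.symm a))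
  have huw : u * w = w * u := h.U_comm (h.isPt_right a) hu self_mem_U
  have hu2 := h.U_sq (h.isPt_right a) hu
  have hc : u * y 0 * u⁻¹ = y 0 := by
    rcases hw with hw | hw <;> rw [hw]
    · rw [huw, mul_inv_cancel_right]
    · rw [← mul_assoc, hux, mul_assoc x, huw, ← mul_assoc, mul_inv_cancel_right]
  obtain ⟨k, j, e, hk, he, hy⟩ := F.act u hux
  have h1 : tw x (e 0) * y (k * 0 + j) = tw x 0 * y 0 := by
    rw [← hy, hc, tw_zero, one_mul]
  obtain ⟨h2, h3⟩ := F.tw_unique h1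
  have hj : j = 0 := by simpa using h2
  subst hj
  simp only [add_zero] at hy
  have h4 : ∀ i, tw x (e i + e (k * i)) * y (k * (k * i)) = tw x 0 * y i := by
    intro i
    have h5 : u * (u * y i * u⁻¹) * u⁻¹ = y i := by
      calc u * (u * y i * u⁻¹) * u⁻¹ = (u * u) * y i * (u * u)⁻¹ := by group
        _ = y i := by rw [hu2]; group
    have h6 : u * (tw x (e i) * y (k * i)) * u⁻¹ = (u * tw x (e i) * u⁻¹) * (u * y (k * i) * u⁻¹) := by group
    rw [hy, h6, conj_tw hux, hy, ← mul_assoc, ← tw_add F.xx] at h5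
    rw [h5, tw_zero, one_mul]
  have h5 := F.tw_unique (h4 1)
  have hkk : k = 1 ∨ k = -1 := by
    have : ∀ k : ZMod 5, k * (k * 1) = 1 → k = 1 ∨ k = -1 := by decide
    exact this k h5.1
  rcases hkk with rfl | rfl
  · exfalso
    apply hu1
    exact F.inQ_iff.mpr ⟨hux, e, he, fun i => by rw [hy, one_mul]⟩
  · refine ⟨e, hux, h3, fun i => ?_, fun i => by rw [hy, neg_one_mul]⟩
    have h6 := (F.tw_unique (h4 i)).2
    rw [neg_one_mul] at h6
    have e1 : ∀ a b : ZMod 2, a + b = 0 → b = a := by decide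
    exact e1 _ _ h6

/-- an involution acting like an element of `U_w` lies in `U_w` -/
theorem mem_of_same (h : FinHyp z p) (F : Frame z p x y) (a : Adj z p x w)
    (hu : u ∈ U z p w) (hu1 : ¬ InQ z p x u) (hr : Refl x y u e) (hg : Refl x y g e) (hg2 : g * g = 1) :
    g ∈ U z p w := by
  have hu2 := h.U_sq (h.isPt_right a) hu
  have h1 : u * g ∈ U z p x := by
    refine Trv.mem F (Refl.mul F.toElem hr hg) fun i => ?_
    rw [Pi.add_apply]
    have : ∀ a : ZMod 2, a + a = 0 := by decide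
    exact this _
  have h2 : u * (u * g) = (u * g) * u := by
    have h3 := h.U_sq (h.isPt_left a) h1
    -- (ug)(ug) = 1, g g = 1, u u = 1
    have h4 : u * g * u = g := by
      calc u * g * u = (u * g * (u * g)) * g⁻¹ := by group
        _ = g⁻¹ := by rw [h3, one_mul]
        _ = g := inv_eq_of_mul_eq_one_left hg2
    rw [h4, ← mul_assoc, hu2, one_mul]
  have h3 := h.cent_eq a hu hu1 h1 h2
  have h4 := mul_mem hu h3
  rwa [← mul_assoc, hu2, one_mul] at h4

/-- the signs `(0, 1, 1, 1, 1)` -/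
def nn : ZMod 5 → ZMod 2 := fun i => if i = 0 then 0 else 1

/-- `F_w - E` is not empty -/
theorem exists_F (h : FinHyp z p) (a : Adj z p x w) : ∃ f ∈ U z p w, InQ z p x f ∧ f ∉ U z p x := by
  obtain ⟨y, F, h0⟩ := h.exists_frame_adj (h.symm a)
  refine ⟨el w y 0 (Pi.single 1 1 + Pi.single 2 1), F.el_mem _ _, ?_, ?_⟩
  · rw [h.inQ_w F h0]; decide
  · rw [h.mem_U_w F h0]; decide

theorem trv_F (h : FinHyp z p) (F : Frame z p x y) (a : Adj z p x w) (hw : y 0 = w ∨ y 0 = x * w)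
    (hf : f ∈ U z p w) (hf1 : InQ z p x f) (hf2 : f ∉ U z p x) : Trv x y f nn := by
  refine ⟨hf1.1, fun i => ?_⟩
  have hx := h.isPt_left a
  have hfw : f * w * f⁻¹ = w := by
    rw [h.U_comm (h.isPt_right a) hf self_mem_U, mul_inv_cancel_right]
  have hfx : f * x * f⁻¹ = x := by rw [hf1.1, mul_inv_cancel_right]
  by_cases hi : i = 0
  · subst hi
    rw [show nn 0 = 0 from rfl, tw_zero, one_mul]
    rcases hw with hw | hw <;> rw [hw]
    · exact hfw
    · calc f * (x * w) * f⁻¹ = (f * x * f⁻¹) * (f * w * f⁻¹) := by group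
        _ = _ := by rw [hfw, hfx]
  · rw [show nn i = 1 from if_neg hi, tw_one]
    apply h.F_act a hf hf1 hf2 (mem_U_of_adj (F.adj_y i))
    have h1 := h.not_inQ_y F hi
    rcases hw with hw | hw
    · rwa [hw] at h1
    · rw [hw] at h1
      rwa [h.inQ_third a (mem_U_of_adj (F.adj_y i))] at h1

/-- both kinds of reflections in `U_w` -/
theorem exists_refls (h : FinHyp z p) (F : Frame z p x y) (a : Adj z p x w) (hw : y 0 = w ∨ y 0 = x * w) :
    ∃ e, (∃ u ∈ U z p w, ¬ InQ z p x u ∧ Refl x y u e) ∧ ∃ u ∈ U z p w, ¬ InQ z p x u ∧ Refl x y u (e + nn) := by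
  obtain ⟨u, hu, hu1⟩ := h.exists_not_inQ (h.symm a)
  obtain ⟨f, hf, hf1, hf2⟩ := h.exists_F a
  obtain ⟨e, he⟩ := h.refl_of F a hw hu hu1
  refine ⟨e, ⟨u, hu, hu1, he⟩, u * f, mul_mem hu hf, ?_, ?_⟩
  · rw [h.inQ_mul_iff (h.symm a) hu hf]
    simp [hu1, hf1]
  · exact Refl.mul_trv F.toElem he (h.trv_F F a hw hf hf1 hf2) rfl (by decide)

/-- the reflections of `U_w` and of `U_xw` have different signs -/
theorem refl_all (h : FinHyp z p) (F : Frame z p x y) {e : ZMod 5 → ZMod 2} (h0 : e 0 = 0)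
    (hs : ∀ i, e (-i) = e i) :
    (∃ u ∈ U z p (y 0), ¬ InQ z p x u ∧ Refl x y u e) ∨
      ∃ u ∈ U z p (x * y 0), ¬ InQ z p x u ∧ Refl x y u e := by
  have a := F.adj_y 0
  have b := h.third a
  have hx := h.isPt_left a
  have hx2 : y 0 = x * (x * y 0) := by rw [← mul_assoc, F.xx, one_mul]
  obtain ⟨e1, ⟨u1, h1, h2, h3⟩, ⟨u1', h1', h2', h3'⟩⟩ := h.exists_refls F a (Or.inl rfl)
  obtain ⟨e2, ⟨u2, h4, h5, h6⟩, ⟨u2', h4', h5', h6'⟩⟩ := h.exists_refls F b (Or.inr hx2)
  have key : ∀ {e u u'}, u ∈ U z p (y 0) → ¬ InQ z p x u → Refl x y u e → u' ∈ U z p (x * y 0) →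
      ¬ InQ z p x u' → Refl x y u' e → False := by
    intro e u u' k1 k2 k3 k4 k5 k6
    have k7 := h.mem_of_same F a k1 k2 k3 k6 (h.U_sq (h.isPt_right b) k4)
    apply k5
    have k8 := h.mem_U_third (h.symm a) k7
    rw [← h.adj_comm a] at k8
    exact h.inQ_of_mem hx (k8.mp k4)
  have n1 : e1 ≠ e2 := by
    rintro rfl
    exact key h1 h2 h3 h4 h5 h6
  have n2 : e1 ≠ e2 + nn := by
    rintro rfl
    exact key h1 h2 h3 h4' h5' h6'
  have e0 : ∀ e e1 e2 : ZMod 5 → ZMod 2, e 0 = 0 → (∀ i, e (-i) = e i) → e1 0 = 0 →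
      (∀ i, e1 (-i) = e1 i) → e2 0 = 0 → (∀ i, e2 (-i) = e2 i) → e1 ≠ e2 → e1 ≠ e2 + nn →
      e = e1 ∨ e = e1 + nn ∨ e = e2 ∨ e = e2 + nn := by
    intro e e1 e2 a1 a2 b1 b2 c1 c2 n1 n2
    have k : ∀ e : ZMod 5 → ZMod 2, e 0 = 0 → (∀ i, e (-i) = e i) →
        e = fun i => if i = 0 then 0 else if i = 1 ∨ i = 4 then e 1 else e 2 := by decide
    have a3 := k e a1 a2
    have b3 := k e1 b1 b2
    have c3 := k e2 c1 c2
    generalize e 1 = s1 at a3
    generalize e 2 = s2 at a3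
    generalize e1 1 = t1 at b3
    generalize e1 2 = t2 at b3
    generalize e2 1 = r1 at c3
    generalize e2 2 = r2 at c3
    subst a3 b3 c3
    revert n1 n2
    clear * -
    revert s1 s2 t1 t2 r1 r2
    decide
  rcases e0 e e1 e2 h0 hs h3.2.1 h3.2.2.1 h6.2.1 h6.2.2.1 n1 n2 with h7 | h7 | h7 | h7
  · left; exact ⟨u1, h1, h2, h7 ▸ h3⟩
  · left; exact ⟨u1', h1', h2', h7 ▸ h3'⟩
  · right; exact ⟨u2, h4, h5, h7 ▸ h6⟩
  · right; exact ⟨u2', h4', h5', h7 ▸ h6'⟩

omit [Finite G] in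
theorem tl_symm (h : FinHyp z p) (a : TL z p v x w) : TL z p v w x :=
  ⟨h.symm a.1, a.2.2.1, a.2.1, a.2.2.2.1, a.2.2.2.2.2.1, a.2.2.2.2.1, by
    rw [← h.adj_comm a.1]; exact a.2.2.2.2.2.2⟩

theorem tl_third (h : FinHyp z p) (a : TL z p v x w) : TL z p v x (x * w) := by
  refine ⟨h.third a.1, a.2.1, (h.mem_U_third a.1 a.2.1).mpr a.2.2.1, a.2.2.2.1, a.2.2.2.2.1,
    a.2.2.2.2.2.2, ?_⟩
  rw [← mul_assoc, h.sq (h.isPt_left a.1), one_mul]
  exact a.2.2.2.2.2.1

/-- the signs `(0, 1, 0, 0, 1)` -/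
def dd : ZMod 5 → ZMod 2 := fun i => if i = 1 ∨ i = 4 then 1 else 0

omit [Finite G] in
theorem six_calc {a b v c1 c2 c3 : G} (ha : a * a = 1) (hb : b * b = 1) (hv : v * v = 1)
    (h1 : v * a = c1 * a * v) (h2 : v * b = c2 * b * v) (h3 : b * a = c3 * a * b)
    (c1a : c1 * a = a * c1) (c1b : c1 * b = b * c1) (c2a : c2 * a = a * c2) (c2b : c2 * b = b * c2)
    (c3a : c3 * a = a * c3) : a * b * v * (a * b * v) = c1 * c2 * c3 := by
  calc a * b * v * (a * b * v) = a * b * (v * a) * b * v := by group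
    _ = a * (b * c1) * a * v * b * v := by rw [h1]; group
    _ = a * (c1 * b) * a * v * b * v := by rw [c1b]
    _ = (a * c1) * b * a * (v * b) * v := by group
    _ = (c1 * a) * b * a * (c2 * b * v) * v := by rw [← c1a, h2]
    _ = c1 * a * b * (a * c2) * b * (v * v) := by group
    _ = c1 * a * b * (c2 * a) * b := by rw [← c2a, hv, mul_one]
    _ = c1 * a * (b * c2) * a * b := by group
    _ = c1 * (a * c2) * b * a * b := by rw [← c2b]; group
    _ = c1 * c2 * a * (b * a) * b := by rw [← c2a]; group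
    _ = c1 * c2 * (a * c3) * a * (b * b) := by rw [h3]; group
    _ = c1 * c2 * c3 * (a * a) := by rw [← c3a, hb]; group
    _ = c1 * c2 * c3 := by rw [ha, mul_one]

/-- no involution acts with signs of weight 2 -/
theorem no_weight_two (h : FinHyp z p) (F : Frame z p x y) (hg : Trv x y g dd) (hg2 : g * g = 1) : False := by
  have a := F.adj_y 0
  have b := h.third a
  have hx := h.isPt_left a
  set w := y 0 with hw0
  have hwx : w * x = x * w := (h.adj_comm a).symm
  have hxx := h.sq hx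
  have hww := h.sq (h.isPt_right a)
  obtain ⟨e1, ⟨u1, h1, h2, h3⟩, _⟩ := h.exists_refls F a (Or.inl rfl)
  have hsym : ∀ i, (e1 + dd) (-i) = (e1 + dd) i := by
    intro i
    have : ∀ i : ZMod 5, dd (-i) = dd i := by decide
    rw [Pi.add_apply, Pi.add_apply, h3.2.2.1, this]
  have hee : e1 + (e1 + dd) = dd := by
    funext i
    have : ∀ a b : ZMod 2, a + (a + b) = b := by decide
    exact this _ _
  obtain ⟨u2, h4, h5, h6⟩ : ∃ u ∈ U z p (x * w), ¬ InQ z p x u ∧ Refl x y u (e1 + dd) := by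
    rcases h.refl_all F (e := e1 + dd) (by rw [Pi.add_apply, h3.2.1]; rfl) hsym with h4 | h4
    · exfalso
      obtain ⟨u2, h4, h5, h6⟩ := h4
      have h7 := Refl.mul F.toElem h3 h6
      rw [hee] at h7
      have h8 : InQ z p x (u1 * u2) := h.inQ_mul (h.symm a) h1 h4 h2 h5
      by_cases h9 : u1 * u2 ∈ U z p x
      · have h10 : (u1 * u2) * y 1 * (u1 * u2)⁻¹ = y 1 := by
          rw [h.U_comm hx h9 (mem_U_of_adj (F.adj_y 1)), mul_inv_cancel_right]
        have h11 := h7.2 1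
        rw [h10] at h11
        have h12 : tw x 0 * y 1 = tw x (dd 1) * y 1 := by rw [← h11, tw_zero, one_mul]
        exact absurd (F.tw_unique h12).2 (by decide)
      · have h10 := h.trv_F F a (Or.inl rfl) (mul_mem h1 h4) h8 h9
        have h11 := h7.2 2
        rw [h10.2 2] at h11
        exact absurd (F.tw_unique h11).2 (by decide)
    · exact h4
  have hu1 := h.U_sq (h.isPt_right a) h1
  have hu2 := h.U_sq (h.isPt_right b) h4
  have h7 := Refl.mul F.toElem h3 h6
  rw [hee] at h7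
  -- v
  have hv : (u1 * u2)⁻¹ * g ∈ U z p x := by
    have hq : u1 * u2 * x * (u1 * u2)⁻¹ = x := by rw [h7.1, mul_inv_cancel_right]
    apply F.cent
    · have e1 : (u1 * u2) * (((u1 * u2)⁻¹ * g) * x) = (u1 * u2) * (x * ((u1 * u2)⁻¹ * g)) := by
        calc (u1 * u2) * (((u1 * u2)⁻¹ * g) * x) = g * x := by group
          _ = x * g := hg.1
          _ = (u1 * u2 * x * (u1 * u2)⁻¹) * g := by rw [hq]
          _ = _ := by group
      exact mul_left_cancel e1
    · intro i
      have e1 : g * y i * g⁻¹ = (u1 * u2) * y i * (u1 * u2)⁻¹ := by rw [hg.2, h7.2]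
      calc (u1 * u2)⁻¹ * g * y i = (u1 * u2)⁻¹ * (g * y i * g⁻¹) * g := by group
        _ = (u1 * u2)⁻¹ * ((u1 * u2) * y i * (u1 * u2)⁻¹) * g := by rw [e1]
        _ = _ := by group
  obtain ⟨v, hvdef⟩ : ∃ v, v = (u1 * u2)⁻¹ * g := ⟨_, rfl⟩
  rw [← hvdef] at hv
  have hgv : g = u1 * u2 * v := by rw [hvdef]; group
  have hv2 := h.U_sq hx hv
  -- more InQ facts
  have hxw2 : x * w * x = w := by rw [mul_assoc, hwx, ← mul_assoc, hxx, one_mul]
  have q1 : ¬ InQ z p (x * w) u1 := by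
    rw [← hwx, h.inQ_third (h.symm a) h1]; exact h2
  have q2 : ¬ InQ z p w u2 := by
    have := h.inQ_third (h.symm b) h4
    rw [hxw2] at this
    rw [this]; exact h5
  have aw : Adj z p w (x * w) := by
    have := h.third (h.symm a)
    rwa [hwx] at this
  -- c12
  have t12' : TL z p (u2 * u1 * u2⁻¹ * u1⁻¹) w (x * w) := h.comm_TL aw h4 q2 h1 q1
  have t12 : TL z p (u2 * u1 * u2⁻¹ * u1⁻¹) x w := by
    have := h.tl_symm (h.tl_third t12')
    rwa [show w * (x * w) = x by rw [← mul_assoc, hwx, mul_assoc, hww, mul_one]] at this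
  have hu1' : u1⁻¹ = u1 := inv_eq_of_mul_eq_one_left hu1
  have hu2' : u2⁻¹ = u2 := inv_eq_of_mul_eq_one_left hu2
  -- elements of E are central
  have hE : ∀ c, c ∈ U z p x → c ∈ U z p w → (c * u1 = u1 * c ∧ c * u2 = u2 * c) := by
    intro c k1 k2
    refine ⟨h.U_comm (h.isPt_right a) k2 h1, h.U_comm (h.isPt_right b) ?_ h4⟩
    exact (h.mem_U_third a k1).mpr k2
  have hc3 := hE _ t12.2.1 t12.2.2.1
  have key : ∀ c1 c2, c1 ∈ U z p x → c1 ∈ U z p w → c2 ∈ U z p x → c2 ∈ U z p w →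
      v * u1 = c1 * u1 * v → v * u2 = c2 * u2 * v →
      c1 * c2 * (u2 * u1 * u2⁻¹ * u1⁻¹) = 1 := by
    intro c1 c2 k1 k2 k3 k4 k5 k6
    rw [← six_calc hu1 hu2 hv2 k5 k6 (by group) (hE c1 k1 k2).1 (hE c1 k1 k2).2 (hE c2 k3 k4).1
      (hE c2 k3 k4).2 hc3.1, ← hgv, hg2]
  have inV : ∀ t, t ∈ U z p x → t * (u2 * u1 * u2⁻¹ * u1⁻¹) = 1 →
      ¬ (t = 1 ∨ t = x ∨ t = w ∨ t = x * w) := by
    intro t ht ht1 ht2
    have ht3 : u2 * u1 * u2⁻¹ * u1⁻¹ = t := by
      have h8 := h.U_sq hx ht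
      exact mul_left_cancel (ht1.trans h8.symm)
    obtain ⟨_, _, _, n1, n2, n3, n4⟩ := t12
    rw [ht3] at n1 n2 n3 n4
    rcases ht2 with h9 | h9 | h9 | h9
    · exact n1 h9
    · exact n2 h9
    · exact n3 h9
    · exact n4 h9
  by_cases hq : InQ z p w v
  · -- commutators in V
    have hq' : InQ z p (x * w) v := (h.inQ_third a hv).mpr hq
    obtain ⟨c1, k1, k2⟩ : ∃ c1, (c1 = 1 ∨ c1 = w) ∧ v * u1 = c1 * u1 * v := by
      rcases h.inQ_act (h.isPt_right a) hq h1 with h8 | h8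
      · exact ⟨1, Or.inl rfl, by rw [mul_inv_eq_iff_eq_mul] at h8; rw [h8, one_mul]⟩
      · exact ⟨w, Or.inr rfl, by rw [mul_inv_eq_iff_eq_mul] at h8; rw [h8]⟩
    obtain ⟨c2, k3, k4⟩ : ∃ c2, (c2 = 1 ∨ c2 = x * w) ∧ v * u2 = c2 * u2 * v := by
      rcases h.inQ_act (h.isPt_right b) hq' h4 with h8 | h8
      · exact ⟨1, Or.inl rfl, by rw [mul_inv_eq_iff_eq_mul] at h8; rw [h8, one_mul]⟩
      · exact ⟨x * w, Or.inr rfl, by rw [mul_inv_eq_iff_eq_mul] at h8; rw [h8]⟩
    have mw : w ∈ U z p x := mem_U_of_adj a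
    have mx : x ∈ U z p x := self_mem_U
    have mw' : w ∈ U z p w := self_mem_U
    have mx' : x ∈ U z p w := mem_U_of_adj (h.symm a)
    have m1 : c1 ∈ U z p x ∧ c1 ∈ U z p w := by
      rcases k1 with rfl | rfl
      · exact ⟨one_mem _, one_mem _⟩
      · exact ⟨mw, mw'⟩
    have m2 : c2 ∈ U z p x ∧ c2 ∈ U z p w := by
      rcases k3 with rfl | rfl
      · exact ⟨one_mem _, one_mem _⟩
      · exact ⟨mul_mem mx mw, mul_mem mx' mw'⟩
    refine inV _ (mul_mem m1.1 m2.1) (key c1 c2 m1.1 m1.2 m2.1 m2.2 k2 k4) ?_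
    rcases k1 with rfl | rfl <;> rcases k3 with rfl | rfl
    · simp
    · simp
    · simp
    · right; left
      rw [← mul_assoc, hwx, mul_assoc, hww, mul_one]
  · have hq' : ¬ InQ z p (x * w) v := fun h8 => hq ((h.inQ_third a hv).mp h8)
    have t1 : TL z p (v * u1 * v⁻¹ * u1⁻¹) x w := h.tl_symm (h.comm_TL (h.symm a) hv hq h1 h2)
    have t2' : TL z p (v * u2 * v⁻¹ * u2⁻¹) x (x * w) :=
      h.tl_symm (h.comm_TL (h.symm b) hv hq' h4 h5)
    have t2 : TL z p (v * u2 * v⁻¹ * u2⁻¹) x w := by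
      have := h.tl_third t2'
      rwa [← mul_assoc, hxx, one_mul] at this
    exact inV _ (mul_mem t1.2.1 t2.2.1) (key _ _ t1.2.1 t1.2.2.1 t2.2.1 t2.2.2.1 (by group) (by group))
      (h.TL_mul t1 t2)

omit [Finite G] in
/-- reindexing the frame for an element acting as a transvection -/
theorem trv_twist {k : ZMod 5} {j : ZMod 5} (hg : Trv x y g e) :
    Trv x (fun i => tw x ((0 : ZMod 5 → ZMod 2) i) * y (k * i + j)) g (fun i => e (k * i + j)) := by
  refine ⟨hg.1, fun i => ?_⟩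
  simp only [Pi.zero_apply, tw_zero, one_mul]
  exact hg.2 _

/-- all involutions commuting with a point -/
theorem invol (h : FinHyp z p) (hx : IsPt z x) (hc : u * x = x * u) (hu : u * u = 1) :
    u ∈ U z p x ∨ ∃ w, Adj z p x w ∧ u ∈ U z p w := by
  obtain ⟨y, F⟩ := h.exists_frame hx
  obtain ⟨k, j, e, hk, he, hy⟩ := F.act u hc
  have h4 : ∀ i, tw x (e i + e (k * i + j)) * y (k * (k * i + j) + j) = tw x 0 * y i := by
    intro i
    have h5 : u * (u * y i * u⁻¹) * u⁻¹ = y i := by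
      calc u * (u * y i * u⁻¹) * u⁻¹ = (u * u) * y i * (u * u)⁻¹ := by group
        _ = y i := by rw [hu]; group
    have h6 : u * (tw x (e i) * y (k * i + j)) * u⁻¹ =
        (u * tw x (e i) * u⁻¹) * (u * y (k * i + j) * u⁻¹) := by group
    rw [hy, h6, conj_tw hc, hy, ← mul_assoc, ← tw_add F.xx] at h5
    rw [h5, tw_zero, one_mul]
  have h5 := (F.tw_unique (h4 0)).1
  have h6 := (F.tw_unique (h4 1)).1
  have h7 : (k = 1 ∧ j = 0) ∨ k = -1 := by
    have : ∀ k j : ZMod 5, k * (k * 0 + j) + j = 0 → k * (k * 1 + j) + j = 1 → (k = 1 ∧ j = 0) ∨ k = -1 := by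
      decide
    exact this k j h5 h6
  have hz0 : ∑ i : ZMod 5, (0 : ZMod 5 → ZMod 2) i = 0 := by simp
  rcases h7 with ⟨rfl, rfl⟩ | rfl
  · have ht : Trv x y u e := ⟨hc, fun i => by rw [hy, one_mul, add_zero]⟩
    have h8 : ∀ e : ZMod 5 → ZMod 2, ∑ i, e i = 0 → (∀ i, e i = 0) ∨
        (∃ m, ∀ i, e (1 * i + m) = nn i) ∨ (∃ k' j', k' ≠ 0 ∧ ∀ i, e (k' * i + j') = dd i) := by decide
    rcases h8 e he with h8 | ⟨m, h8⟩ | ⟨k', j', hk', h8⟩
    · left
      exact Trv.mem F ht h8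
    · right
      have F' := F.twist (k := 1) (by decide) m hz0
      have ht' := trv_twist (k := 1) (j := m) ht
      rw [show (fun i => e (1 * i + m)) = nn from funext h8] at ht'
      generalize (fun i => tw x ((0 : ZMod 5 → ZMod 2) i) * y (1 * i + m)) = y' at F' ht'
      have a := F'.adj_y 0
      obtain ⟨f, hf, hf1, hf2⟩ := h.exists_F a
      have hf' := h.trv_F F' a (Or.inl rfl) hf hf1 hf2
      have hff := h.U_sq (h.isPt_right a) hf
      have hv : u * f ∈ U z p x := by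
        apply Trv.mem (e := nn + nn) F'
        · refine ⟨by rw [mul_assoc, hf'.1, ← mul_assoc, hc, mul_assoc], fun i => ?_⟩
          calc u * f * y' i * (u * f)⁻¹ = u * (f * y' i * f⁻¹) * u⁻¹ := by group
            _ = (u * tw x (nn i) * u⁻¹) * (u * y' i * u⁻¹) := by rw [hf'.2]; group
            _ = _ := by rw [conj_tw hc, ht'.2, ← mul_assoc, ← tw_add F'.xx, Pi.add_apply]
        · decide
      have huv : u = u * f * f := by rw [mul_assoc, hff, mul_one]
      by_cases hq : InQ z p (y' 0) (u * f)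
      · by_cases hm : u * f ∈ U z p (y' 0)
        · refine ⟨_, a, ?_⟩
          rw [huv]
          exact mul_mem hm hf
        · -- u = (u f) f ∈ U_{x w}
          refine ⟨_, h.third a, ?_⟩
          have b := h.third a
          have e1 : (x * y' 0) * x = y' 0 := by
            rw [h.adj_comm a, mul_assoc, F'.xx, mul_one]
          have k1 : InQ z p (x * y' 0) (u * f) := (h.inQ_third a hv).mpr hq
          have k2 : u * f ∉ U z p (x * y' 0) := fun k => hm ((h.mem_U_third a hv).mp k)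
          have k3 : InQ z p (x * y' 0) f := by
            have := h.inQ_third (h.symm a) hf
            rw [← h.adj_comm a] at this
            exact this.mpr hf1
          have k4 : f ∉ U z p (x * y' 0) := by
            have := h.mem_U_third (h.symm a) hf
            rw [← h.adj_comm a] at this
            exact fun k => hf2 (this.mp k)
          have k5 := h.F_mul (h.symm b) hv k1 k2 (g := f) (by rw [e1]; exact hf) k3 k4
          rw [huv]
          exact k5.1
      · exfalso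
        have k1 := h.F_act a hf hf1 hf2 hv hq
        have k2 : u * f * x * (u * f) = 1 := by
          calc u * f * x * (u * f) = u * f * (x * (u * f)) := by group
            _ = u * f * (f * (u * f) * f⁻¹) := by rw [k1]
            _ = u * (f * f) * u * (f * f⁻¹) := by group
            _ = 1 := by rw [hff]; simp [hu]
        have k3 : u * f * x * (u * f) = x := by
          rw [h.U_comm hx hv self_mem_U, mul_assoc, h.U_sq hx hv, mul_one]
        exact h.ne_one hx (k3.symm.trans k2)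
    · exfalso
      have F' := F.twist hk' j' hz0
      have ht' := trv_twist (k := k') (j := j') ht
      rw [show (fun i => e (k' * i + j')) = dd from funext h8] at ht'
      exact h.no_weight_two F' ht' hu
  · right
    have F' := F.twist (k := 1) (by decide) (3 * j) hz0
    have hr : Refl x (fun i => tw x ((0 : ZMod 5 → ZMod 2) i) * y (1 * i + 3 * j)) u
        (fun i => e (1 * i + 3 * j)) := by
      have hs : ∀ i, e (-i + 3 * j) = e (i + 3 * j) := by
        intro i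
        have h8 := (F.tw_unique (h4 (i + 3 * j))).2
        have h9 : ∀ i j : ZMod 5, -1 * (i + 3 * j) + j = -i + 3 * j := by decide
        rw [h9] at h8
        have e1 : ∀ a b : ZMod 2, a + b = 0 → b = a := by decide
        exact e1 _ _ h8
      refine ⟨hc, ?_, fun i => ?_, fun i => ?_⟩
      · have h8 : ∀ e : ZMod 5 → ZMod 2, (∀ i, e (-i) = e i) → ∑ i, e i = 0 → e 0 = 0 := by decide
        refine h8 (fun i => e (1 * i + 3 * j)) (fun i => ?_) ?_
        · show e (1 * (-i) + 3 * j) = e (1 * i + 3 * j)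
          rw [one_mul, one_mul]; exact hs i
        · rw [← he]
          exact Fintype.sum_equiv (Equiv.addRight (3 * j)) _ _ (fun i => by simp)
      · show e (1 * (-i) + 3 * j) = e (1 * i + 3 * j)
        rw [one_mul, one_mul]; exact hs i
      · simp only [Pi.zero_apply, tw_zero, one_mul]
        rw [hy]
        congr 2
        have h9 : ∀ i j : ZMod 5, -1 * (i + 3 * j) + j = -i + 3 * j := by decide
        exact h9 i j
    rcases h.refl_all F' (e := fun i => e (1 * i + 3 * j)) hr.2.1 hr.2.2.1 with ⟨u', k1, k2, k3⟩ | ⟨u', k1, k2, k3⟩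
    · exact ⟨_, F'.adj_y 0, h.mem_of_same F' (F'.adj_y 0) k1 k2 k3 hr hu⟩
    · exact ⟨_, h.third (F'.adj_y 0), h.mem_of_same F' (h.third (F'.adj_y 0)) k1 k2 k3 hr hu⟩

theorem U_cases (h : FinHyp z p) (hx : IsPt z x) (hu : u ∈ U z p x) :
    u = 1 ∨ u = x ∨ Adj z p x u ∨ ∃ w, TL z p u x w := by
  obtain ⟨y, F⟩ := h.exists_frame hx
  obtain ⟨a, s, rfl⟩ := (F.mem u).mp hu
  have h1 : ∀ s : ZMod 5 → ZMod 2, (s = 0 ∨ s = 0 + 1) ∨ (∃ m, s = Pi.single m 1 ∨ s = Pi.single m 1 + 1) ∨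
      ∃ m, Sy 0 (fun i => s (i + m)) ∧ (fun i => s (i + m)) ≠ 0 ∧ (fun i => s (i + m)) ≠ 1 ∧
        (fun i => s (i + m)) ≠ Pi.single 0 1 ∧ (fun i => s (i + m)) ≠ Pi.single 0 1 + 1 := by decide
  rcases h1 s with h2 | ⟨m, h2⟩ | ⟨m, h2⟩
  · have h3 : el x y a s = tw x a := by
      rcases h2 with rfl | rfl
      · rw [el_tw]
      · rw [F.el_add_one, el_tw]
    rw [h3]
    rcases zmod2 a with rfl | rfl <;> simp
  · right; right; left
    have h3 : el x y a s = tw x a * y m := by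
      rw [F.tw_y]
      rcases h2 with rfl | rfl
      · rfl
      · rw [F.el_add_one]
    rw [h3]
    exact F.adj_tw a m
  · right; right; right
    obtain ⟨y', F', h0, h3⟩ := shift_frame F m 0
    obtain ⟨a', h4⟩ := h3 a s
    refine ⟨y' 0, ?_⟩
    rw [h4, h.tl_iff F' rfl]
    exact h2

end FinHyp

end Cfsg.Agent.Classification.TitsFin
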