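import Mathlib
import Cfsg.Agent.Classification.TitsFin.LocalThree

/-!
# Local structure: the second class of involutions
-/

set_option autoImplicit false

namespace Cfsg.Agent.Classification.TitsFin

open Subgroup

variable {G : Type*} [Group G]

namespace FinHyp

variable [Finite G] {z p x w f g u v : G} {y : ZMod 5 → G} {e e' : ZMod 5 → ZMod 2}

/-- coordinates of the elements of `E - V` -/
def Cd (s : ZMod 5 → ZMod 2) : Prop :=
  Sy 0 s ∧ s ≠ 0 ∧ s ≠ 1 ∧ s ≠ Pi.single 0 1 ∧ s ≠ Pi.single 0 1 + 1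

instance (s : ZMod 5 → ZMod 2) : Decidable (Cd s) := by unfold Cd; infer_instance

theorem cd_cases : ∀ s, Cd s → (s = Pi.single 1 1 + Pi.single 4 1 ∨ s = Pi.single 1 1 + Pi.single 4 1 + 1) ∨
    (s = Pi.single 2 1 + Pi.single 3 1 ∨ s = Pi.single 2 1 + Pi.single 3 1 + 1) := by decide

/-- `C(x)` is transitive on `E - V` -/
theorem TL_conj (h : FinHyp z p) (hu : TL z p u x w) (hv : TL z p v x w) :
    ∃ g, g * x = x * g ∧ g * u * g⁻¹ = v := by
  obtain ⟨y, F, h0⟩ := h.exists_frame_adj hu.1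
  obtain ⟨a, s, rfl⟩ := (F.mem u).mp hu.2.1
  obtain ⟨b, t, rfl⟩ := (F.mem v).mp hv.2.1
  rw [h.tl_iff F h0] at hu hv
  have e1 : ∀ s t, Cd s → Cd t → ∃ k k' : ZMod 5, k * k' = 1 ∧ k ≠ 0 ∧
      (t = (fun m => s (k' * (m - 0))) ∨ t = (fun m => s (k' * (m - 0))) + 1) := by decide
  have e2 : ∀ s, Cd s → ∀ c : ZMod 2, ∃ e : ZMod 5 → ZMod 2, ∑ i, e i = 0 ∧ ∑ i, e i * s i = c := by decide
  obtain ⟨k, k', hk, hk0, ht⟩ := e1 s t hu hv
  obtain ⟨e, he, hes⟩ := e2 s hu (a + b)
  obtain ⟨g, hg, hgy⟩ := F.real k 0 e hk0 he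
  refine ⟨g, hg, ?_⟩
  have hgx : g * x * g⁻¹ = x := by rw [hg, mul_inv_cancel_right]
  rw [el_conj, hgx, show (fun i => g * y i * g⁻¹) = fun i => tw x (e i) * y (k * i + 0) from funext hgy,
    el_aff F.toElem hk, hes]
  have e3 : ∀ a b : ZMod 2, a + (a + b) = b := by decide
  rw [e3]
  rcases ht with ht | ht
  · rw [ht]
  · rw [ht, F.el_add_one]

omit [Finite G] in
/-- flags are conjugate -/
theorem adj_conj (a : Adj z p x w) {x' w' : G} (b : Adj z p x' w') :
    ∃ g, g * x * g⁻¹ = x' ∧ g * w * g⁻¹ = w' := by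
  obtain ⟨g, h1, h2⟩ := a
  obtain ⟨k, h3, h4⟩ := b
  refine ⟨k * g⁻¹, ?_, ?_⟩
  · rw [← h1, ← h3]; group
  · rw [← h2, ← h4]; group

/-- an element `c` permuting the three points of a line cyclically -/
theorem exists_three (h : FinHyp z p) (hv : TL z p v x w) : ∃ c v', TL z p v' x w ∧ c * v' = v' * c ∧
    c * x * c⁻¹ = x * w ∧ c * w * c⁻¹ = x := by
  have a := hv.1
  have hwx : w * x = x * w := (h.adj_comm a).symm
  have hxx := h.sq (h.isPt_left a)
  have hww := h.sq (h.isPt_right a)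
  obtain ⟨c, h1, h2⟩ := adj_conj a (h.symm (h.third a))
  have h3 : c * (x * w) * c⁻¹ = w := by
    calc c * (x * w) * c⁻¹ = (c * x * c⁻¹) * (c * w * c⁻¹) := by group
      _ = w := by rw [h1, h2, mul_assoc, hwx, ← mul_assoc, hxx, one_mul]
  have hcv : TL z p (c * v * c⁻¹) x w := by
    have k1 : TL z p (c * v * c⁻¹) (x * w) x := by
      obtain ⟨b1, b2, b3, b4, b5, b6, b7⟩ := hv
      refine ⟨h.symm (h.third a), ?_, ?_, ?_, ?_, ?_, ?_⟩
      · rw [← h1, conj_mem_U]; exact b2
      · have := (conj_mem_U (g := c) (u := v) (x := w) (z := z) (p := p)).mpr b3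
        rwa [h2] at this
      · intro k
        apply b4
        have := congrArg (fun t => c⁻¹ * t * c) k
        simpa [mul_assoc] using this
      · intro k
        rw [← h1] at k
        exact b5 (mul_left_cancel (mul_right_cancel k))
      · intro k
        rw [← h2] at k
        exact b6 (mul_left_cancel (mul_right_cancel k))
      · intro k
        have e : x * w * x = w := by rw [mul_assoc, hwx, ← mul_assoc, hxx, one_mul]
        rw [e, ← h3] at k
        exact b7 (mul_left_cancel (mul_right_cancel k))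
    have := h.tl_third (h.tl_symm k1)
    rwa [← mul_assoc, hxx, one_mul] at this
  have hvv := h.U_sq (h.isPt_left a) hv.2.1
  have hvx : v * x = x * v := h.U_comm (h.isPt_left a) hv.2.1 self_mem_U
  have hvw : v * w = w * v := h.U_comm (h.isPt_left a) hv.2.1 (mem_U_of_adj a)
  -- multiply by an element of V
  have key : ∀ s, (s = 1 ∨ s = x ∨ s = w ∨ s = x * w) → TL z p (v * s) x w := by
    intro s hs
    have ms : s ∈ U z p x ∧ s ∈ U z p w := by
      rcases hs with rfl | rfl | rfl | rfl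
      · exact ⟨one_mem _, one_mem _⟩
      · exact ⟨self_mem_U, mem_U_of_adj (h.symm a)⟩
      · exact ⟨mem_U_of_adj a, self_mem_U⟩
      · exact ⟨mul_mem self_mem_U (mem_U_of_adj a), mul_mem (mem_U_of_adj (h.symm a)) self_mem_U⟩
    have hss := h.U_sq (h.isPt_left a) ms.1
    have inV : ∀ t, (t = 1 ∨ t = x ∨ t = w ∨ t = x * w) → (t * s = 1 ∨ t * s = x ∨ t * s = w ∨ t * s = x * w) := by
      intro t ht
      rcases ht with rfl | rfl | rfl | rfl <;> rcases hs with rfl | rfl | rfl | rfl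
      · simp
      · simp
      · simp
      · simp
      · simp
      · simp [hxx]
      · simp
      · right; right; left; rw [← mul_assoc, hxx, one_mul]
      · simp
      · simp [hwx]
      · simp [hww]
      · right; left; rw [← mul_assoc, hwx, mul_assoc, hww, mul_one]
      · simp
      · right; right; left; rw [mul_assoc, hwx, ← mul_assoc, hxx, one_mul]
      · right; left; rw [mul_assoc, hww, mul_one]
      · left; rw [mul_assoc, ← mul_assoc w, hwx, mul_assoc x w w, hww, mul_one, hxx]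
    have nn : ∀ t, (t = 1 ∨ t = x ∨ t = w ∨ t = x * w) → v * s ≠ t := by
      intro t ht k
      have k2 : v = t * s := by rw [← k, mul_assoc, hss, mul_one]
      obtain ⟨_, _, _, b4, b5, b6, b7⟩ := hv
      rcases inV t ht with k3 | k3 | k3 | k3 <;> rw [k3] at k2
      · exact b4 k2
      · exact b5 k2
      · exact b6 k2
      · exact b7 k2
    exact ⟨a, mul_mem hv.2.1 ms.1, mul_mem hv.2.2.1 ms.2, nn 1 (by simp), nn x (by simp), nn w (by simp),
      nn (x * w) (by simp)⟩
  have hcv' : ∀ t, v * (c * v * c⁻¹) = t → c * v * c⁻¹ = v * t := by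
    intro t ht
    rw [← ht, ← mul_assoc, hvv, one_mul]
  rcases h.TL_mul hv hcv with k | k | k | k
  · refine ⟨c, v, hv, ?_, h1, h2⟩
    have := hcv' _ k
    rw [mul_one, mul_inv_eq_iff_eq_mul] at this
    exact this
  · refine ⟨c, v * (x * w), key _ (by simp), ?_, h1, h2⟩
    have k2 := hcv' _ k
    have k3 : c * (v * (x * w)) * c⁻¹ = v * (x * w) := by
      calc c * (v * (x * w)) * c⁻¹ = (c * v * c⁻¹) * (c * (x * w) * c⁻¹) := by group
        _ = _ := by rw [k2, h3, mul_assoc]
    rw [mul_inv_eq_iff_eq_mul] at k3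
    exact k3
  · refine ⟨c, v * x, key _ (by simp), ?_, h1, h2⟩
    have k2 := hcv' _ k
    have k3 : c * (v * x) * c⁻¹ = v * x := by
      calc c * (v * x) * c⁻¹ = (c * v * c⁻¹) * (c * x * c⁻¹) := by group
        _ = v * (w * x * w) := by rw [k2, h1]; group
        _ = _ := by rw [hwx, mul_assoc x, hww, mul_one]
    rw [mul_inv_eq_iff_eq_mul] at k3
    exact k3
  · refine ⟨c, v * w, key _ (by simp), ?_, h1, h2⟩
    have k2 := hcv' _ k
    have k3 : c * (v * w) * c⁻¹ = v * w := by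
      calc c * (v * w) * c⁻¹ = (c * v * c⁻¹) * (c * w * c⁻¹) := by group
        _ = v * (x * w * x) := by rw [k2, h2]; group
        _ = _ := by rw [mul_assoc x, hwx, ← mul_assoc x, hxx, one_mul]
    rw [mul_inv_eq_iff_eq_mul] at k3
    exact k3

theorem TL_not_isPt (h : FinHyp z p) (a : TL z p v x w) : ¬ IsPt z v := by
  intro hv
  obtain ⟨c, v', h1, h2, h3, h4⟩ := h.exists_three a
  obtain ⟨g, _, h5⟩ := h.TL_conj a h1
  have hv' : IsPt z v' := h5 ▸ hv.conj g
  have h6 := h.card_cent hv'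
  have hc : c ∈ centralizer ({v'} : Set G) := mem_centralizer_singleton_iff.mpr h2
  have h7 : orderOf c ∣ 10240 := by
    rw [← h6]
    have := orderOf_dvd_natCard (⟨c, hc⟩ : centralizer ({v'} : Set G))
    rwa [Subgroup.orderOf_mk] at this
  have h8 : Nat.Coprime 3 (orderOf c) := Nat.Coprime.coprime_dvd_right h7 (by norm_num)
  obtain ⟨m, hm⟩ := exists_pow_eq_self_of_coprime h8
  have hwx : w * x = x * w := (h.adj_comm a.1).symm
  have hxx := h.sq (h.isPt_left a.1)
  have h9 : Commute (c ^ 3) x := by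
    have e0 : c * (x * w) * c⁻¹ = w := by
      calc c * (x * w) * c⁻¹ = (c * x * c⁻¹) * (c * w * c⁻¹) := by group
        _ = w := by rw [h3, h4, mul_assoc, hwx, ← mul_assoc, hxx, one_mul]
    have e1 : c ^ 3 * x * (c ^ 3)⁻¹ = x := by
      rw [pow_succ, pow_two]
      calc c * c * c * x * (c * c * c)⁻¹ = c * (c * (c * x * c⁻¹) * c⁻¹) * c⁻¹ := by group
        _ = x := by rw [h3, e0, h4]
    exact mul_inv_eq_iff_eq_mul.mp e1
  have h10 : Commute c x := by
    have := h9.pow_left m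
    rwa [hm] at this
  have h11 : c * x * c⁻¹ = x := by rw [h10.eq, mul_inv_cancel_right]
  rw [h3] at h11
  exact h.ne_one (h.isPt_right a.1) (mul_eq_left.mp h11)

theorem isPt_inQ (h : FinHyp z p) (hx : IsPt z x) (hv : IsPt z v) (hQ : InQ z p x v) : v ∈ U z p x := by
  rcases h.invol hx hQ.1 (h.sq hv) with h1 | ⟨w, a, h1⟩
  · exact h1
  · rcases h.U_cases (h.isPt_right a) h1 with h2 | h2 | h2 | ⟨w', h2⟩
    · rw [h2]; exact one_mem _
    · rw [h2]; exact mem_U_of_adj a
    · by_cases h3 : v = x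
      · rw [h3]; exact self_mem_U
      · by_cases h4 : v = w * x
        · rw [h4]; exact mul_mem (mem_U_of_adj a) self_mem_U
        · exact absurd hQ (h.not_inQ (h.symm a) h2 h3 h4)
    · exact absurd hv (h.TL_not_isPt h2)

/-- action of an involution of `C(x)` not in `Q_x` on the five lines -/
theorem act_invol (h : FinHyp z p) (F : Frame z p x y) (hu : u * x = x * u) (hu2 : u * u = 1)
    (h1 : ¬ InQ z p x u) :
    ∃ (j : ZMod 5) (e : ZMod 5 → ZMod 2), ∀ i, u * y i * u⁻¹ = tw x (e i) * y (-i + j) := by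
  obtain ⟨k, j, e, hk, he, hy⟩ := F.act u hu
  have h4 : ∀ i, tw x (e i + e (k * i + j)) * y (k * (k * i + j) + j) = tw x 0 * y i := by
    intro i
    have h5 : u * (u * y i * u⁻¹) * u⁻¹ = y i := by
      calc u * (u * y i * u⁻¹) * u⁻¹ = (u * u) * y i * (u * u)⁻¹ := by group
        _ = y i := by rw [hu2]; group
    have h6 : u * (tw x (e i) * y (k * i + j)) * u⁻¹ =
        (u * tw x (e i) * u⁻¹) * (u * y (k * i + j) * u⁻¹) := by group
    rw [hy, h6, conj_tw hu, hy, ← mul_assoc, ← tw_add F.xx] at h5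
    rw [h5, tw_zero, one_mul]
  have h5 := (F.tw_unique (h4 0)).1
  have h6 := (F.tw_unique (h4 1)).1
  have h7 : (k = 1 ∧ j = 0) ∨ k = -1 := by
    have : ∀ k j : ZMod 5, k * (k * 0 + j) + j = 0 → k * (k * 1 + j) + j = 1 → (k = 1 ∧ j = 0) ∨ k = -1 := by
      decide
    exact this k j h5 h6
  rcases h7 with ⟨rfl, rfl⟩ | rfl
  · exfalso
    exact h1 (F.inQ_iff.mpr ⟨hu, e, he, fun i => by rw [hy, one_mul, add_zero]⟩)
  · exact ⟨j, e, fun i => by rw [hy, neg_one_mul]⟩

omit [Finite G] in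
theorem conj_two (F : Frame z p x y) (hu : u * x = x * u) {σ τ : ZMod 5 → ZMod 5}
    {e e' : ZMod 5 → ZMod 2} (h1 : ∀ i, u * y i * u⁻¹ = tw x (e i) * y (σ i))
    (h2 : ∀ i, v * y i * v⁻¹ = tw x (e' i) * y (τ i)) (i : ZMod 5) :
    (u * v) * y i * (u * v)⁻¹ = tw x (e' i + e (τ i)) * y (σ (τ i)) := by
  calc (u * v) * y i * (u * v)⁻¹ = u * (v * y i * v⁻¹) * u⁻¹ := by group
    _ = (u * tw x (e' i) * u⁻¹) * (u * y (τ i) * u⁻¹) := by rw [h2]; group
    _ = _ := by rw [conj_tw hu, h1, ← mul_assoc, ← tw_add F.xx]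

theorem inQ_mul_of_comm (h : FinHyp z p) (hx : IsPt z x) (hu : u * x = x * u) (hv : v * x = x * v)
    (hu2 : u * u = 1) (hv2 : v * v = 1) (huv : u * v = v * u) (h1 : ¬ InQ z p x u)
    (h2 : ¬ InQ z p x v) : InQ z p x (u * v) := by
  obtain ⟨y, F⟩ := h.exists_frame hx
  obtain ⟨j, e, hy⟩ := h.act_invol F hu hu2 h1
  obtain ⟨j', e', hy'⟩ := h.act_invol F hv hv2 h2
  have h3 := conj_two F hu hy hy'
  have h4 := conj_two F hv hy' hy
  have h5 := h3 0
  rw [huv, h4 0] at h5
  have h6 := (F.tw_unique h5).1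
  have h7 : ∀ j j' : ZMod 5, -(-0 + j) + j' = -(-0 + j') + j → j = j' := by decide
  have h8 := h7 j j' h6
  subst h8
  have hc : u * v * x = x * (u * v) := by rw [mul_assoc, hv, ← mul_assoc, hu, mul_assoc]
  refine ⟨hc, fun w hw => ?_⟩
  obtain ⟨a, i, rfl⟩ := F.adj_iff.mp hw
  have h9 : (u * v) * (tw x a * y i) * (u * v)⁻¹ = tw x (e' i + e (-i + j)) * (tw x a * y i) := by
    calc (u * v) * (tw x a * y i) * (u * v)⁻¹
        = ((u * v) * tw x a * (u * v)⁻¹) * ((u * v) * y i * (u * v)⁻¹) := by group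
      _ = tw x a * (tw x (e' i + e (-i + j)) * y i) := by
          rw [conj_tw hc, h3]
          congr 3
          ring
      _ = _ := by rw [← mul_assoc, ← mul_assoc, ← tw_add F.xx, ← tw_add F.xx, add_comm]
  rw [h9]
  rcases zmod2 (e' i + e (-i + j)) with h10 | h10
  · left; rw [h10, tw_zero, one_mul]
  · right; rw [h10, tw_one]

theorem no_pow_four (h : FinHyp z p) {y : G} (a : Adj z p x w) (b : Adj z p x y) (h1 : y ≠ w)
    (h2 : y ≠ x * w) (hu : u ∈ U z p w) (hu1 : ¬ InQ z p x u) (hv : v ∈ U z p y)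
    (hv1 : ¬ InQ z p x v) : (u * v) ^ 4 ≠ 1 := by
  obtain ⟨y', F, h0, h3⟩ := h.exists_frame_two a b h1 h2
  subst h0 h3
  have hux : u * x = x * u := h.U_comm (h.isPt_right a) hu (mem_U_of_adj (h.symm a))
  have hvx : v * x = x * v := h.U_comm (h.isPt_right b) hv (mem_U_of_adj (h.symm b))
  obtain ⟨j, e, hy⟩ := h.act_invol F hux (h.U_sq (h.isPt_right a) hu) hu1
  obtain ⟨j', e', hy'⟩ := h.act_invol F hvx (h.U_sq (h.isPt_right b) hv) hv1
  have k1 : -0 + j = 0 := by
    have k2 : tw x (e 0) * y' (-0 + j) = tw x 0 * y' 0 := by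
      rw [← hy, h.U_comm (h.isPt_right a) hu self_mem_U, mul_inv_cancel_right, tw_zero, one_mul]
    exact (F.tw_unique k2).1
  have k1' : -1 + j' = 1 := by
    have k2 : tw x (e' 1) * y' (-1 + j') = tw x 0 * y' 1 := by
      rw [← hy', h.U_comm (h.isPt_right b) hv self_mem_U, mul_inv_cancel_right, tw_zero, one_mul]
    exact (F.tw_unique k2).1
  have h5 := conj_two F hux hy hy'
  have hc : u * v * x = x * (u * v) := by rw [mul_assoc, hvx, ← mul_assoc, hux, mul_assoc]
  have h6 := conj_two F hc h5 h5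
  have hc2 : u * v * (u * v) * x = x * (u * v * (u * v)) := by
    rw [mul_assoc, hc, ← mul_assoc, hc, mul_assoc]
  have h7 := conj_two F hc2 h6 h6
  intro h8
  have h9 : u * v * (u * v) * (u * v * (u * v)) = 1 := by
    rw [← h8]
    simp only [pow_succ, pow_zero, one_mul, mul_assoc]
  have h10 := h7 0
  rw [h9] at h10
  have h11 : tw x 0 * y' 0 = 1 * y' 0 * 1⁻¹ := by simp
  have h12 := (F.tw_unique (h11.trans h10)).1
  revert h12
  have h14 : j = 0 := by simpa using k1
  have h15 : j' = 2 := by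
    have : ∀ j' : ZMod 5, -1 + j' = 1 → j' = 2 := by decide
    exact this j' k1'
  subst h14 h15
  decide

theorem center_TL (h : FinHyp z p) (a : TL z p v x w) (hu : u ∈ U z p x)
    (hc : ∀ g, g * x = x * g → g * v = v * g → g * u = u * g) :
    u = 1 ∨ u = x ∨ u = v ∨ u = x * v := by
  obtain ⟨y, F, h0⟩ := h.exists_frame_adj a.1
  obtain ⟨c, s, rfl⟩ := (F.mem v).mp a.2.1
  obtain ⟨b, t, rfl⟩ := (F.mem u).mp hu
  rw [h.tl_iff F h0] at a
  have key : ∀ P : ZMod 5 → ZMod 2, (s = P ∨ s = P + 1) →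
      (∀ t : ZMod 5 → ZMod 2, (∀ e : ZMod 5 → ZMod 2, ∑ i, e i = 0 → ∑ i, e i * P i = 0 → ∑ i, e i * t i = 0) →
        (t = 0 ∨ t = 0 + 1) ∨ (t = P ∨ t = P + 1)) →
      el x y b t = 1 ∨ el x y b t = x ∨ el x y b t = el x y c s ∨ el x y b t = x * el x y c s := by
    intro P hP hdec
    have hsP : el x y c s = el x y c P := by
      rcases hP with rfl | rfl
      · rfl
      · exact F.el_add_one _ _
    have h1 : ∀ e : ZMod 5 → ZMod 2, ∑ i, e i = 0 → ∑ i, e i * P i = 0 → ∑ i, e i * t i = 0 := by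
      intro e he heP
      obtain ⟨g, hg, hgy⟩ := F.real 1 0 e (by decide) he
      have hgy' : ∀ i, g * y i * g⁻¹ = tw x (e i) * y i := fun i => by rw [hgy, one_mul, add_zero]
      have h2 := conj_trans F hg hgy' c P
      rw [heP, add_zero, mul_inv_eq_iff_eq_mul] at h2
      have h3 := hc g hg (by rw [hsP]; exact h2)
      have h4 := conj_trans F hg hgy' b t
      rw [h3, mul_inv_cancel_right] at h4
      have h5 := (F.el_inj h4).1
      have e1 : ∀ a b : ZMod 2, a = a + b → b = 0 := by decide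
      exact e1 _ _ h5
    rw [hsP]
    rcases hdec t h1 with h2 | h2
    · have h3 : el x y b t = tw x b := by
        rcases h2 with rfl | rfl
        · rw [el_tw]
        · rw [F.el_add_one, el_tw]
      rw [h3]
      rcases zmod2 b with rfl | rfl <;> simp
    · have h3 : el x y b t = el x y b P := by
        rcases h2 with rfl | rfl
        · rfl
        · rw [F.el_add_one]
      rw [h3, x_mul_el F.toElem]
      rcases zmod2 b with rfl | rfl <;> rcases zmod2 c with rfl | rfl
      · simp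
      · right; right; right; rfl
      · right; right; right; rw [zero_add]
      · simp
  rcases cd_cases s a with hs | hs
  · exact key _ hs (by decide)
  · exact key _ hs (by decide)

theorem card_cent_TL (h : FinHyp z p) (a : TL z p v x w) :
    Nat.card ↥(centralizer ({x} : Set G) ⊓ centralizer ({v} : Set G) : Subgroup G) = 512 := by
  classical
  obtain ⟨y, F, h0⟩ := h.exists_frame_adj a.1
  let H := centralizer ({x} : Set G)
  letI : MulAction H G := MulAction.compHom G ((MulAut.conj : G →* MulAut G).comp H.subtype)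
  have hsm : ∀ (k : H) (t : G), k • t = (k : G) * t * (k : G)⁻¹ := fun k t => rfl
  have h1 := (MulAction.stabilizer H v).card_mul_index
  rw [MulAction.index_stabilizer, h.card_cent (h.isPt_left a.1)] at h1
  have h2 : Nat.card (MulAction.stabilizer H v) =
      Nat.card ↥(centralizer ({x} : Set G) ⊓ centralizer ({v} : Set G) : Subgroup G) := by
    refine Nat.card_congr
      { toFun := fun k => ⟨k.1.1, k.1.2, ?_⟩
        invFun := fun g => ⟨⟨g.1, g.2.1⟩, ?_⟩
        left_inv := fun k => rfl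
        right_inv := fun g => rfl }
    · have := k.2
      rw [MulAction.mem_stabilizer_iff, hsm, mul_inv_eq_iff_eq_mul] at this
      exact mem_centralizer_singleton_iff.mpr this
    · rw [MulAction.mem_stabilizer_iff, hsm, mul_inv_eq_iff_eq_mul]
      exact mem_centralizer_singleton_iff.mp g.2.2
  -- the orbit has 20 elements
  let S : Finset (ZMod 5 → ZMod 2) := Finset.univ.filter (fun s => (Finset.univ.filter (fun i => s i ≠ 0)).card = 2)
  let O : Finset G := (Finset.univ ×ˢ S).image (fun q : ZMod 2 × (ZMod 5 → ZMod 2) => el x y q.1 q.2)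
  have hO : O.card = 20 := by
    rw [Finset.card_image_of_injOn]
    · have : S.card = 10 := by decide
      rw [Finset.card_product, this]
      decide
    · rintro ⟨b, s⟩ hs ⟨c, t⟩ ht hst
      have hs' : s ∈ S := (Finset.mem_product.mp hs).2
      have ht' : t ∈ S := (Finset.mem_product.mp ht).2
      obtain ⟨k1, k2⟩ := F.el_inj hst
      have k3 : ∀ s t : ZMod 5 → ZMod 2, (Finset.univ.filter (fun i => s i ≠ 0)).card = 2 →
          (Finset.univ.filter (fun i => t i ≠ 0)).card = 2 → (s = t ∨ s = t + 1) → s = t := by decide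
      have k4 := k3 s t (Finset.mem_filter.mp hs').2 (Finset.mem_filter.mp ht').2 k2
      rw [Prod.mk.injEq]
      exact ⟨k1, k4⟩
  obtain ⟨c, s0, hv⟩ := (F.mem v).mp a.2.1
  subst hv
  rw [h.tl_iff F h0] at a
  obtain ⟨s, hs, hs0⟩ : ∃ s : ZMod 5 → ZMod 2, (s = Pi.single 1 1 + Pi.single 4 1 ∨
      s = Pi.single 2 1 + Pi.single 3 1) ∧ el x y c s0 = el x y c s := by
    rcases cd_cases s0 a with (hs | hs) | (hs | hs)
    · exact ⟨_, Or.inl rfl, by rw [hs]⟩
    · exact ⟨_, Or.inl rfl, by rw [hs, F.el_add_one]⟩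
    · exact ⟨_, Or.inr rfl, by rw [hs]⟩
    · exact ⟨_, Or.inr rfl, by rw [hs, F.el_add_one]⟩
  rw [hs0] at h1 h2 ⊢
  have horb : MulAction.orbit H (el x y c s) = (O : Set G) := by
    ext t
    rw [MulAction.mem_orbit_iff, Finset.mem_coe, Finset.mem_image]
    constructor
    · rintro ⟨k, rfl⟩
      have hk : (k : G) * x = x * k := mem_centralizer_singleton_iff.mp k.2
      obtain ⟨k1, j, e, hk1, he, hy⟩ := F.act k hk
      have hkx : (k : G) * x * (k : G)⁻¹ = x := by rw [hk, mul_inv_cancel_right]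
      have h3 : ∀ k : ZMod 5, k ≠ 0 → ∃ k', k * k' = 1 := by decide
      obtain ⟨k', hk'⟩ := h3 k1 hk1
      refine ⟨(c + ∑ i, e i * s i, fun m => s (k' * (m - j))), ?_, ?_⟩
      · rw [Finset.mem_product]
        refine ⟨Finset.mem_univ _, Finset.mem_filter.mpr ⟨Finset.mem_univ _, ?_⟩⟩
        have e1 : ∀ k' j : ZMod 5, k' ≠ 0 → ∀ s : ZMod 5 → ZMod 2, (s = Pi.single 1 1 + Pi.single 4 1 ∨
            s = Pi.single 2 1 + Pi.single 3 1) →
            (Finset.univ.filter (fun m => s (k' * (m - j)) ≠ 0)).card = 2 := by decide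
        refine e1 k' j ?_ s hs
        rintro rfl
        rw [mul_zero] at hk'
        exact absurd hk' (by decide)
      · show el x y (c + ∑ i, e i * s i) (fun m => s (k' * (m - j))) = k • el x y c s
        rw [hsm, el_conj, hkx, show (fun i => (k : G) * y i * (k : G)⁻¹) =
          fun i => tw x (e i) * y (k1 * i + j) from funext hy, el_aff F.toElem hk']
    · rintro ⟨⟨b, t⟩, ht, rfl⟩
      have ht' : t ∈ S := (Finset.mem_product.mp ht).2
      have e1 : ∀ s t : ZMod 5 → ZMod 2, (s = Pi.single 1 1 + Pi.single 4 1 ∨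
            s = Pi.single 2 1 + Pi.single 3 1) →
          (Finset.univ.filter (fun i => t i ≠ 0)).card = 2 →
          ∃ k k' j : ZMod 5, k * k' = 1 ∧ k ≠ 0 ∧ t = fun m => s (k' * (m - j)) := by decide
      have e2 : ∀ s : ZMod 5 → ZMod 2, (s = Pi.single 1 1 + Pi.single 4 1 ∨
            s = Pi.single 2 1 + Pi.single 3 1) → ∀ c : ZMod 2,
            ∃ e : ZMod 5 → ZMod 2, ∑ i, e i = 0 ∧ ∑ i, e i * s i = c := by decide
      obtain ⟨k, k', j, hk, hk0, hts⟩ := e1 s t hs (Finset.mem_filter.mp ht').2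
      obtain ⟨e, he, hes⟩ := e2 s hs (c + b)
      obtain ⟨g, hg, hgy⟩ := F.real k j e hk0 he
      refine ⟨⟨g, mem_centralizer_singleton_iff.mpr hg⟩, ?_⟩
      have hgx : g * x * g⁻¹ = x := by rw [hg, mul_inv_cancel_right]
      show g * el x y c s * g⁻¹ = el x y b t
      rw [el_conj, hgx, show (fun i => g * y i * g⁻¹) = fun i => tw x (e i) * y (k * i + j) from funext hgy,
        el_aff F.toElem hk, hes, hts]
      have e3 : ∀ a b : ZMod 2, a + (a + b) = b := by decide
      rw [e3]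
  rw [horb, Set.ncard_coe_finset, hO] at h1
  rw [← h2]
  omega

end FinHyp

end Cfsg.Agent.Classification.TitsFin
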