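import Mathlib

/-!
# Module core of case B (`2F4(2)` type, blueprint `P21-FIN-helper531.md`, (B3))

`N = Q/K`, `M = U/⟨p⟩` (both of exponent 2 with a fixed point free automorphism of order 5), `σ : N → M` the squaring
map of `O/U`, `c` the commutator map, `ρ` the commutator with an element of `K - U`.
-/

set_option autoImplicit false

namespace Cfsg.Agent.Classification.TitsFin.TriBCore

variable {N M : Type*} [AddCommGroup N] [AddCommGroup M]

/-- The data of (B3): `n i = f1 ^ (f ^ i)`, `F`, `F'` the actions of `f`. -/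
structure Data (F : N →+ N) (F' : M →+ M) (ρ : N →+ M) (σ : N → M) (c : N → N → M) (n : ZMod 5 → N)
    (H : AddSubgroup M) (j jw ν : ℕ) (a x : N) : Prop where
  n2 : ∀ x : N, x + x = 0
  m2 : ∀ y : M, y + y = 0
  Fn : ∀ i, F (n i) = n (i + 1)
  F5 : ∀ y, F' (F' (F' (F' (F' y)))) = y
  free : ∀ y, F' y = y → y = 0
  Fρ : ∀ x, ρ (F x) = F' (ρ x)
  Fσ : ∀ x, σ (F x) = F' (σ x)
  Fc : ∀ x y, c (F x) (F y) = F' (c x y)
  inj : ∀ x, ρ x = 0 → x = 0
  n0 : n 0 ≠ 0
  add : ∀ x y, σ (x + y) = σ x + σ y + c x y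
  cadd : ∀ x y z, c x (y + z) = c x y + c x z
  symm : ∀ x y, c x y = c y x
  sum : n 0 + (n 1 + n 4) + (n 2 + n 3) = 0
  cov : ∀ x : N, x = 0 ∨ ∃ i, x = n i ∨ x = n (i + 1) + n (i - 1) ∨ x = n (i + 2) + n (i - 2)
  ha : a = n 1 + n 4 ∨ a = n 2 + n 3
  hj : j = 0 ∨ j = 1
  hjw : jw = 0 ∨ jw = 1
  hν : ν = 0 ∨ ν = 1
  s1 : σ (n 0) = jw • ρ (n 0)
  s2 : σ a = j • ρ a + ν • ρ (n 0)
  s3 : c a (n 0) = j • ρ (n 0) + jw • ρ a
  s4 : σ (a + n 0) = (j + jw) • ρ (a + n 0) + ν • ρ (n 0)
  s5 : σ (a + n 0) = j • ρ (a + n 0) + ν • ρ (n 0)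
  hx : ρ x ∈ H
  hx' : σ x ∉ H

namespace Data

variable {F : N →+ N} {F' : M →+ M} {ρ : N →+ M} {σ : N → M} {c : N → N → M} {n : ZMod 5 → N}
    {H : AddSubgroup M} {j jw ν : ℕ} {a x : N}

theorem sum14_ne (h : Data F F' ρ σ c n H j jw ν a x) : n 1 + n 4 ≠ 0 := by
  intro h0
  have e1 : n 1 = n 4 := by
    have : n 1 + n 4 + n 4 = n 4 := by rw [h0, zero_add]
    rwa [add_assoc, h.n2, add_zero] at this
  -- n (1 + k) = n (4 + k)
  have e2 : n 2 = n 0 := by
    have := congrArg F e1
    rwa [h.Fn, h.Fn] at this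
  have e3 : n 3 = n 1 := by
    have := congrArg F e2
    rwa [h.Fn, h.Fn] at this
  have e4 : n 0 = n 3 := by
    have := congrArg F (congrArg F e2)
    rw [h.Fn, h.Fn, h.Fn, h.Fn] at this
    have e5 : n 4 = n 2 := this
    rw [← e2, ← e5, ← e1, e3]
  have e5 : F' (ρ (n 0)) = ρ (n 0) := by
    rw [← h.Fρ, h.Fn]
    show ρ (n 1) = _
    rw [← e3, ← e4]
  exact h.n0 (h.inj _ (h.free _ e5))

theorem sum23_ne (h : Data F F' ρ σ c n H j jw ν a x) : n 2 + n 3 ≠ 0 := by
  intro h0
  have e1 : n 2 = n 3 := by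
    have : n 2 + n 3 + n 3 = n 3 := by rw [h0, zero_add]
    rwa [add_assoc, h.n2, add_zero] at this
  have e2 : n 3 = n 4 := by
    have := congrArg F e1
    rwa [h.Fn, h.Fn] at this
  have e3 : n 4 = n 0 := by
    have := congrArg F e2
    rwa [h.Fn, h.Fn] at this
  have e4 : n 0 = n 1 := by
    have := congrArg F e3
    rwa [h.Fn, h.Fn] at this
  have e5 : F' (ρ (n 0)) = ρ (n 0) := by
    rw [← h.Fρ, h.Fn]
    show ρ (n 1) = _
    rw [← e4]
  exact h.n0 (h.inj _ (h.free _ e5))

theorem a1_add (h : Data F F' ρ σ c n H j jw ν a x) : n 1 + n 4 + n 0 = n 2 + n 3 := by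
  have h1 := h.sum
  have : n 0 + (n 1 + n 4) + (n 2 + n 3) + (n 2 + n 3) = n 2 + n 3 := by rw [h1, zero_add]
  rw [add_assoc (n 0 + (n 1 + n 4)), h.n2, add_zero] at this
  rw [← this, add_comm (n 0)]

theorem a2_add (h : Data F F' ρ σ c n H j jw ν a x) : n 2 + n 3 + n 0 = n 1 + n 4 := by
  rw [← h.a1_add, add_assoc, h.n2, add_zero]

theorem jw_eq (h : Data F F' ρ σ c n H j jw ν a x) : jw = 0 := by
  rcases h.hjw with h0 | h1
  · exact h0
  · exfalso
    have e := h.s4.symm.trans h.s5
    rw [h1, add_smul, one_smul] at e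
    have e1 : ρ (a + n 0) = 0 := by
      have e2 : j • ρ (a + n 0) + ρ (a + n 0) + ν • ρ (n 0)
        = ρ (a + n 0) + (j • ρ (a + n 0) + ν • ρ (n 0)) := by abel
      rw [e2] at e
      exact left_eq_add.mp (by rw [add_comm]; exact e.symm)
    have e2 := h.inj _ e1
    rcases h.ha with ha | ha
    · rw [ha, h.a1_add] at e2
      exact h.sum23_ne e2
    · rw [ha, h.a2_add] at e2
      exact h.sum14_ne e2

theorem s1' (h : Data F F' ρ σ c n H j jw ν a x) : σ (n 0) = 0 := by
  rw [h.s1, h.jw_eq, zero_smul]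

/-- both `a`'s -/
theorem sa (h : Data F F' ρ σ c n H j jw ν a x) (b : N) (hb : b = n 1 + n 4 ∨ b = n 2 + n 3) :
    σ b = j • ρ b + ν • ρ (n 0) := by
  have h1 : b = a ∨ b = a + n 0 := by
    rcases h.ha with ha | ha <;> rcases hb with hb | hb
    · exact Or.inl (hb.trans ha.symm)
    · exact Or.inr (by rw [hb, ha, h.a1_add])
    · exact Or.inr (by rw [hb, ha, h.a2_add])
    · exact Or.inl (hb.trans ha.symm)
  rcases h1 with rfl | rfl
  · exact h.s2
  · exact h.s5

theorem c_self (h : Data F F' ρ σ c n H j jw ν a x) (y : N) : c y y = 0 := by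
  have h0 : ∀ z, c z 0 = 0 := by
    intro z
    have := h.cadd z 0 0
    rw [add_zero] at this
    exact left_eq_add.mp this
  have hs0 : σ 0 = 0 := by
    have := h.add 0 0
    rw [add_zero, h.m2, zero_add, h0] at this
    exact this
  have := h.add y y
  rw [h.n2, hs0, h.m2, zero_add] at this
  exact this.symm

/-- The conclusion of (B3). -/
theorem main (h : Data F F' ρ σ c n H j jw ν a x) : jw = 0 ∧ j = 1 ∧ ν = 1 := by
  have hjw := h.jw_eq
  refine ⟨hjw, ?_⟩
  -- covering principle
  have cover : (∀ b, (b = n 0 ∨ b = n 1 + n 4 ∨ b = n 2 + n 3) → (σ b = 0 ∨ σ b = ρ b)) → False := by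
    intro hP
    have hstep : ∀ y, (σ y = 0 ∨ σ y = ρ y) → (σ (F y) = 0 ∨ σ (F y) = ρ (F y)) := by
      intro y hy
      rcases hy with hy | hy
      · left; rw [h.Fσ, hy, map_zero]
      · right; rw [h.Fσ, hy, h.Fρ]
    have h0 : ∀ z, c z 0 = 0 := by
      intro z
      have := h.cadd z 0 0
      rw [add_zero] at this
      exact left_eq_add.mp this
    have hs0 : σ 0 = 0 := by
      have := h.add 0 0
      rw [add_zero, h.m2, zero_add, h0] at this
      exact this
    have key : ∀ y, (σ y = 0 ∨ σ y = ρ y) := by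
      intro y
      have hall : ∀ b : ZMod 5 → N, (∀ i, F (b i) = b (i + 1)) → (σ (b 0) = 0 ∨ σ (b 0) = ρ (b 0)) →
          ∀ i, (σ (b i) = 0 ∨ σ (b i) = ρ (b i)) := by
        intro b hb h0 i
        have h1 := hstep _ h0
        rw [hb] at h1
        have h2 := hstep _ h1
        rw [hb] at h2
        have h3 := hstep _ h2
        rw [hb] at h3
        have h4 := hstep _ h3
        rw [hb] at h4
        have hi : ∀ i : ZMod 5, i = 0 ∨ i = 0 + 1 ∨ i = 0 + 1 + 1 ∨ i = 0 + 1 + 1 + 1 ∨
            i = 0 + 1 + 1 + 1 + 1 := by decide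
        rcases hi i with rfl | rfl | rfl | rfl | rfl
        · exact h0
        · exact h1
        · exact h2
        · exact h3
        · exact h4
      rcases h.cov y with rfl | ⟨i, rfl | rfl | rfl⟩
      · left; exact hs0
      · exact hall n h.Fn (hP _ (Or.inl rfl)) i
      · refine hall (fun i => n (i + 1) + n (i - 1)) (fun i => ?_) (hP _ (Or.inr (Or.inl ?_))) i
        · rw [map_add, h.Fn, h.Fn]
          congr 2
          ring
        · show n (0 + 1) + n (0 - 1) = n 1 + n 4
          rfl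
      · refine hall (fun i => n (i + 2) + n (i - 2)) (fun i => ?_) (hP _ (Or.inr (Or.inr ?_))) i
        · rw [map_add, h.Fn, h.Fn]
          congr 2
          · ring
          · ring
        · show n (0 + 2) + n (0 - 2) = n 2 + n 3
          rfl
    rcases key x with h1 | h1
    · exact h.hx' (by rw [h1]; exact H.zero_mem)
    · exact h.hx' (by rw [h1]; exact h.hx)
  rcases h.hj with hj | hj
  · exfalso
    rcases h.hν with hν | hν
    · apply cover
      intro b hb
      left
      rcases hb with rfl | hb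
      · exact h.s1'
      · rw [h.sa b hb, hj, hν, zero_smul, zero_smul, add_zero]
    · -- j = 0, ν = 1
      have hc : c (n 0) a = 0 := by
        rw [h.symm, h.s3, hj, hjw, zero_smul, zero_smul, add_zero]
      have hc1 : c (n 0) (n 1 + n 4) = 0 := by
        rcases h.ha with ha | ha
        · rw [← ha, hc]
        · have : n 1 + n 4 = a + n 0 := by rw [ha, h.a2_add]
          rw [this, h.cadd, hc, h.c_self, add_zero]
      have hc2 : c (n 0) (n 2 + n 3) = 0 := by
        rw [← h.a1_add, h.cadd, hc1, h.c_self, add_zero]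
      have hfix : ∀ y, F' (F' y) = y → y = 0 := by
        intro y hy
        apply h.free
        have h5 := h.F5 y
        rw [hy, hy] at h5
        exact h5
      have hfix4 : ∀ y, F' (F' (F' (F' y))) = y → y = 0 := by
        intro y hy
        apply h.free
        have h5 := h.F5 y
        rwa [hy] at h5
      have haddzero : ∀ y z : M, y + z = 0 → z = y := by
        intro y z hyz
        have : y + (y + z) = y := by rw [hyz, add_zero]
        rwa [← add_assoc, h.m2, zero_add] at this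
      have c1 : c (n 0) (n 1) = 0 := by
        rw [h.cadd] at hc1
        have e1 : c (n 0) (n 4) = F' (F' (F' (F' (c (n 0) (n 1))))) := by
          rw [← h.Fc, ← h.Fc, ← h.Fc, ← h.Fc, h.Fn, h.Fn, h.Fn, h.Fn, h.Fn, h.Fn, h.Fn, h.Fn, h.symm]
          rfl
        exact hfix4 _ (by rw [← e1]; exact haddzero _ _ hc1)
      have c3 : c (n 0) (n 3) = 0 := by
        rw [h.cadd] at hc2
        have e1 : c (n 0) (n 2) = F' (F' (c (n 0) (n 3))) := by
          rw [← h.Fc, ← h.Fc, h.Fn, h.Fn, h.Fn, h.Fn, h.symm]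
          rfl
        exact hfix _ (by rw [← e1]; exact haddzero _ _ (by rw [add_comm]; exact hc2))
      have s4 : ∀ i, σ (n i) = 0 := by
        have hs : ∀ i, σ (n i) = 0 → σ (n (i + 1)) = 0 := by
          intro i hi
          rw [← h.Fn, h.Fσ, hi, map_zero]
        have h0 := h.s1'
        have h1 := hs _ h0
        have h2 := hs _ h1
        have h3 := hs _ h2
        have h4 := hs _ h3
        intro i
        have hi : ∀ i : ZMod 5, i = 0 ∨ i = 0 + 1 ∨ i = 0 + 1 + 1 ∨ i = 0 + 1 + 1 + 1 ∨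
            i = 0 + 1 + 1 + 1 + 1 := by decide
        rcases hi i with rfl | rfl | rfl | rfl | rfl
        · exact h0
        · exact h1
        · exact h2
        · exact h3
        · exact h4
      have hc14 : c (n 1) (n 4) = 0 := by
        have : c (n 1) (n 4) = F' (c (n 0) (n 3)) := by
          rw [← h.Fc, h.Fn, h.Fn]
          rfl
        rw [this, c3, map_zero]
      have hs14 := h.add (n 1) (n 4)
      rw [s4, s4, hc14, h.sa _ (Or.inl rfl), hj, hν, zero_smul, one_smul, zero_add, add_zero, add_zero] at hs14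
      exact h.n0 (h.inj _ hs14)
  · refine ⟨hj, ?_⟩
    rcases h.hν with hν | hν
    · exfalso
      apply cover
      intro b hb
      rcases hb with rfl | hb
      · left; exact h.s1'
      · right
        rw [h.sa b hb, hj, hν, zero_smul, one_smul, add_zero]
    · exact hν

end Data

end Cfsg.Agent.Classification.TitsFin.TriBCore
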