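import Mathlib
import Cfsg.Agent.Classification.TitsFin.TriB
import Cfsg.Agent.Classification.TitsFin.TriMore

/-!
# Section B, the field `pt_orb` of `TwoFEnd.Data`

An involution `x ∈ C_p` outside `K_p` has more than two conjugates under `K_p`.
-/

set_option autoImplicit false

namespace Cfsg.Agent.Classification.TitsFin.TriBOrb

open Subgroup Cfsg Cfsg.Agent.ZN Cfsg.Agent.MinSimple.Geo
open Cfsg.Agent.Classification.TitsFin.Tri (Pt kst K Q)
open Cfsg.Agent.Classification.TitsFin.TriAct
open Cfsg.Agent.ZN.Block (card_mul_relIndex')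

universe u

variable {G : Type u} [Group G] [Finite G] {V : Subgroup G} {U C : G → Subgroup G} {p : G}

/-- `|A ⊓ B| · |A : B ⊓ A| = |A|` -/
theorem card_inf_mul (A B : Subgroup G) : Nat.card ↥(B ⊓ A) * B.relIndex A = Nat.card A := by
  have h1 := card_mul_relIndex' (K := B ⊓ A) (L := A) inf_le_right
  rwa [inf_relIndex_right] at h1

theorem pt_orb (h : Tri V U C) (hp : Pt V p) (hK : Nat.card ↥(K U p) = 64)
    {x : G} (hx : x ∈ C p) (hx1 : x * x = 1) (hxK : x ∉ K U p) :
    2 < (centralizer ({x} : Set G)).relIndex (K U p) := by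
  set Z := centralizer ({x} : Set G) with hZ
  have hUK := h.U_le_K hp
  by_cases hxQ : x ∈ Q U C p
  · -- `C_K(x) = C_U(x) < U`
    have h1 : Z ⊓ K U p ≤ Z ⊓ U p := by
      rintro k ⟨hk1, hk2⟩
      refine ⟨hk1, ?_⟩
      by_contra hkU
      have h2 := mem_centralizer_singleton_iff.mp hk1
      exact hxK (TriB.rho h hp hK hk2 hkU hxQ (Or.inl (by rw [← h2, mul_inv_cancel_right])))
    have h2 : Nat.card ↥(Z ⊓ U p) ≠ 32 := by
      intro h3
      apply hxK
      have h4 : Z ⊓ U p = U p := SetLike.coe_injective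
        (Set.Finite.eq_of_subset_of_card_le (Set.toFinite _) inf_le_right (by
          have := h.cardU p hp
          change Nat.card ↥(U p) ≤ Nat.card ↥(Z ⊓ U p)
          omega))
      refine mem_centralizer_iff.mpr fun u hu => ?_
      rw [← h4] at hu
      exact mem_centralizer_singleton_iff.mp hu.1
    have h3 : Nat.card ↥(Z ⊓ U p) ∣ 32 := by
      rw [← h.cardU p hp]
      exact card_dvd_of_le inf_le_right
    have h4 : Nat.card ↥(Z ⊓ U p) ≤ 16 := by
      have h5 : Nat.card ↥(Z ⊓ U p) ∣ 2 ^ 5 := h3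
      obtain ⟨i, hi, hi2⟩ := (Nat.dvd_prime_pow Nat.prime_two).mp h5
      interval_cases i <;> simp_all
    have h5 := card_inf_mul (K U p) Z
    have h6 := card_le_of_le h1
    rw [hK] at h5
    by_contra hcon
    push Not at hcon
    have : Nat.card ↥(Z ⊓ K U p) * Z.relIndex (K U p) ≤ 16 * 2 := Nat.mul_le_mul (by omega) hcon
    omega
  · -- `|C_U(x)| ≤ 8`
    have hxx : x * x ∈ Q U C p := by rw [hx1]; exact one_mem _
    have hpp := h.pp hp
    let W : Subgroup G :=
      { carrier := {u | u ∈ U p ∧ (x * u * x⁻¹ = u ∨ x * u * x⁻¹ = p * u)}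
        mul_mem' := by
          rintro a b ⟨ha, ha1⟩ ⟨hb, hb1⟩
          have e : x * (a * b) * x⁻¹ = (x * a * x⁻¹) * (x * b * x⁻¹) := by group
          have hap : a * p = p * a := h.commU hp ha (h.p_mem hp hp)
          refine ⟨mul_mem ha hb, ?_⟩
          rw [e]
          rcases ha1 with ha1 | ha1 <;> rcases hb1 with hb1 | hb1 <;> rw [ha1, hb1]
          · left; rfl
          · right; rw [← mul_assoc, hap, mul_assoc]
          · right; rw [mul_assoc]
          · left
            rw [mul_assoc, ← mul_assoc a, hap, mul_assoc p a b, ← mul_assoc, hpp, one_mul]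
        one_mem' := ⟨one_mem _, Or.inl (by simp)⟩
        inv_mem' := by
          rintro a ⟨ha, ha1⟩
          have e : a⁻¹ = a := inv_eq_self (h.sqU p hp a ha)
          change a⁻¹ ∈ U p ∧ _
          rw [e]
          exact ⟨ha, ha1⟩ }
    have h1 := TriMore.card_fix h hp hx hxx hxQ (W := W) (fun u => Iff.rfl)
    have h2 : Z ⊓ U p ≤ W := by
      rintro u ⟨hu1, hu2⟩
      have h3 := mem_centralizer_singleton_iff.mp hu1
      exact ⟨hu2, Or.inl (by rw [← h3, mul_inv_cancel_right])⟩
    have h3 := card_le_of_le h2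
    have h4 := card_inf_mul (U p) Z
    rw [h.cardU p hp] at h4
    have h5 : Z.relIndex (U p) ≤ Z.relIndex (K U p) := by
      refine relIndex_le_of_le_right hUK ?_
      intro h0
      have h6 := card_inf_mul (K U p) Z
      rw [h0, hK] at h6
      omega
    by_contra hcon
    push Not at hcon
    have : Nat.card ↥(Z ⊓ U p) * Z.relIndex (U p) ≤ 8 * 2 := Nat.mul_le_mul (by omega) (by omega)
    omega

end Cfsg.Agent.Classification.TitsFin.TriBOrb
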