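import Mathlib

/-!
# The transfer end of case B (`2F4(2)` type, blueprint `P21-FIN-helper531.md`, (B9))

`H` of odd index, `ε : H →* ℤˣ`, `k ^ 4 = 1`; `ε = -1` on all conjugates of `k` in `H`, `ε = 1` on all conjugates
of `k ^ 2` in `H`. Then `G` has a normal subgroup of index 2.
-/

set_option autoImplicit false

namespace Cfsg.Agent.Classification.TitsFin.TriBTransfer

open MulAction

theorem transfer_eq {G : Type*} [Group G] (H : Subgroup G) [H.FiniteIndex] (ε : H →* ℤˣ) (k : G)
    (hk : k ^ 4 = 1) (hodd : Odd H.index) (h1 : ∀ x : H, IsConj k (x : G) → ε x = -1)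
    (h2 : ∀ x : H, IsConj (k ^ 2) (x : G) → ε x = 1) : MonoidHom.transfer ε k = -1 := by
  classical
  have hfin : Finite (G ⧸ H) := H.finite_quotient_of_finiteIndex
  have := Fintype.ofFinite (G ⧸ H)
  have := Fintype.ofFinite (Quotient (orbitRel (Subgroup.zpowers k) (G ⧸ H)))
  rw [MonoidHom.transfer_eq_prod_quotient_orbitRel_zpowers_quot]
  have hmin : ∀ x : G ⧸ H, Function.minimalPeriod (k • ·) x = 1 ∨
      Function.minimalPeriod (k • ·) x = 2 ∨ Function.minimalPeriod (k • ·) x = 4 := by
    intro x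
    have h1 : Function.IsPeriodicPt (k • ·) 4 x := by
      show (k • ·)^[4] x = x
      rw [smul_iterate, hk]
      exact one_smul G x
    have h2 : Function.minimalPeriod (k • ·) x ∣ 4 := h1.minimalPeriod_dvd
    have h3 : Function.minimalPeriod (k • ·) x ≤ 4 := Nat.le_of_dvd (by norm_num) h2
    generalize Function.minimalPeriod (k • ·) x = m at h2 h3
    interval_cases m <;> simp_all
  have hfac : ∀ q : Quotient (orbitRel (Subgroup.zpowers k) (G ⧸ H)),
      ε ⟨q.out.out⁻¹ * k ^ Function.minimalPeriod (k • ·) q.out * q.out.out,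
        QuotientGroup.out_conj_pow_minimalPeriod_mem H k q.out⟩ =
      (-1) ^ Function.minimalPeriod (k • ·) q.out := by
    intro q
    rcases hmin q.out with h | h | h
    · refine Eq.trans ?_ (show (-1 : ℤˣ) = (-1) ^ Function.minimalPeriod (k • ·) q.out by rw [h, pow_one])
      apply h1
      rw [isConj_iff]
      refine ⟨q.out.out⁻¹, ?_⟩
      simp only [h, pow_one, inv_inv]
    · refine Eq.trans ?_ (show (1 : ℤˣ) = (-1) ^ Function.minimalPeriod (k • ·) q.out by rw [h]; rfl)
      apply h2
      rw [isConj_iff]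
      refine ⟨q.out.out⁻¹, ?_⟩
      simp only [h, inv_inv]
    · refine Eq.trans ?_ (show (1 : ℤˣ) = (-1) ^ Function.minimalPeriod (k • ·) q.out by rw [h]; rfl)
      have key : (⟨q.out.out⁻¹ * k ^ Function.minimalPeriod (k • ·) q.out * q.out.out,
          QuotientGroup.out_conj_pow_minimalPeriod_mem H k q.out⟩ : H) = 1 := by
        apply Subtype.ext
        simp only [Subgroup.coe_one]
        rw [h, hk]
        group
      rw [key, map_one]
  rw [Finset.prod_congr rfl (fun q _ => hfac q), Finset.prod_pow_eq_pow_sum]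
  have hsum : ∑ q : Quotient (orbitRel (Subgroup.zpowers k) (G ⧸ H)),
      Function.minimalPeriod (k • ·) q.out = H.index := by
    rw [Subgroup.index_eq_sum_minimalPeriod H k]
  rw [hsum, hodd.neg_one_pow]

theorem exists_index_two {G : Type*} [Group G] [Finite G] (H : Subgroup G) (ε : H →* ℤˣ) (k : G)
    (hk : k ^ 4 = 1) (hodd : Odd H.index) (h1 : ∀ x : H, IsConj k (x : G) → ε x = -1)
    (h2 : ∀ x : H, IsConj (k ^ 2) (x : G) → ε x = 1) : ∃ N : Subgroup G, N.Normal ∧ N.index = 2 := by
  classical
  set f : G →* ℤˣ := MonoidHom.transfer ε with hf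
  have h3 : f k = -1 := transfer_eq H ε k hk hodd h1 h2
  refine ⟨f.ker, inferInstance, ?_⟩
  rw [Subgroup.index_ker]
  have : f.range = ⊤ := by
    rw [eq_top_iff]
    intro x _
    rcases Int.units_eq_one_or x with rfl | rfl
    · exact f.range.one_mem
    · exact ⟨k, h3⟩
  rw [this, Subgroup.card_top, Nat.card_eq_fintype_card]
  rfl

end Cfsg.Agent.Classification.TitsFin.TriBTransfer
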